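import Groth.Agent.CAlg15.FourTermFlat
import Groth.Agent.LocCoh.Depth

/-! Flatness in a four term exact sequence from the vanishing of second local cohomology of the closed fibre. -/

set_option autoImplicit false

universe u

open TensorProduct IsLocalRing RingTheory.Sequence Function
open scoped Pointwise

namespace Groth.Agent.CAlg15.FourTermH2

variable {A B : Type u} [CommRing A] [CommRing B] [Algebra A B]
  {E0 E1 : Type u} [AddCommGroup E0] [Module B E0] [Module A E0] [IsScalarTower A B E0]
  [AddCommGroup E1] [Module B E1] [Module A E1] [IsScalarTower A B E1]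

variable (A) in
/-- `u ⊗ W` -/
abbrev uT (u : E0 →ₗ[B] E1) (W : Type u) [AddCommGroup W] [Module A W] : E0 ⊗[A] W →ₗ[B] E1 ⊗[A] W :=
  AlgebraTensorModule.rTensor A W u

variable (A) in
/-- kernel of `u ⊗ W` -/
abbrev MW (u : E0 →ₗ[B] E1) (W : Type u) [AddCommGroup W] [Module A W] : Submodule B (E0 ⊗[A] W) :=
  LinearMap.ker (uT A u W)

theorem uT_natural (u : E0 →ₗ[B] E1) {W W' : Type u} [AddCommGroup W] [Module A W] [AddCommGroup W'] [Module A W']
    (i : W →ₗ[A] W') (x : E0 ⊗[A] W) :
    uT A u W' (AlgebraTensorModule.lTensor B E0 i x) = AlgebraTensorModule.lTensor B E1 i (uT A u W x) := by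
  induction x with
  | zero => simp
  | add a b ha hb => simp only [map_add, ha, hb]
  | tmul e w => simp

/-- functoriality of the kernels -/
def mm (u : E0 →ₗ[B] E1) {W W' : Type u} [AddCommGroup W] [Module A W] [AddCommGroup W'] [Module A W']
    (i : W →ₗ[A] W') : MW A u W →ₗ[B] MW A u W' :=
  (AlgebraTensorModule.lTensor B E0 i).restrict fun x hx => by
    rw [LinearMap.mem_ker, uT_natural, LinearMap.mem_ker.1 hx, map_zero]

theorem finite_tensor [Module.Finite B E0] (W : Type u) [AddCommGroup W] [Module A W] [Module.Finite A W] :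
    Module.Finite B (E0 ⊗[A] W) := by
  obtain ⟨n, π, hπ⟩ := Module.Finite.exists_fin' A W
  exact Module.Finite.of_surjective
    ((AlgebraTensorModule.lTensor B E0 π).comp (TensorProduct.piScalarRight A B E0 (Fin n)).symm.toLinearMap)
    ((LinearMap.lTensor_surjective E0 hπ).comp (LinearEquiv.surjective _))

theorem eq_zero_of_torsion {J : Ideal B} {N : Type u} [AddCommGroup N] [Module B N]
    (h : _root_.LocCoh.IsPowerTorsion J N) [Subsingleton (_root_.LocCoh.H J 0 N)] (x : N) : x = 0 :=
  congrArg Subtype.val (((LocCoh.H0Equiv J N).symm.toEquiv.subsingleton).elim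
    (⟨x, h x⟩ : LocCoh.powTorsion J N) 0)

theorem isPowerTorsion_of_off [IsNoetherianRing B] {J : Ideal B} {N : Type u} [AddCommGroup N] [Module B N]
    (h : ∀ x : N, ∀ q : PrimeSpectrum B, ¬ J ≤ q.asIdeal → ∃ s ∉ q.asIdeal, s • x = 0) :
    _root_.LocCoh.IsPowerTorsion J N := fun x => by
  obtain ⟨n, hn⟩ := exists_pow_le_colon J (⊥ : Submodule B N) x (by simpa using h x)
  exact ⟨n, by simpa using hn⟩

variable [IsNoetherianRing A] [IsNoetherianRing B] [IsLocalRing A] [IsLocalRing B] [IsLocalHom (algebraMap A B)]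
  (J : Ideal B)
  {F G : Type u} [AddCommGroup F] [Module B F] [Module A F] [IsScalarTower A B F] [Module.Finite B F]
  [AddCommGroup G] [Module B G] [Module A G] [IsScalarTower A B G]
  [Module.Finite B E0] [Module.Flat A E0] [Module.Finite B E1] [Module.Flat A E1]

local notation "k" => A ⧸ maximalIdeal A

theorem weaklyRegular_tensor {E : Type u} [AddCommGroup E] [Module B E] [Module A E] [IsScalarTower A B E]
    [Module.Finite B E] [Module.Flat A E] (r : ℕ)
    (h : ((r + 1 : ℕ) : ℕ∞) ≤ _root_.LocCoh.idealDepth J (EGA4.FibMod A B E))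
    {n : ℕ} (W : Type u) [AddCommGroup W] [Module A W] [Module.Finite A W]
    (hW : ∀ a ∈ maximalIdeal A ^ n, ∀ x : W, a • x = 0) :
    ((r + 1 : ℕ) : ℕ∞) ≤ _root_.LocCoh.idealDepth J (E ⊗[A] W) := by
  obtain ⟨l, hl, hm, hw⟩ := FlatOff.exists_list_of_le_idealDepth J (r + 1) h
  obtain ⟨a, fs, rfl⟩ := List.exists_cons_of_length_eq_add_one hl
  haveI : Module.Finite B (E ⊗[A] W) := finite_tensor (A := A) W
  rw [← hl]
  exact FlatOff.le_idealDepth_of_list J hm (FlatOff.regular_and_injective J E
    (fun q _ => flat_localizedModule q.asIdeal.primeCompl) (hm a (by simp)) hw n hW)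

variable {J}
variable (u : E0 →ₗ[B] E1) (v : E1 →ₗ[B] G) (huv : Exact u v) (hv : Surjective v)
  (hGU : ∀ q : PrimeSpectrum B, ¬ J ≤ q.asIdeal → FlatCA.FlatAt A q.asIdeal G)
  (h0 : 2 ≤ _root_.LocCoh.idealDepth J (EGA4.FibMod A B E0))
  (h1 : 1 ≤ _root_.LocCoh.idealDepth J (EGA4.FibMod A B E1))

include h0 h1 in
theorem H_MW {n : ℕ} (W : Type u) [AddCommGroup W] [Module A W] [Module.Finite A W]
    (hW : ∀ a ∈ maximalIdeal A ^ n, ∀ x : W, a • x = 0) (i : ℕ) (hi : i < 2) :
    Subsingleton (_root_.LocCoh.H J i (MW A u W)) := by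
  haveI : Module.Finite B (E0 ⊗[A] W) := finite_tensor (A := A) W
  haveI : Module.Finite B (E1 ⊗[A] W) := finite_tensor (A := A) W
  refine (LocCoh.natCast_le_idealDepth_iff_H J (MW A u W) 2).1 ?_ i hi
  have e0 := weaklyRegular_tensor J (E := E0) 1 (by simpa using h0) W hW
  have e1 := weaklyRegular_tensor J (E := E1) 0 (by simpa using h1) W hW
  simpa using (idealDepth_of_exact J (MW A u W).subtype (uT A u W) Subtype.val_injective
    (LinearMap.exact_subtype_ker_map _)).2 (by simpa using e0) (by simpa using e1)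

include huv hv hGU h0 h1 in
/-- lifting of the kernel along a small extension -/
theorem mm_surjective (h3 : Subsingleton (_root_.LocCoh.H J 2 (MW A u k)))
    {W W' : Type u} [AddCommGroup W] [Module A W] [AddCommGroup W'] [Module A W'] [Module.Finite A W]
    {n : ℕ} (hW : ∀ a ∈ maximalIdeal A ^ n, ∀ x : W, a • x = 0)
    (i : k →ₗ[A] W) (p : W →ₗ[A] W') (hi : Injective i) (hp : Surjective p) (hip : Exact i p) :
    Surjective (mm u p) := by
  haveI : Module.Finite A W' := Module.Finite.of_surjective p hp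
  have hW' : ∀ a ∈ maximalIdeal A ^ n, ∀ x : W', a • x = 0 := fun a ha x => by
    obtain ⟨w, rfl⟩ := hp x
    rw [← map_smul, hW a ha w, map_zero]
  have hi0 : Injective (AlgebraTensorModule.lTensor B E0 i) :=
    Module.Flat.lTensor_preserves_injective_linearMap (M := E0) i hi
  have hi1 : Injective (AlgebraTensorModule.lTensor B E1 i) :=
    Module.Flat.lTensor_preserves_injective_linearMap (M := E1) i hi
  have hex0 : Exact (AlgebraTensorModule.lTensor B E0 i) (AlgebraTensorModule.lTensor B E0 p) := lTensor_exact E0 hip hp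
  have hex1 : Exact (AlgebraTensorModule.lTensor B E1 i) (AlgebraTensorModule.lTensor B E1 p) := lTensor_exact E1 hip hp
  let a' := mm u i
  let b' := (mm u p).rangeRestrict
  have ha' : Injective a' := fun x y h => Subtype.ext (hi0 (congrArg Subtype.val h))
  have hab : Exact a' b' := by
    intro x
    constructor
    · intro hx
      have hx' : AlgebraTensorModule.lTensor B E0 p x = 0 := congrArg (fun z => z.1.1) hx
      obtain ⟨y, hy⟩ := (hex0 _).1 hx'
      refine ⟨⟨y, ?_⟩, Subtype.ext hy⟩
      rw [LinearMap.mem_ker]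
      apply hi1
      rw [← uT_natural, hy, map_zero, LinearMap.mem_ker.1 x.2]
    · rintro ⟨y, rfl⟩
      exact Subtype.ext (Subtype.ext ((hex0 _).2 ⟨y.1, rfl⟩))
  have htors : _root_.LocCoh.IsPowerTorsion J (MW A u W' ⧸ LinearMap.range (mm u p)) := by
    refine isPowerTorsion_of_off fun x q hq => ?_
    obtain ⟨x, rfl⟩ := Submodule.Quotient.mk_surjective _ x
    obtain ⟨e, he⟩ := LinearMap.lTensor_surjective E0 hp x.1
    change AlgebraTensorModule.lTensor B E0 p e = x.1 at he
    obtain ⟨z, hz⟩ := (hex1 (uT A u W e)).1 (by rw [← uT_natural, he]; exact LinearMap.mem_ker.1 x.2)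
    let vT := AlgebraTensorModule.rTensor A k v
    have hnat : ∀ z : E1 ⊗[A] k, AlgebraTensorModule.lTensor B G i (vT z) =
        AlgebraTensorModule.rTensor A W v (AlgebraTensorModule.lTensor B E1 i z) := fun z => by
      induction z with
      | zero => simp
      | add a b ha hb => simp only [map_add, ha, hb]
      | tmul e w => simp [vT]
    have hvu : ∀ e : E0 ⊗[A] W, AlgebraTensorModule.rTensor A W v (uT A u W e) = 0 := fun e => by
      induction e with
      | zero => simp
      | add a b ha hb => simp only [map_add, ha, hb, add_zero]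
      | tmul e w => simp [huv.apply_apply_eq_zero]
    have h0' : AlgebraTensorModule.lTensor B G i (vT z) = 0 := by rw [hnat, hz, hvu]
    -- flatness of `G` at `q`
    haveI : Module.Flat A (LocalizedModule q.asIdeal.primeCompl G) := hGU q hq
    let ιG := LocalizedModule.mkLinearMap q.asIdeal.primeCompl G
    let j := AlgebraTensorModule.rTensor A k ιG
    have hj : j (vT z) = 0 := by
      apply Module.Flat.lTensor_preserves_injective_linearMap (M := LocalizedModule q.asIdeal.primeCompl G) i hi
      rw [map_zero]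
      have hc : ∀ y : G ⊗[A] k, i.lTensor _ (j y) =
          AlgebraTensorModule.rTensor A W ιG (AlgebraTensorModule.lTensor B G i y) := fun y => by
        induction y with
        | zero => simp
        | add a b ha hb => simp only [map_add, ha, hb]
        | tmul e w => simp [j]
      rw [hc, h0', map_zero]
    obtain ⟨⟨s, hs⟩, hsz⟩ := (IsLocalizedModule.eq_zero_iff q.asIdeal.primeCompl j).1 hj
    change s • vT z = 0 at hsz
    have huvk : Exact (uT A u k) vT := by
      intro y
      constructor
      · intro hy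
        exact (rTensor_exact k (f := u.restrictScalars A) (g := v.restrictScalars A) huv hv y).1 hy
      · rintro ⟨e, rfl⟩
        induction e with
        | zero => simp
        | add a b ha hb => simp only [map_add, ha, hb, add_zero]
        | tmul e w => simp [vT, huv.apply_apply_eq_zero]
    obtain ⟨e0, he0⟩ := (huvk (s • z)).1 (by rw [map_smul, hsz])
    refine ⟨s, hs, ?_⟩
    rw [← Submodule.Quotient.mk_smul, Submodule.Quotient.mk_eq_zero]
    refine ⟨⟨s • e - AlgebraTensorModule.lTensor B E0 i e0, ?_⟩, Subtype.ext ?_⟩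
    · rw [LinearMap.mem_ker, map_sub, map_smul, uT_natural, he0, map_smul, hz, sub_self]
    · show AlgebraTensorModule.lTensor B E0 p (s • e - AlgebraTensorModule.lTensor B E0 i e0) = s • x.1
      rw [map_sub, map_smul, he, (hex0 _).2 ⟨e0, rfl⟩, sub_zero]
  haveI := H_MW u h0 h1 W hW 1 (by norm_num)
  haveI := h3
  haveI : Subsingleton (_root_.LocCoh.H J 1 (LinearMap.range (mm u p))) :=
    LocCoh.subsingleton_right ha' (mm u p).surjective_rangeRestrict hab 1
  haveI := H_MW u h0 h1 W' hW' 0 (by norm_num)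
  haveI : Subsingleton (_root_.LocCoh.H J 0 (MW A u W' ⧸ LinearMap.range (mm u p))) :=
    LocCoh.subsingleton_right (Submodule.injective_subtype _) (Submodule.mkQ_surjective _)
      (LinearMap.exact_subtype_mkQ _) 0
  exact fun x => (Submodule.Quotient.mk_eq_zero _).1 (eq_zero_of_torsion htors (Submodule.Quotient.mk x))

omit [IsNoetherianRing A] [IsNoetherianRing B] [IsLocalRing A] [IsLocalRing B] [IsLocalHom (algebraMap A B)]
  [Module.Finite B E0] [Module.Flat A E0] in
theorem tmul_one_eq_zero_iff (I : Ideal A) (x : E0) :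
    x ⊗ₜ[A] (Submodule.Quotient.mk 1 : A ⧸ I) = 0 ↔ x ∈ I.map (algebraMap A B) • (⊤ : Submodule B E0) := by
  rw [← Submodule.Quotient.mk_eq_zero, ← (FlatOff.quotEquiv (B := B) E0 I).map_eq_zero_iff]
  rfl

omit [IsNoetherianRing A] in
theorem exists_socle {I : Ideal A} : ∀ (j : ℕ) (x : A), x ∈ maximalIdeal A → x ∉ I →
    (∀ r ∈ maximalIdeal A ^ j, r * x ∈ I) → ∃ t ∈ maximalIdeal A, t ∉ I ∧ ∀ r ∈ maximalIdeal A, r * t ∈ I := by
  intro j
  induction j with
  | zero => intro x _ hx h; exact absurd (by simpa using h 1 (by simp)) hx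
  | succ j ih =>
    intro x hxm hx h
    by_cases hc : ∀ r ∈ maximalIdeal A, r * x ∈ I
    · exact ⟨x, hxm, hx, hc⟩
    · push_neg at hc
      obtain ⟨r, hr, hrx⟩ := hc
      refine ih (r * x) (Ideal.mul_mem_left _ r hxm) hrx fun r' hr' => ?_
      rw [← mul_assoc]
      exact h _ (by rw [pow_succ]; exact Ideal.mul_mem_mul hr' hr)

include huv hv hGU h0 h1 in
/-- lifting of the closed fibre of the kernel to every infinitesimal neighbourhood -/
theorem mm_factor_surjective (h3 : Subsingleton (_root_.LocCoh.H J 2 (MW A u k))) (n : ℕ) :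
    ∀ (I : Ideal A) (_ : maximalIdeal A ^ n ≤ I) (hI : I ≤ maximalIdeal A),
      Surjective (mm u (Submodule.mapQ I (maximalIdeal A) LinearMap.id hI)) := by
  intro I
  induction I using IsNoetherian.induction (R := A) (M := A) with
  | hgt I ih =>
    intro hn hI
    by_cases he : I = maximalIdeal A
    · subst he
      intro x
      refine ⟨x, Subtype.ext ?_⟩
      show AlgebraTensorModule.lTensor B E0 _ x.1 = x.1
      rw [Submodule.mapQ_id, AlgebraTensorModule.lTensor_id]
      rfl
    · obtain ⟨x, hxm, hx⟩ := SetLike.exists_of_lt (lt_of_le_of_ne hI he)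
      obtain ⟨t, htm, ht, htI⟩ := exists_socle n x hxm hx fun r hr => Ideal.mul_mem_right _ _ (hn hr)
      let I' : Ideal A := I ⊔ Ideal.span {t}
      have hle : I ≤ I' := le_sup_left
      have hI' : I' ≤ maximalIdeal A := sup_le hI ((Ideal.span_singleton_le_iff_mem _).2 htm)
      let i : (A ⧸ maximalIdeal A) →ₗ[A] A ⧸ I :=
        Submodule.liftQ (maximalIdeal A) ((Submodule.mkQ I).comp (LinearMap.mulRight A t)) fun r hr =>
          (Submodule.Quotient.mk_eq_zero _).2 (htI r hr)
      let p : (A ⧸ I) →ₗ[A] A ⧸ I' := Submodule.mapQ I I' LinearMap.id hle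
      have hi : Injective i := by
        rw [injective_iff_map_eq_zero]
        intro r
        obtain ⟨r, rfl⟩ := Submodule.Quotient.mk_surjective _ r
        intro hr
        have hr' : r * t ∈ I := (Submodule.Quotient.mk_eq_zero _).1 hr
        rw [Submodule.Quotient.mk_eq_zero]
        by_contra hru
        exact ht ((Ideal.unit_mul_mem_iff_mem I (IsLocalRing.notMem_maximalIdeal.1 hru)).1 hr')
      have hp : Surjective p := fun y => by
        obtain ⟨y, rfl⟩ := Submodule.Quotient.mk_surjective _ y
        exact ⟨Submodule.Quotient.mk y, rfl⟩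
      have hip : Exact i p := by
        intro y
        obtain ⟨y, rfl⟩ := Submodule.Quotient.mk_surjective _ y
        rw [show p (Submodule.Quotient.mk y) = Submodule.Quotient.mk y from rfl, Submodule.Quotient.mk_eq_zero]
        constructor
        · intro hy
          obtain ⟨a, ha, b, hb, rfl⟩ := Submodule.mem_sup.1 hy
          obtain ⟨r, rfl⟩ := Ideal.mem_span_singleton'.1 hb
          refine ⟨Submodule.Quotient.mk r, ?_⟩
          show Submodule.Quotient.mk (r * t) = _
          rw [Submodule.Quotient.eq]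
          simpa using I.neg_mem ha
        · rintro ⟨r, hr⟩
          obtain ⟨r, rfl⟩ := Submodule.Quotient.mk_surjective _ r
          have hr' : r * t - y ∈ I := (Submodule.Quotient.eq I).1 hr
          rw [show y = r * t - (r * t - y) by ring]
          exact sub_mem (Submodule.mem_sup_right (Ideal.mem_span_singleton'.2 ⟨r, rfl⟩)) (hle hr')
      have hW : ∀ a ∈ maximalIdeal A ^ n, ∀ x : A ⧸ I, a • x = 0 := fun a ha x => by
        obtain ⟨x, rfl⟩ := Submodule.Quotient.mk_surjective _ x
        rw [← Submodule.Quotient.mk_smul, Submodule.Quotient.mk_eq_zero]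
        exact Ideal.mul_mem_right _ _ (hn ha)
      have hlt : I < I' := lt_of_le_of_ne hle fun h => ht (h ▸ Submodule.mem_sup_right (Ideal.mem_span_singleton_self t))
      intro z
      obtain ⟨y, rfl⟩ := ih I' hlt (hn.trans hle) hI' z
      obtain ⟨x, rfl⟩ := mm_surjective u v huv hv hGU h0 h1 h3 hW i p hi hp hip y
      refine ⟨x, Subtype.ext ?_⟩
      show AlgebraTensorModule.lTensor B E0 _ x.1 =
        AlgebraTensorModule.lTensor B E0 _ (AlgebraTensorModule.lTensor B E0 p x.1)
      rw [← LinearMap.comp_apply, ← AlgebraTensorModule.lTensor_comp, ← Submodule.mapQ_comp]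
      rfl

variable (f : F →ₗ[B] E0) (hf : Injective f) (hfu : Exact f u)

include f hfu huv hv in
omit [Module.Finite B E0] [Module.Flat A E0] in
/-- flatness of the cokernel from the lifting of the closed fibre of the kernel -/
theorem flat_of_mm_surjective
    (hsur : ∀ (c : ℕ) (hI : maximalIdeal A ^ (c + 1) ≤ maximalIdeal A),
      Surjective (mm u (Submodule.mapQ (maximalIdeal A ^ (c + 1)) (maximalIdeal A) LinearMap.id hI))) :
    Module.Flat A G := by
  let H := LinearMap.range u
  let u' : E0 →ₗ[B] H := u.rangeRestrict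
  have hu' : Surjective u' := u.surjective_rangeRestrict
  have hfu' : Exact f u' := fun x => by
    rw [← hfu x]
    exact ⟨fun h => congrArg Subtype.val h, fun h => Subtype.ext h⟩
  have hHv : Exact H.subtype v := fun x => by
    rw [huv x]
    exact ⟨fun ⟨y, hy⟩ => ⟨⟨x, y, hy⟩, rfl⟩, fun ⟨⟨z, y, hy⟩, hz⟩ => ⟨y, hy.trans hz⟩⟩
  let fT := AlgebraTensorModule.rTensor A k f
  let u'T := AlgebraTensorModule.rTensor A k u'
  let sT := AlgebraTensorModule.rTensor A k H.subtype
  have hex : Exact fT u'T := rTensor_exact (f := f.restrictScalars A) (g := u'.restrictScalars A) k hfu' hu'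
  have hsu : ∀ x, sT (u'T x) = uT A u k x := fun x => by
    rw [← LinearMap.comp_apply, ← AlgebraTensorModule.rTensor_comp]
    rfl
  -- surjectivity onto the closed fibre of the kernel
  have hsurj : ∀ x : MW A u k, ∃ w, fT w = x.1 := by
    intro x
    obtain ⟨c, hc⟩ := Ideal.exists_pow_inf_eq_pow_smul (EGA4.mB A B) (LinearMap.range u)
    have hI : maximalIdeal A ^ (c + 1) ≤ maximalIdeal A := Ideal.pow_le_self (by omega)
    obtain ⟨y, hy⟩ := hsur c hI x
    obtain ⟨e, he⟩ : ∃ e : E0, e ⊗ₜ[A] (Submodule.Quotient.mk 1 : A ⧸ maximalIdeal A ^ (c + 1)) = y.1 := by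
      obtain ⟨z, hz⟩ := (FlatOff.quotEquiv (B := B) E0 (maximalIdeal A ^ (c + 1))).surjective y.1
      obtain ⟨e, rfl⟩ := Submodule.Quotient.mk_surjective _ z
      exact ⟨e, hz⟩
    have hxe : x.1 = e ⊗ₜ[A] (Submodule.Quotient.mk 1 : k) := by
      rw [← hy]
      show AlgebraTensorModule.lTensor B E0 _ y.1 = _
      rw [← he]
      rfl
    have hue : u e ∈ (maximalIdeal A ^ (c + 1)).map (algebraMap A B) • (⊤ : Submodule B E1) :=
      (tmul_one_eq_zero_iff (E0 := E1) _ (u e)).1 (by
        have h := LinearMap.mem_ker.1 y.2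
        rw [← he] at h
        exact h)
    rw [Ideal.map_pow] at hue
    have hue' : u e ∈ EGA4.mB A B • LinearMap.range u := by
      have h' : u e ∈ EGA4.mB A B ^ (c + 1) • (⊤ : Submodule B E1) ⊓ LinearMap.range u := ⟨hue, e, rfl⟩
      rw [hc (c + 1) (by omega), Nat.add_sub_cancel_left, pow_one] at h'
      exact Submodule.smul_mono le_rfl inf_le_right h'
    rw [show LinearMap.range u = Submodule.map u ⊤ from (Submodule.map_top u).symm, ← Submodule.map_smul''] at hue'
    obtain ⟨e', he', hue'⟩ := hue'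
    obtain ⟨w, hw⟩ := (hfu (e - e')).1 (by rw [map_sub, hue', sub_self])
    refine ⟨w ⊗ₜ (Submodule.Quotient.mk 1), ?_⟩
    rw [hxe]
    show f w ⊗ₜ[A] (Submodule.Quotient.mk 1 : k) = _
    rw [hw, sub_tmul, (tmul_one_eq_zero_iff (maximalIdeal A) e').2 he', sub_zero]
  -- injectivity on the closed fibre
  have hinj : Injective sT := by
    rw [injective_iff_map_eq_zero]
    intro y hy
    obtain ⟨z, rfl⟩ := LinearMap.rTensor_surjective k (g := u'.restrictScalars A) hu' y
    obtain ⟨w, hw⟩ := hsurj ⟨z, by rw [LinearMap.mem_ker, ← hsu]; exact hy⟩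
    exact (hex z).2 ⟨w, hw⟩
  have hinj' : Injective ((H.subtype.restrictScalars A).lTensor (ResidueField A)) := by
    rw [LinearMap.lTensor_inj_iff_rTensor_inj]
    exact hinj
  have := FlatCrit.flat_coker_of_injective_mod_max (S := B) (H.subtype.restrictScalars A) hinj' (by
    rw [IsLocalRing.jacobson_eq_maximalIdeal ⊥ bot_ne_top]
    exact ((IsLocalRing.local_hom_TFAE (algebraMap A B)).out 0 2 rfl rfl).1 inferInstance)
  refine @Module.Flat.of_linearEquiv A (E1 ⧸ LinearMap.range (H.subtype.restrictScalars A)) G _ _ _ _ _ this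
    (((Submodule.quotEquivOfEq _ _ ?_).trans ((v.restrictScalars A).quotKerEquivOfSurjective hv)).symm)
  ext x
  simp only [LinearMap.mem_range, LinearMap.mem_ker, LinearMap.restrictScalars_apply]
  exact (hHv x).symm

include f hf hfu huv hv hGU h0 h1 in
theorem main (hH2 : Subsingleton (_root_.LocCoh.H J 2 (EGA4.FibMod A B F))) :
    Module.Flat A G := by
  let H := LinearMap.range u
  let u' : E0 →ₗ[B] H := u.rangeRestrict
  have hu' : Surjective u' := u.surjective_rangeRestrict
  have hfu' : Exact f u' := fun x => by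
    rw [← hfu x]
    exact ⟨fun h => congrArg Subtype.val h, fun h => Subtype.ext h⟩
  have hHv : Exact H.subtype v := fun x => by
    rw [huv x]
    exact ⟨fun ⟨y, hy⟩ => ⟨⟨x, y, hy⟩, rfl⟩, fun ⟨⟨z, y, hy⟩, hz⟩ => ⟨y, hy.trans hz⟩⟩
  have hH : ∀ q : PrimeSpectrum B, ¬ J ≤ q.asIdeal → FlatCA.FlatAt A q.asIdeal H := fun q hq =>
    FourTerm.flatAt_kernel q.asIdeal H.subtype v Subtype.val_injective hv hHv (hGU q hq)
  let fT := AlgebraTensorModule.rTensor A k f
  let u'T := AlgebraTensorModule.rTensor A k u'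
  let sT := AlgebraTensorModule.rTensor A k H.subtype
  have hex : Exact fT u'T := rTensor_exact (f := f.restrictScalars A) (g := u'.restrictScalars A) k hfu' hu'
  have hsu : ∀ x, sT (u'T x) = uT A u k x := fun x => by
    rw [← LinearMap.comp_apply, ← AlgebraTensorModule.rTensor_comp]
    rfl
  let φ : F ⊗[A] k →ₗ[B] MW A u k := fT.codRestrict _ fun x => by
    rw [LinearMap.mem_ker, ← hsu, (hex _).2 ⟨x, rfl⟩, map_zero]
  have hker : _root_.LocCoh.IsPowerTorsion J (LinearMap.ker φ) := isPowerTorsion_of_off fun x q hq => by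
    obtain ⟨s, hs, h⟩ := FourTerm.exists_smul_eq_zero_rTensor q.asIdeal f u' hf hu' hfu' (hH q hq) x.1
      (congrArg Subtype.val (LinearMap.mem_ker.1 x.2))
    exact ⟨s, hs, Subtype.ext h⟩
  have hcok : _root_.LocCoh.IsPowerTorsion J (MW A u k ⧸ LinearMap.range φ) := isPowerTorsion_of_off fun x q hq => by
    obtain ⟨x, rfl⟩ := Submodule.Quotient.mk_surjective _ x
    obtain ⟨s, hs, h⟩ := FourTerm.exists_smul_eq_zero_rTensor q.asIdeal H.subtype v Subtype.val_injective hv hHv
      (hGU q hq) (u'T x.1) (by rw [hsu]; exact LinearMap.mem_ker.1 x.2)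
    obtain ⟨y, hy⟩ := (hex (s • x.1)).1 (by rw [map_smul, h])
    refine ⟨s, hs, ?_⟩
    rw [← Submodule.Quotient.mk_smul, Submodule.Quotient.mk_eq_zero]
    exact ⟨y, Subtype.ext hy⟩
  -- local cohomology of the closed fibre of the kernel
  have h3 : Subsingleton (_root_.LocCoh.H J 2 (MW A u k)) := by
    haveI : Subsingleton (_root_.LocCoh.H J 2 (F ⊗[A] k)) :=
      (LocCoh.Hequiv J 2 (FlatOff.quotEquiv (B := B) F (maximalIdeal A))).toEquiv.symm.subsingleton
    haveI : Subsingleton (_root_.LocCoh.H J (2 + 1) (LinearMap.ker φ)) :=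
      LocCoh.subsingleton_H_of_powerTorsion _ _ hker (by norm_num)
    haveI : Subsingleton (_root_.LocCoh.H J 2 (LinearMap.range φ)) :=
      LocCoh.subsingleton_right (Submodule.injective_subtype _) φ.surjective_rangeRestrict
        (fun x => by
          constructor
          · intro h
            exact ⟨⟨x, LinearMap.mem_ker.2 (congrArg Subtype.val h)⟩, rfl⟩
          · rintro ⟨y, rfl⟩
            exact Subtype.ext (LinearMap.mem_ker.1 y.2)) 2
    haveI : Subsingleton (_root_.LocCoh.H J 2 (MW A u k ⧸ LinearMap.range φ)) :=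
      LocCoh.subsingleton_H_of_powerTorsion _ _ hcok (by norm_num)
    exact LocCoh.subsingleton_mid (Submodule.injective_subtype (LinearMap.range φ)) (Submodule.mkQ_surjective (LinearMap.range φ))
      (LinearMap.exact_subtype_mkQ _) 2
  exact flat_of_mm_surjective u v huv hv f hfu fun c hI => mm_factor_surjective u v huv hv hGU h0 h1 h3 (c + 1) _ le_rfl hI

end Groth.Agent.CAlg15.FourTermH2
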