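import Groth.Agent.CAlg15.KerBC
import Groth.Agent.CAlg15.FourTermH2

/-! The double dual of a base change as the kernel of the base changed presentation. -/

set_option autoImplicit false
set_option linter.style.haveILetI false

universe u

open TensorProduct IsLocalRing Function

namespace Groth.Agent.CAlg15.BidualKer

section Local

variable {B : Type u} [CommRing B] [IsNoetherianRing B] {J : Ideal B} {D K : Type u}
  [AddCommGroup D] [Module B D] [Module.Finite B D] [AddCommGroup K] [Module B K] [Module.Finite B K]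

/-- A map invertible off `J` is bijective under the depth conditions. -/
theorem bijective_of_off (φ : D →ₗ[B] K) (hD : 2 ≤ _root_.LocCoh.idealDepth J D) (hK : 1 ≤ _root_.LocCoh.idealDepth J K)
    (hker : ∀ x, φ x = 0 → ∀ q : PrimeSpectrum B, ¬ J ≤ q.asIdeal → ∃ s ∉ q.asIdeal, s • x = 0)
    (hcok : ∀ y, ∀ q : PrimeSpectrum B, ¬ J ≤ q.asIdeal → ∃ s ∉ q.asIdeal, s • y ∈ LinearMap.range φ) :
    Bijective φ := by
  haveI hD0 : Subsingleton (_root_.LocCoh.H J 0 D) := (LocCoh.natCast_le_idealDepth_iff_H J D 2).1 hD 0 (by norm_num)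
  haveI hD1 : Subsingleton (_root_.LocCoh.H J 1 D) := (LocCoh.natCast_le_idealDepth_iff_H J D 2).1 hD 1 (by norm_num)
  haveI hK0 : Subsingleton (_root_.LocCoh.H J 0 K) :=
    (LocCoh.natCast_le_idealDepth_iff_H J K 1).1 (by simpa using hK) 0 (by norm_num)
  have hinj : Injective φ := by
    rw [injective_iff_map_eq_zero]
    intro x hx
    obtain ⟨n, hn⟩ := exists_pow_le_colon J (⊥ : Submodule B D) x (by simpa using hker x hx)
    exact congrArg Subtype.val (((LocCoh.H0Equiv J D).symm.toEquiv.subsingleton).elim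
      (⟨x, n, by simpa using hn⟩ : LocCoh.powTorsion J D) 0)
  refine ⟨hinj, fun y => ?_⟩
  haveI : Subsingleton (_root_.LocCoh.H J (0 + 1) (LinearMap.range φ)) :=
    (LocCoh.Hequiv J 1 (LinearEquiv.ofInjective φ hinj)).toEquiv.symm.subsingleton
  haveI : Subsingleton (_root_.LocCoh.H J 0 (K ⧸ LinearMap.range φ)) :=
    LocCoh.subsingleton_right (Submodule.injective_subtype _) (Submodule.mkQ_surjective _)
      (LinearMap.exact_subtype_mkQ _) 0
  show y ∈ LinearMap.range φ
  refine (Submodule.Quotient.mk_eq_zero _).1 (FourTermH2.eq_zero_of_torsion (J := J) ?_ (Submodule.Quotient.mk y))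
  refine FourTermH2.isPowerTorsion_of_off fun z q hq => ?_
  obtain ⟨z, rfl⟩ := Submodule.Quotient.mk_surjective _ z
  obtain ⟨s, hs, h⟩ := hcok z q hq
  exact ⟨s, hs, by rw [← Submodule.Quotient.mk_smul, Submodule.Quotient.mk_eq_zero]; exact h⟩

/-- A dual is the kernel of a map of finite free modules. -/
theorem exists_dual_exact (G : Type u) [AddCommGroup G] [Module B G] [Module.Finite B G] :
    ∃ (n m : ℕ) (f : Module.Dual B G →ₗ[B] (Fin n → B)) (h : (Fin n → B) →ₗ[B] (Fin m → B)),
      Injective f ∧ Exact f h := by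
  obtain ⟨n, π, hπ⟩ := Module.Finite.exists_fin' B G
  obtain ⟨m, ρ, hρ⟩ := Module.Finite.exists_fin' B (LinearMap.ker π)
  let h₀ : (Fin m → B) →ₗ[B] (Fin n → B) := (LinearMap.ker π).subtype ∘ₗ ρ
  have hex : Function.Exact h₀ π := fun x =>
    ⟨fun hx => ⟨(hρ ⟨x, hx⟩).choose, congrArg Subtype.val (hρ ⟨x, hx⟩).choose_spec⟩,
      fun ⟨y, hy⟩ => hy ▸ (ρ y).2⟩
  let t := fun k : ℕ => (Pi.basisFun B (Fin k)).toDualEquiv
  let f : Module.Dual B G →ₗ[B] (Fin n → B) := (t n).symm.toLinearMap ∘ₗ π.dualMap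
  let h : (Fin n → B) →ₗ[B] (Fin m → B) := (t m).symm.toLinearMap ∘ₗ h₀.dualMap ∘ₗ (t n).toLinearMap
  refine ⟨n, m, f, h, (t n).symm.injective.comp (LinearMap.dualMap_injective_of_surjective hπ), fun x => ⟨?_, ?_⟩⟩
  · intro hx
    have hx' : h₀.dualMap (t n x) = 0 := (t m).symm.injective (hx.trans (map_zero _).symm)
    have hker : LinearMap.ker π ≤ LinearMap.ker (t n x) := fun z hz => by
      obtain ⟨y, rfl⟩ := (hex z).1 hz
      exact LinearMap.congr_fun hx' y
    refine ⟨(LinearMap.ker π).liftQ (t n x) hker ∘ₗ (π.quotKerEquivOfSurjective hπ).symm.toLinearMap,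
      (t n).injective ?_⟩
    show t n ((t n).symm _) = t n x
    rw [LinearEquiv.apply_symm_apply]
    refine LinearMap.ext fun z => ?_
    have hz : (π.quotKerEquivOfSurjective hπ).symm (π z) = Submodule.Quotient.mk z := by
      rw [LinearEquiv.symm_apply_eq]; rfl
    simp [hz]
  · rintro ⟨y, rfl⟩
    show (t m).symm (h₀.dualMap (t n ((t n).symm _))) = 0
    rw [LinearEquiv.apply_symm_apply]
    refine (congrArg (t m).symm ?_).trans (map_zero _)
    exact LinearMap.ext fun z => by
      show y (π (h₀ z)) = 0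
      rw [hex.apply_apply_eq_zero, map_zero]

end Local

section Off

variable {C : Type u} [CommRing C] [IsNoetherianRing C] {F E0 E1 G : Type u}
  [AddCommGroup F] [Module C F] [AddCommGroup E0] [Module C E0] [Module.Flat C E0] [AddCommGroup E1] [Module C E1] [Module.Flat C E1]
  [AddCommGroup G] [Module C G]
  (f : F →ₗ[C] E0) (u : E0 →ₗ[C] E1) (v : E1 →ₗ[C] G)
  (hf : Injective f) (hfu : Exact f u) (huv : Exact u v) (hv : Surjective v)

include f u v hf hfu huv hv in
omit [Module.Flat C E0] in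
/-- Where the cokernel is flat the kernel commutes with base change. -/
theorem exists_smul_baseChange (r : Ideal C) [r.IsPrime] (hG : FlatCA.FlatAt C r G) (N : Type u)
    [AddCommGroup N] [Module C N] :
    (∀ x : N ⊗[C] F, f.lTensor N x = 0 → ∃ s ∉ r, s • x = 0) ∧
    ∀ y : N ⊗[C] E0, u.lTensor N y = 0 → ∃ s ∉ r, ∃ x, f.lTensor N x = s • y := by
  let H := LinearMap.range u
  let u' : E0 →ₗ[C] H := u.rangeRestrict
  have hu' : Surjective u' := u.surjective_rangeRestrict
  have hfu' : Exact f u' := fun x => by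
    rw [← hfu x]
    exact ⟨fun h => congrArg Subtype.val h, fun h => Subtype.ext h⟩
  have hHv : Exact H.subtype v := fun x => by
    rw [huv x]
    exact ⟨fun ⟨y, hy⟩ => ⟨⟨x, y, hy⟩, rfl⟩, fun ⟨⟨z, y, hy⟩, hz⟩ => ⟨y, hy.trans hz⟩⟩
  have hH : FlatCA.FlatAt C r H := FourTerm.flatAt_kernel r H.subtype v Subtype.val_injective hv hHv hG
  have hc : ∀ {P Q : Type u} [AddCommGroup P] [Module C P] [AddCommGroup Q] [Module C Q] (g : P →ₗ[C] Q)
      (x : N ⊗[C] P), TensorProduct.comm C N Q (g.lTensor N x) =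
        AlgebraTensorModule.rTensor C N g (TensorProduct.comm C N P x) := by
    intro P Q _ _ _ _ g x
    induction x with
    | zero => simp
    | add a b ha hb => simp only [map_add, ha, hb]
    | tmul a b => simp
  refine ⟨fun x hx => ?_, fun y hy => ?_⟩
  · obtain ⟨s, hs, h⟩ := FourTerm.exists_smul_eq_zero_rTensor r f u' hf hu' hfu' hH (TensorProduct.comm C N F x)
      (by rw [← hc, hx, map_zero])
    exact ⟨s, hs, (TensorProduct.comm C N F).injective (by rw [map_smul, h, map_zero])⟩
  · obtain ⟨s, hs, h⟩ := FourTerm.exists_smul_eq_zero_rTensor r H.subtype v Subtype.val_injective hv hHv hG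
      (TensorProduct.comm C N H (u'.lTensor N y)) (by
        rw [← hc, ← LinearMap.lTensor_comp_apply, show H.subtype ∘ₗ u' = u from rfl, hy, map_zero])
    rw [← map_smul, LinearEquiv.map_eq_zero_iff, ← map_smul] at h
    exact ⟨s, hs, (lTensor_exact N hfu' hu' _).1 h⟩

end Off

end Groth.Agent.CAlg15.BidualKer
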