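import Groth.Agent.CAlg15.FourTermH2
import Groth.Agent.EGA43.FibDepth.LociLocal

/-! Serre's condition for the closed fibre of the kernel in a flat four term sequence. -/

set_option autoImplicit false
set_option linter.style.haveILetI false

universe u

open TensorProduct IsLocalRing Function

namespace Groth.Agent.CAlg15.ClosedFibre

theorem hasSk_quotient_free {B : Type u} [CommRing B] (K : Ideal B) [IsNoetherianRing (B ⧸ K)]
    {k : ℕ} (h : _root_.LocCoh.HasSk k (B ⧸ K) (B ⧸ K))
    (E : Type u) [AddCommGroup E] [Module B E] [Module.Finite B E] [Module.Free B E] [Nontrivial (B ⧸ K)] :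
    _root_.LocCoh.HasSk k (B ⧸ K) (E ⧸ (K • (⊤ : Submodule B E))) ∧
      ∃ (d : ℕ), Nonempty ((E ⧸ (K • (⊤ : Submodule B E))) ≃ₗ[B ⧸ K] (Fin d → B ⧸ K)) := by
  let e : ((B ⧸ K) ⊗[B] E) ≃ₗ[B ⧸ K] (E ⧸ (K • (⊤ : Submodule B E))) :=
    (TensorProduct.quotTensorEquivQuotSMul E K).extendScalarsOfSurjective Ideal.Quotient.mk_surjective
  let ε := e.symm ≪≫ₗ (Module.finBasis (B ⧸ K) ((B ⧸ K) ⊗[B] E)).equivFun
  exact ⟨(EGA43.FibDepth.hasSk_congr ε k).2 (hasSk_pi h _), _, ⟨ε⟩⟩

variable {A B : Type u} [CommRing A] [CommRing B] [IsNoetherianRing A] [IsNoetherianRing B] [IsLocalRing A]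
  [Algebra A B]
  {F E0 E1 G : Type u} [AddCommGroup F] [Module B F] [Module A F] [IsScalarTower A B F] [Module.Finite B F]
  [AddCommGroup E0] [Module B E0] [Module A E0] [IsScalarTower A B E0] [Module.Finite B E0] [Module.Free B E0]
  [AddCommGroup E1] [Module B E1] [Module A E1] [IsScalarTower A B E1] [Module.Finite B E1] [Module.Free B E1]
  [Module.Flat A E1]
  [AddCommGroup G] [Module B G] [Module A G] [IsScalarTower A B G] [Module.Flat A G]

theorem hasSk_two (K : Ideal B) (hK : K = EGA4.mB A B) [Nontrivial (B ⧸ K)]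
    (hS : _root_.LocCoh.HasSk 2 (B ⧸ K) (B ⧸ K))
    (f : F →ₗ[B] E0) (u : E0 →ₗ[B] E1) (v : E1 →ₗ[B] G)
    (hf : Injective f) (hfu : Exact f u) (huv : Exact u v) (hv : Surjective v) :
    _root_.LocCoh.HasSk 2 (B ⧸ K) (F ⧸ (K • (⊤ : Submodule B F))) := by
  let H := LinearMap.range u
  let u' : E0 →ₗ[B] H := u.rangeRestrict
  have hu' : Surjective u' := u.surjective_rangeRestrict
  have hfu' : Exact f u' := fun x => by
    rw [← hfu x]
    exact ⟨fun h => congrArg Subtype.val h, fun h => Subtype.ext h⟩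
  have hHv : Exact H.subtype v := fun x => by
    rw [huv x]
    exact ⟨fun ⟨y, hy⟩ => ⟨⟨x, y, hy⟩, rfl⟩, fun ⟨⟨z, y, hy⟩, hz⟩ => ⟨y, hy.trans hz⟩⟩
  haveI : Module.Flat A H :=
    FourTerm.flat_of_kernel (H.subtype.restrictScalars A) (v.restrictScalars A) Subtype.val_injective hv hHv
  let k := A ⧸ maximalIdeal A
  have i1 : Injective (AlgebraTensorModule.rTensor A k f) :=
    (LinearMap.lTensor_inj_iff_rTensor_inj k (f.restrictScalars A)).1
      (LinearMap.lTensor_injective_of_exact_of_flat (u'.restrictScalars A) hu' (f.restrictScalars A) hf hfu' k)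
  have i2 : Injective (AlgebraTensorModule.rTensor A k H.subtype) :=
    (LinearMap.lTensor_inj_iff_rTensor_inj k (H.subtype.restrictScalars A)).1
      (LinearMap.lTensor_injective_of_exact_of_flat (v.restrictScalars A) hv (H.subtype.restrictScalars A)
        Subtype.val_injective hHv k)
  have hex : Exact (AlgebraTensorModule.rTensor A k f) (AlgebraTensorModule.rTensor A k u) := by
    intro x
    have e : AlgebraTensorModule.rTensor A k u x =
        AlgebraTensorModule.rTensor A k H.subtype (AlgebraTensorModule.rTensor A k u' x) := by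
      rw [← LinearMap.comp_apply, ← AlgebraTensorModule.rTensor_comp]
      rfl
    rw [e, map_eq_zero_iff _ i2]
    exact rTensor_exact (f := f.restrictScalars A) (g := u'.restrictScalars A) k hfu' hu' x
  subst hK
  let m := maximalIdeal A
  let K := EGA4.mB A B
  let fK : (F ⧸ (K • (⊤ : Submodule B F))) →ₗ[B] (E0 ⧸ (K • (⊤ : Submodule B E0))) :=
    Submodule.mapQ _ _ f (Submodule.smul_top_le_comap_smul_top _ f)
  let uK : (E0 ⧸ (K • (⊤ : Submodule B E0))) →ₗ[B] (E1 ⧸ (K • (⊤ : Submodule B E1))) :=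
    Submodule.mapQ _ _ u (Submodule.smul_top_le_comap_smul_top _ u)
  have hfK : ∀ x, FlatOff.quotEquiv (B := B) E0 m (fK x) =
      AlgebraTensorModule.rTensor A k f (FlatOff.quotEquiv (B := B) F m x) := fun x => by
    obtain ⟨x, rfl⟩ := Submodule.Quotient.mk_surjective _ x
    rfl
  have huK : ∀ x, FlatOff.quotEquiv (B := B) E1 m (uK x) =
      AlgebraTensorModule.rTensor A k u (FlatOff.quotEquiv (B := B) E0 m x) := fun x => by
    obtain ⟨x, rfl⟩ := Submodule.Quotient.mk_surjective _ x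
    rfl
  have hfi : Injective fK := fun x y h =>
    (FlatOff.quotEquiv (B := B) F m).injective (i1 (by rw [← hfK, ← hfK, h]))
  have hfuK : Exact fK uK := fun x => by
    rw [← (FlatOff.quotEquiv (B := B) E1 m).map_eq_zero_iff, huK, hex]
    constructor
    · rintro ⟨y, hy⟩
      exact ⟨(FlatOff.quotEquiv (B := B) F m).symm y, (FlatOff.quotEquiv (B := B) E0 m).injective (by
        rw [hfK, LinearEquiv.apply_symm_apply, hy])⟩
    · rintro ⟨y, rfl⟩
      exact ⟨_, (hfK y).symm⟩
  have hsurj : Surjective (algebraMap B (B ⧸ K)) := Ideal.Quotient.mk_surjective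
  let fQ := fK.extendScalarsOfSurjective hsurj
  let uQ := uK.extendScalarsOfSurjective hsurj
  obtain ⟨d, ⟨ε⟩⟩ := (hasSk_quotient_free K hS E1).2
  let pad : (E1 ⧸ (K • (⊤ : Submodule B E1))) →ₗ[B ⧸ K] (Fin (d + 1) → B ⧸ K) :=
    (LinearMap.pi (Fin.cons 0 fun i => LinearMap.proj i)) ∘ₗ ε.toLinearMap
  have hpad : Injective pad := fun x y h => ε.injective (funext fun i => by simpa [pad] using congrFun h i.succ)
  have hex' : Exact fQ (pad ∘ₗ uQ) := fun x => by
    show pad (uQ x) = 0 ↔ _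
    rw [map_eq_zero_iff _ hpad]
    exact hfuK x
  have hsupp : Module.support (B ⧸ K) (F ⧸ (K • (⊤ : Submodule B F))) ⊆
      Module.support (B ⧸ K) (Fin (d + 1) → B ⧸ K) := fun q _ => Module.mem_support_iff'.2
    ⟨fun _ => 1, fun r hr h => hr (by
      have h0 := congrFun h 0
      simp only [Pi.smul_apply, smul_eq_mul, mul_one, Pi.zero_apply] at h0
      rw [h0]; exact zero_mem _)⟩
  refine (hasSk_of_exact fQ (pad ∘ₗ uQ) hfi hex').2 hsupp
    (hasSk_pi (fun p hp => ?_) (d + 1)) (hasSk_quotient_free K hS E0).1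
  exact le_trans (min_le_min_right _ (Nat.cast_le.2 (by norm_num : 1 ≤ 2))) (hS p)

end Groth.Agent.CAlg15.ClosedFibre
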