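import Mathlib
import Groth.Prelude.Def_CAlg
import Groth.Agent.CAlgH3.Depth
import Groth.Agent.CommAlg6.DepthOne
import Groth.Agent.CommAlg6.AtPrime
import Groth.Agent.S5152
import Groth.Agent.S0321

/-! Depth and Serre conditions of kernels, reflexive modules, and localizations. -/

set_option autoImplicit false

universe u

open IsLocalRing

namespace Groth.Agent.CAlg15

section Local

variable {R : Type u} [CommRing R] [IsLocalRing R] [IsNoetherianRing R]

theorem one_le_depth_of_injective {M N : Type u} [AddCommGroup M] [Module R M] [Module.Finite R M]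
    [AddCommGroup N] [Module R N] [Module.Finite R N] (f : N →ₗ[R] M) (hf : Function.Injective f)
    (h : 1 ≤ LocCoh.depth R M) : 1 ≤ LocCoh.depth R N := by
  rw [CommAlg6.one_le_depth_iff] at h ⊢
  exact fun hN => h (associatedPrimes.subset_of_injective hf hN)

theorem two_le_depth_of_exact {G M E : Type u} [AddCommGroup G] [Module R G] [Module.Finite R G]
    [AddCommGroup M] [Module R M] [Module.Finite R M] [AddCommGroup E] [Module R E] [Module.Finite R E]
    (f : G →ₗ[R] M) (g : M →ₗ[R] E) (hf : Function.Injective f) (hfg : Function.Exact f g)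
    (hM : 2 ≤ LocCoh.depth R M) (hE : 1 ≤ LocCoh.depth R E) : 2 ≤ LocCoh.depth R G := by
  haveI : Module.Finite R (LinearMap.range g) := Module.Finite.range g
  have h1 : 1 ≤ LocCoh.depth R (LinearMap.range g) :=
    one_le_depth_of_injective (LinearMap.range g).subtype Subtype.val_injective hE
  have h2 := (Groth.Agent.S0321.result R (maximalIdeal R) G M (LinearMap.range g) f g.rangeRestrict hf
    g.surjective_rangeRestrict (fun x => by
      rw [← hfg x]
      exact ⟨fun h => congrArg Subtype.val h, fun h => Subtype.ext h⟩)).2.2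
  refine le_trans (le_min hM ?_) h2
  calc (2 : ℕ∞) = 1 + 1 := rfl
    _ ≤ LocCoh.depth R (LinearMap.range g) + 1 := by gcongr

end Local

theorem min_natCast_le {k : ℕ} {d : WithBot ℕ∞} {e : ℕ∞}
    (h : ∀ j : ℕ, 1 ≤ j → j ≤ k → (j : WithBot ℕ∞) ≤ d → (j : ℕ∞) ≤ e) :
    min (k : WithBot ℕ∞) d ≤ (e : WithBot ℕ∞) := by
  induction d using WithBot.recBotCoe with
  | bot => simp
  | coe d =>
    rcases le_total (k : ℕ∞) d with hkd | hdk
    · refine (min_le_left _ _).trans ?_
      rcases Nat.eq_zero_or_pos k with rfl | hk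
      · exact WithBot.coe_le_coe.2 (zero_le : (0 : ℕ∞) ≤ e)
      · exact WithBot.coe_le_coe.2 (h k hk le_rfl (WithBot.coe_le_coe.2 hkd))
    · refine (min_le_right _ _).trans ?_
      obtain ⟨j, rfl⟩ : ∃ j : ℕ, d = j := ⟨d.toNat, (ENat.coe_toNat (ne_top_of_le_ne_top (ENat.coe_ne_top k) hdk)).symm⟩
      rcases Nat.eq_zero_or_pos j with rfl | hj
      · exact WithBot.coe_le_coe.2 (zero_le : (0 : ℕ∞) ≤ e)
      · exact WithBot.coe_le_coe.2 (h j hj (by exact_mod_cast hdk) le_rfl)

section Global

variable {A : Type u} [CommRing A] [IsNoetherianRing A]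

local notation "loc[" p "]" => LocalizedModule (Ideal.primeCompl p)

theorem le_idealDepth_iff (I : Ideal A) (M : Type u) [AddCommGroup M] [Module A M] [Module.Finite A M] (k : ℕ∞) :
    k ≤ LocCoh.idealDepth I M ↔ ∀ p : PrimeSpectrum A, I ≤ p.asIdeal →
      k ≤ LocCoh.depth (Localization.AtPrime p.asIdeal) (loc[p.asIdeal] M) := by
  rw [Groth.Agent.S5152.result A I M, le_iInf_iff]
  exact forall_congr' fun p => le_iInf_iff

omit [IsNoetherianRing A] in
theorem supportDim_localized_mono {M N : Type u} [AddCommGroup M] [Module A M] [AddCommGroup N] [Module A N]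
    (h : Module.support A N ⊆ Module.support A M) (p : Ideal A) [p.IsPrime] :
    Module.supportDim (Localization.AtPrime p) (loc[p] N) ≤ Module.supportDim (Localization.AtPrime p) (loc[p] M) := by
  have hsub : Module.support (Localization.AtPrime p) (loc[p] N) ⊆ Module.support (Localization.AtPrime p) (loc[p] M) := by
    intro x hx
    rw [CommAlg6.mem_support_localizedModule] at hx ⊢
    exact h hx
  exact Order.krullDim_le_of_strictMono (fun x => ⟨x.1, hsub x.2⟩) fun a b hab => hab

variable {G M E : Type u} [AddCommGroup G] [Module A G] [Module.Finite A G]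
    [AddCommGroup M] [Module A M] [Module.Finite A M] [AddCommGroup E] [Module A E] [Module.Finite A E]

theorem one_le_depth_localized_of_injective (f : G →ₗ[A] M) (hf : Function.Injective f) (p : Ideal A) [p.IsPrime]
    (h : 1 ≤ LocCoh.depth (Localization.AtPrime p) (loc[p] M)) :
    1 ≤ LocCoh.depth (Localization.AtPrime p) (loc[p] G) :=
  one_le_depth_of_injective (LocalizedModule.map p.primeCompl f) (LocalizedModule.map_injective _ f hf) h

theorem two_le_depth_localized_of_exact (f : G →ₗ[A] M) (g : M →ₗ[A] E) (hf : Function.Injective f)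
    (hfg : Function.Exact f g) (p : Ideal A) [p.IsPrime]
    (hM : 2 ≤ LocCoh.depth (Localization.AtPrime p) (loc[p] M))
    (hE : 1 ≤ LocCoh.depth (Localization.AtPrime p) (loc[p] E)) :
    2 ≤ LocCoh.depth (Localization.AtPrime p) (loc[p] G) :=
  two_le_depth_of_exact (LocalizedModule.map p.primeCompl f) (LocalizedModule.map p.primeCompl g)
    (LocalizedModule.map_injective _ f hf) (LocalizedModule.map_exact _ f g hfg) hM hE

theorem idealDepth_of_exact (I : Ideal A) (f : G →ₗ[A] M) (g : M →ₗ[A] E) (hf : Function.Injective f)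
    (hfg : Function.Exact f g) :
    (1 ≤ LocCoh.idealDepth I M → 1 ≤ LocCoh.idealDepth I G) ∧
      (2 ≤ LocCoh.idealDepth I M → 1 ≤ LocCoh.idealDepth I E → 2 ≤ LocCoh.idealDepth I G) := by
  simp only [le_idealDepth_iff]
  exact ⟨fun h p hp => one_le_depth_localized_of_injective f hf _ (h p hp),
    fun h h' p hp => two_le_depth_localized_of_exact f g hf hfg _ (h p hp) (h' p hp)⟩

theorem hasSk_of_exact (f : G →ₗ[A] M) (g : M →ₗ[A] E) (hf : Function.Injective f) (hfg : Function.Exact f g) :
    (LocCoh.HasSk 1 A M → LocCoh.HasSk 1 A G) ∧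
      (Module.support A G ⊆ Module.support A E → LocCoh.HasSk 1 A E → LocCoh.HasSk 2 A M → LocCoh.HasSk 2 A G) := by
  have hsM : Module.support A G ⊆ Module.support A M := Module.support_subset_of_injective f hf
  have key : ∀ (k : ℕ) (N : Type u) [AddCommGroup N] [Module A N], LocCoh.HasSk k A N →
      Module.support A G ⊆ Module.support A N → ∀ (p : Ideal A) [p.IsPrime] (j : ℕ), j ≤ k →
        (j : WithBot ℕ∞) ≤ Module.supportDim (Localization.AtPrime p) (loc[p] G) →
        (j : ℕ∞) ≤ LocCoh.depth (Localization.AtPrime p) (loc[p] N) := by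
    intro k N _ _ hk hs p _ j hjk hj
    exact WithBot.coe_le_coe.1 ((le_min (Nat.cast_le.2 hjk) (hj.trans (supportDim_localized_mono hs p))).trans (hk p))
  refine ⟨fun h p _ => min_natCast_le fun j h1 hk hj => ?_, fun hs hE h p _ => min_natCast_le fun j h1 hk hj => ?_⟩
  · obtain rfl : j = 1 := le_antisymm hk h1
    exact one_le_depth_localized_of_injective f hf p (key 1 M h hsM p 1 le_rfl hj)
  · interval_cases j
    · exact one_le_depth_localized_of_injective f hf p (key 2 M h hsM p 1 (by norm_num) hj)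
    · exact two_le_depth_localized_of_exact f g hf hfg p (key 2 M h hsM p 2 le_rfl hj)
        (key 1 E hE hs p 1 le_rfl (le_trans (Nat.cast_le.2 (by norm_num : 1 ≤ 2)) hj))

theorem idealDepth_pi (I : Ideal A) (n : ℕ) :
    LocCoh.idealDepth I A ≤ LocCoh.idealDepth I (Fin n → A) := by
  induction n with
  | zero =>
    haveI : Subsingleton (Fin 0 → A) := inferInstance
    rw [LocCoh.idealDepth, LocCoh.idealDepth, if_pos (show I • (⊤ : Submodule A (Fin 0 → A)) = ⊤ from Subsingleton.elim _ _)]
    exact le_top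
  | succ n ih =>
    let e : (A × (Fin n → A)) ≃ₗ[A] (Fin (n + 1) → A) := Fin.consLinearEquiv A fun _ : Fin (n + 1) => A
    rw [← CAlgH3.idealDepth_congr I e]
    exact (le_min le_rfl ih).trans (Groth.Agent.S0321.result A I A (A × (Fin n → A)) (Fin n → A)
      (LinearMap.inl A A _) (LinearMap.snd A A _) LinearMap.inl_injective LinearMap.snd_surjective
      Function.Exact.inl_snd).1

omit [IsNoetherianRing A] in
theorem mem_support_self (q : PrimeSpectrum A) : q ∈ Module.support A A :=
  Module.mem_support_iff'.2 ⟨1, fun r hr h => hr (by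
    rw [smul_eq_mul, mul_one] at h
    rw [h]; exact zero_mem _)⟩

theorem hasSk_pi {k : ℕ} (h : LocCoh.HasSk k A A) (n : ℕ) : LocCoh.HasSk k A (Fin n → A) := by
  intro p _
  refine min_natCast_le fun j _ hjk hj => ?_
  have h1 : (j : ℕ∞) ≤ LocCoh.depth (Localization.AtPrime p) (loc[p] A) :=
    WithBot.coe_le_coe.1 ((le_min (Nat.cast_le.2 hjk) (hj.trans (supportDim_localized_mono
      (fun q _ => mem_support_self q) p))).trans (h p))
  clear hj hjk
  induction n with
  | zero => rw [CAlgH3.depth_eq_top_of_subsingleton]; exact le_top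
  | succ n ih =>
    let e : (A × (Fin n → A)) ≃ₗ[A] (Fin (n + 1) → A) := Fin.consLinearEquiv A fun _ : Fin (n + 1) => A
    let g : (loc[p] (A × (Fin n → A))) ≃ₗ[Localization.AtPrime p] (loc[p] (Fin (n + 1) → A)) :=
      IsLocalizedModule.mapEquiv p.primeCompl (LocalizedModule.mkLinearMap _ _) (LocalizedModule.mkLinearMap _ _)
        (Localization.AtPrime p) e
    rw [← CAlgH3.depth_congr g]
    exact (le_min h1 (ih)).trans (Groth.Agent.S0321.result (Localization.AtPrime p)
      (maximalIdeal (Localization.AtPrime p)) _ _ _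
      (LocalizedModule.map p.primeCompl (LinearMap.inl A A (Fin n → A)))
      (LocalizedModule.map p.primeCompl (LinearMap.snd A A (Fin n → A)))
      (LocalizedModule.map_injective _ _ LinearMap.inl_injective)
      (LocalizedModule.map_surjective _ _ LinearMap.snd_surjective)
      (LocalizedModule.map_exact _ _ _ Function.Exact.inl_snd)).1

theorem reflexive_depth (I : Ideal A) (G : Type u) [AddCommGroup G] [Module A G] [Module.Finite A G]
    [Module.IsReflexive A G] :
    (1 ≤ LocCoh.idealDepth I A → 1 ≤ LocCoh.idealDepth I G) ∧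
    (2 ≤ LocCoh.idealDepth I A → 2 ≤ LocCoh.idealDepth I G) ∧
    (LocCoh.HasSk 1 A A → LocCoh.HasSk 1 A G) ∧ (LocCoh.HasSk 2 A A → LocCoh.HasSk 2 A G) := by
  obtain ⟨n, π, hπ⟩ := Module.Finite.exists_fin' A (Module.Dual A G)
  obtain ⟨m, κ, hκ⟩ := Submodule.fg_iff_exists_fin_generating_family.1 (IsNoetherian.noetherian (LinearMap.ker π))
  let t : (Fin n → A) ≃ₗ[A] Module.Dual A (Fin n → A) := (Pi.basisFun A (Fin n)).toDualEquiv
  let f : G →ₗ[A] (Fin n → A) := t.symm.toLinearMap ∘ₗ π.dualMap ∘ₗ (Module.evalEquiv A G).toLinearMap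
  let g : (Fin n → A) →ₗ[A] (Fin (m + 1) → A) :=
    LinearMap.pi (Fin.cons 0 fun l => LinearMap.applyₗ (κ l) ∘ₗ t.toLinearMap)
  have hf : Function.Injective f :=
    t.symm.injective.comp ((LinearMap.dualMap_injective_of_surjective hπ).comp (Module.evalEquiv A G).injective)
  have hfg : Function.Exact f g := by
    intro x
    constructor
    · intro hx
      have hker : LinearMap.ker π ≤ LinearMap.ker (t x) := by
        rw [← hκ, Submodule.span_le]
        rintro _ ⟨l, rfl⟩
        have := congrFun hx l.succ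
        simpa [g] using this
      obtain ⟨φ, hφ⟩ : ∃ φ : Module.Dual A (Module.Dual A G), φ ∘ₗ π = t x :=
        ⟨(LinearMap.ker π).liftQ (t x) hker ∘ₗ (π.quotKerEquivOfSurjective hπ).symm.toLinearMap,
          LinearMap.ext fun z => by
            have hz : (π.quotKerEquivOfSurjective hπ).symm (π z) = Submodule.Quotient.mk z := by
              rw [LinearEquiv.symm_apply_eq]; rfl
            simp [hz]⟩
      refine ⟨(Module.evalEquiv A G).symm φ, t.injective ?_⟩
      show t (t.symm (π.dualMap (Module.evalEquiv A G ((Module.evalEquiv A G).symm φ)))) = t x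
      rw [LinearEquiv.apply_symm_apply, LinearEquiv.apply_symm_apply]
      exact hφ
    · rintro ⟨y, rfl⟩
      funext l
      refine Fin.cases (by simp [g]) (fun l => ?_) l
      have hl : π (κ l) = 0 := LinearMap.mem_ker.1 (hκ ▸ Submodule.subset_span ⟨l, rfl⟩)
      show t (t.symm _) (κ l) = 0
      rw [LinearEquiv.apply_symm_apply]
      simp [hl]
  have hsupp : Module.support A G ⊆ Module.support A (Fin (m + 1) → A) := fun q _ => Module.mem_support_iff'.2
    ⟨fun _ => 1, fun r hr h => hr (by
      have h0 := congrFun h 0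
      simp only [Pi.smul_apply, smul_eq_mul, mul_one, Pi.zero_apply] at h0
      rw [h0]; exact zero_mem _)⟩
  obtain ⟨h1, h2⟩ := idealDepth_of_exact I f g hf hfg
  obtain ⟨h3, h4⟩ := hasSk_of_exact f g hf hfg
  refine ⟨fun h => h1 (h.trans (idealDepth_pi I n)), fun h => h2 (h.trans (idealDepth_pi I n))
    ((le_trans (by norm_num) h).trans (idealDepth_pi I (m + 1))), fun h => h3 (hasSk_pi h n),
    fun h => h4 hsupp (hasSk_pi (fun p hp => ?_) (m + 1)) (hasSk_pi h n)⟩
  exact le_trans (min_le_min_right _ (Nat.cast_le.2 (by norm_num : 1 ≤ 2))) (h p)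

theorem le_idealDepth_of_hasSk {k : ℕ} (I : Ideal A) (hS : LocCoh.HasSk k A M)
    (hcodim : ∀ p : PrimeSpectrum A, I ≤ p.asIdeal → p ∈ Module.support A M →
      (k : WithBot ℕ∞) ≤ Module.supportDim (Localization.AtPrime p.asIdeal) (loc[p.asIdeal] M)) :
    (k : ℕ∞) ≤ LocCoh.idealDepth I M := by
  rw [le_idealDepth_iff]
  intro p hp
  by_cases hs : p ∈ Module.support A M
  · exact WithBot.coe_le_coe.1 ((le_min le_rfl (hcodim p hp hs)).trans (hS p.asIdeal))
  · haveI : Subsingleton (loc[p.asIdeal] M) := Module.notMem_support_iff.1 hs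
    rw [CAlgH3.depth_eq_top_of_subsingleton]
    exact le_top

theorem idealDepth_le_supportDim (I : Ideal A) (p : PrimeSpectrum A) (hIp : I ≤ p.asIdeal) (hp : p ∈ Module.support A M) :
    ((LocCoh.idealDepth I M : ℕ∞) : WithBot ℕ∞) ≤
      Module.supportDim (Localization.AtPrime p.asIdeal) (loc[p.asIdeal] M) := by
  haveI : Nontrivial (loc[p.asIdeal] M) := Module.mem_support_iff.1 hp
  exact (WithBot.coe_le_coe.2 ((le_idealDepth_iff I M _).1 le_rfl p hIp)).trans CAlgH3.depth_le_supportDim

end Global

end Groth.Agent.CAlg15
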