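import Groth.Agent.CAlg15.DepthKernel
import Groth.Agent.CAlgMisc2.HomDepth
import Groth.Agent.CAlgH.DepthCriterion
import Groth.Agent.LocCoh.DepthLocal
import Groth.Agent.CAlgH3.Serre
import Mathlib.Algebra.Module.FinitePresentation

/-! Reflexive modules off a closed subset and depth along it. -/

set_option autoImplicit false

universe u

open IsLocalRing RingTheory.Sequence
open scoped Pointwise

namespace Groth.Agent.CAlg15

variable {A : Type u} [CommRing A] [IsNoetherianRing A] (I : Ideal A)
  {G : Type u} [AddCommGroup G] [Module A G] [Module.Finite A G]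

/-- the kernel of `G → G**` is killed by an element outside each prime where `G` is reflexive -/
theorem exists_smul_eq_zero_of_eval (p : Ideal A) [p.IsPrime]
    [Module.IsReflexive (Localization.AtPrime p) (LocalizedModule p.primeCompl G)]
    {g : G} (hg : Module.Dual.eval A G g = 0) : ∃ s ∉ p, s • g = 0 := by
  have := Module.finitePresentation_of_finite A G
  let B := Localization.AtPrime p
  let ι := LocalizedModule.mkLinearMap p.primeCompl G
  have h0 : Module.Dual.eval B (LocalizedModule p.primeCompl G) (ι g) = 0 := by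
    refine LinearMap.ext fun Φ => ?_
    obtain ⟨φ, s, hφ⟩ := Module.FinitePresentation.exists_lift_of_isLocalizedModule p.primeCompl
      (Algebra.linearMap A B) ((Φ.restrictScalars A) ∘ₗ ι)
    have h2 := LinearMap.congr_fun hφ g
    have hφg : φ g = 0 := LinearMap.congr_fun hg φ
    simp only [LinearMap.comp_apply, LinearMap.smul_apply, LinearMap.restrictScalars_apply,
      Algebra.linearMap_apply, Submonoid.smul_def, Algebra.smul_def, hφg, map_zero] at h2
    exact ((IsLocalization.map_units B s).mul_right_eq_zero).1 h2.symm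
  have h1 : ι g = 0 := (Module.bijective_dual_eval B _).1 (by rw [h0, map_zero])
  obtain ⟨s, hs⟩ := (IsLocalizedModule.eq_zero_iff p.primeCompl ι).1 h1
  exact ⟨s, s.2, hs⟩

/-- the cokernel of `G → G**` is killed by an element outside each prime where `G` is reflexive -/
theorem exists_smul_mem_range_eval (p : Ideal A) [p.IsPrime]
    [Module.IsReflexive (Localization.AtPrime p) (LocalizedModule p.primeCompl G)]
    (f : Module.Dual A (Module.Dual A G)) :
    ∃ s ∉ p, s • f ∈ LinearMap.range (Module.Dual.eval A G) := by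
  have := Module.finitePresentation_of_finite A G
  let B := Localization.AtPrime p
  let ι := LocalizedModule.mkLinearMap p.primeCompl G
  let L : Module.Dual A G →ₗ[A] Module.Dual B (LocalizedModule p.primeCompl G) :=
    IsLocalizedModule.mapExtendScalars p.primeCompl ι (Algebra.linearMap A B) B
  obtain ⟨w, hw⟩ := (Module.bijective_dual_eval B (LocalizedModule p.primeCompl G)).2
    ((IsLocalizedModule.map p.primeCompl L (Algebra.linearMap A B) f).extendScalarsOfIsLocalization
      p.primeCompl B)
  induction w using LocalizedModule.induction_on with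
  | _ g t =>
    have key : ∀ φ : Module.Dual A G, ∃ u : p.primeCompl, (u : A) * (((t : A)) * f φ) = u * φ g := by
      intro φ
      have h1 : (L φ) (LocalizedModule.mk g t) = Algebra.linearMap A B (f φ) :=
        (LinearMap.congr_fun hw (L φ)).trans
          (IsLocalizedModule.map_apply p.primeCompl L (Algebra.linearMap A B) f φ)
      have h2 : (t : A) • (L φ) (LocalizedModule.mk g t) = algebraMap A B (φ g) := by
        rw [← LinearMap.map_smul_of_tower, LocalizedModule.smul'_mk, ← Submonoid.smul_def,
          LocalizedModule.mk_cancel]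
        exact IsLocalizedModule.map_apply p.primeCompl ι (Algebra.linearMap A B) φ g
      rw [h1, Algebra.linearMap_apply, Algebra.smul_def, ← map_mul] at h2
      obtain ⟨u, hu⟩ := (IsLocalization.eq_iff_exists p.primeCompl B).1 h2
      exact ⟨u, hu⟩
    choose u hu using key
    obtain ⟨S, hS⟩ := (Module.Finite.fg_top : (⊤ : Submodule A (Module.Dual A G)).FG)
    let v : p.primeCompl := ∏ φ ∈ S, u φ
    refine ⟨(v : A) * t, p.primeCompl.mul_mem v.2 t.2, (v : A) • g, ?_⟩
    refine LinearMap.ext_on hS fun φ hφ => ?_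
    simp only [Module.Dual.eval_apply, map_smul, LinearMap.smul_apply, smul_eq_mul]
    obtain ⟨w, hw'⟩ := Finset.dvd_prod_of_mem u (Finset.mem_coe.1 hφ)
    have hv : (v : A) = u φ * w := congrArg Subtype.val hw'
    rw [hv]
    linear_combination (-(w : A)) * hu φ

omit [Module.Finite A G] in
/-- an element all of whose annihilating localisations avoid `I` is killed by a power of `I` -/
theorem exists_pow_le_colon {N : Type u} [AddCommGroup N] [Module A N] (S : Submodule A N) (f : N)
    (h : ∀ p : PrimeSpectrum A, ¬ I ≤ p.asIdeal → ∃ s ∉ p.asIdeal, s • f ∈ S) :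
    ∃ n : ℕ, ∀ x ∈ I ^ n, x • f ∈ S := by
  let J : Ideal A := S.comap (LinearMap.toSpanSingleton A N f)
  have hJ : I ≤ J.radical := by
    rw [Ideal.radical_eq_sInf]
    refine le_sInf fun P ⟨hJP, hP⟩ => by_contra fun hIP => ?_
    obtain ⟨s, hs, hsf⟩ := h ⟨P, hP⟩ hIP
    exact hs (hJP hsf)
  obtain ⟨n, hn⟩ := Ideal.exists_pow_le_of_le_radical_of_fg hJ (IsNoetherian.noetherian I)
  exact ⟨n, fun x hx => hn hx⟩

/-- reflexive off `V(I)` and depth two along it: reflexive -/
theorem isReflexive_of_idealDepth_two (hA : 1 ≤ _root_.LocCoh.idealDepth I A)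
    (hU : ∀ p : PrimeSpectrum A, ¬ I ≤ p.asIdeal →
      Module.IsReflexive (Localization.AtPrime p.asIdeal) (LocalizedModule p.asIdeal.primeCompl G))
    (hG : 2 ≤ _root_.LocCoh.idealDepth I G) : Module.IsReflexive A G := by
  obtain ⟨as, hal, ham, haw⟩ := (CAlgH.DepthCriterion.depth_ge_iff (A := A) A I 1).1
    fun p _ hp => (LocCoh.natCast_le_idealDepth_iff_local I A 1).1 (by simpa using hA) ⟨p, inferInstance⟩ hp
  obtain ⟨gs, hgl, hgm, hgw⟩ := (CAlgH.DepthCriterion.depth_ge_iff (A := A) G I 2).1
    fun p _ hp => (LocCoh.natCast_le_idealDepth_iff_local I G 2).1 (by simpa using hG) ⟨p, inferInstance⟩ hp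
  obtain ⟨x, rfl⟩ := List.length_eq_one_iff.1 hal
  obtain ⟨a, b, rfl⟩ := List.length_eq_two.1 hgl
  simp only [List.mem_cons, List.not_mem_nil, or_false, forall_eq_or_imp, forall_eq] at ham hgm
  have hx : IsSMulRegular A x := ((isWeaklyRegular_cons_iff A x []).1 haw).1
  obtain ⟨ha, hb'⟩ := (isWeaklyRegular_cons_iff G a [b]).1 hgw
  have hb : IsSMulRegular (QuotSMulTop a G) b := ((isWeaklyRegular_cons_iff _ b []).1 hb').1
  let ev := Module.Dual.eval A G
  have hevinj : Function.Injective ev := by
    rw [injective_iff_map_eq_zero]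
    intro g hg
    obtain ⟨n, hn⟩ := exists_pow_le_colon I (⊥ : Submodule A G) g fun p hp => by
      have := hU p hp
      obtain ⟨s, hs, h⟩ := exists_smul_eq_zero_of_eval p.asIdeal hg
      exact ⟨s, hs, by simpa using h⟩
    exact (ha.pow n) (by simpa using hn _ (Ideal.pow_mem_pow hgm.1 n))
  have hxreg : ∀ f : Module.Dual A (Module.Dual A G), x • f = 0 → f = 0 := fun f hf =>
    LinearMap.ext fun φ => hx.right_eq_zero_of_smul (LinearMap.congr_fun hf φ)
  have claim : ∀ f : Module.Dual A (Module.Dual A G),
      (∀ y ∈ I, y • f ∈ LinearMap.range ev) → f ∈ LinearMap.range ev := by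
    intro f hf
    obtain ⟨ga, hga⟩ := hf a hgm.1
    obtain ⟨gb, hgb⟩ := hf b hgm.2
    have hcomm : b • ga = a • gb := hevinj (by rw [map_smul, map_smul, hga, hgb, smul_comm])
    have hmem : ga ∈ (a • ⊤ : Submodule A G) := by
      rw [← Submodule.Quotient.mk_eq_zero]
      refine hb.right_eq_zero_of_smul ?_
      rw [← Submodule.Quotient.mk_smul, Submodule.Quotient.mk_eq_zero, hcomm]
      exact Submodule.smul_mem_pointwise_smul _ _ _ Submodule.mem_top
    obtain ⟨g, -, rfl⟩ := (Submodule.mem_smul_pointwise_iff_exists _ _ _).1 hmem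
    obtain ⟨gx, hgx⟩ := hf x ham
    have h1 : ev (gx - x • g) = x • (f - ev g) := by rw [map_sub, map_smul, hgx, smul_sub]
    have h2 : a • (f - ev g) = 0 := by rw [smul_sub, ← hga, map_smul, sub_self]
    have h3 : gx - x • g = 0 := ha.right_eq_zero_of_smul
      (hevinj (by rw [map_smul, h1, smul_comm, h2, smul_zero, map_zero]))
    exact ⟨g, (sub_eq_zero.1 (hxreg _ (by rw [← h1, h3, map_zero]))).symm⟩
  refine ⟨hevinj, fun f => ?_⟩
  obtain ⟨n, hn⟩ := exists_pow_le_colon I (LinearMap.range ev) f fun p hp => by
    have := hU p hp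
    exact exists_smul_mem_range_eval p.asIdeal f
  suffices H : ∀ n (f : Module.Dual A (Module.Dual A G)), (∀ y ∈ I ^ n, y • f ∈ LinearMap.range ev) →
      f ∈ LinearMap.range ev by exact H n f hn
  intro n
  induction n with
  | zero => intro f hf; simpa using hf 1 (by simp)
  | succ n ih =>
    intro f hf
    refine ih f fun y hy => claim _ fun z hz => ?_
    rw [smul_smul]
    exact hf _ (by rw [pow_succ', ]; exact Ideal.mul_mem_mul hz hy)

/-- a module reflexive at `p` has depth at least `min (2, depth A_p)` there -/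
theorem min_two_le_depth_of_isReflexive_atPrime (p : Ideal A) [p.IsPrime]
    [Module.IsReflexive (Localization.AtPrime p) (LocalizedModule p.primeCompl G)] :
    min 2 (_root_.LocCoh.depth (Localization.AtPrime p) (Localization.AtPrime p)) ≤
      _root_.LocCoh.depth (Localization.AtPrime p) (LocalizedModule p.primeCompl G) := by
  rw [CAlgH3.depth_congr (Module.evalEquiv (Localization.AtPrime p) (LocalizedModule p.primeCompl G))]
  exact CAlgMisc2.min_two_depth_le_depth_hom (Module.Dual (Localization.AtPrime p) (LocalizedModule p.primeCompl G))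
    (Localization.AtPrime p)

/-- a reflexive module has depth at least `min (2, depth A_p)` at every prime -/
theorem min_two_le_depth_of_isReflexive [Module.IsReflexive A G] (p : Ideal A) [p.IsPrime] :
    min 2 (_root_.LocCoh.depth (Localization.AtPrime p) (Localization.AtPrime p)) ≤
      _root_.LocCoh.depth (Localization.AtPrime p) (LocalizedModule p.primeCompl G) := by
  have := Module.finitePresentation_of_finite A (Module.Dual A G)
  let B := Localization.AtPrime p
  let e : LocalizedModule p.primeCompl G ≃ₗ[A] LocalizedModule p.primeCompl (Module.Dual A (Module.Dual A G)) :=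
    (IsLocalizedModule.mapEquiv p.primeCompl (LocalizedModule.mkLinearMap p.primeCompl G)
      (LocalizedModule.mkLinearMap p.primeCompl (Module.Dual A (Module.Dual A G))) B (Module.evalEquiv A G)).restrictScalars A
  let e2 : LocalizedModule p.primeCompl (Module.Dual A (Module.Dual A G)) ≃ₗ[A]
      (LocalizedModule p.primeCompl (Module.Dual A G) →ₗ[B] LocalizedModule p.primeCompl A) :=
    Module.FinitePresentation.linearEquivMapExtendScalars p.primeCompl
  rw [CAlgH3.depth_congr ((e.trans e2).extendScalarsOfIsLocalization p.primeCompl B)]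
  refine le_trans (le_of_eq ?_) (CAlgMisc2.min_two_depth_le_depth_hom
    (LocalizedModule p.primeCompl (Module.Dual A G)) (LocalizedModule p.primeCompl A))
  rw [CAlgH3.depth_congr (CAlgH3.localizedModuleSelf p)]

/-- `(S₂)` with supports of dimension two along `V(I)`, depth two and reflexivity -/
theorem hasSk_two_iff_idealDepth_iff_isReflexive (hA : _root_.LocCoh.HasSk 2 A A) (hI : 2 ≤ I.height)
    (hU : ∀ p : PrimeSpectrum A, ¬ I ≤ p.asIdeal →
      Module.IsReflexive (Localization.AtPrime p.asIdeal) (LocalizedModule p.asIdeal.primeCompl G)) :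
    ((_root_.LocCoh.HasSk 2 A G ∧ ∀ p : PrimeSpectrum A, I ≤ p.asIdeal → p ∈ Module.support A G →
        (2 : WithBot ℕ∞) ≤ Module.supportDim (Localization.AtPrime p.asIdeal) (LocalizedModule p.asIdeal.primeCompl G)) ↔
      2 ≤ _root_.LocCoh.idealDepth I G) ∧
    (2 ≤ _root_.LocCoh.idealDepth I G ↔ Module.IsReflexive A G) := by
  have hdepthA : ∀ p : PrimeSpectrum A, I ≤ p.asIdeal →
      2 ≤ _root_.LocCoh.depth (Localization.AtPrime p.asIdeal) (Localization.AtPrime p.asIdeal) := by
    intro p hp
    have h := (CAlgH3.hasSk_self_iff 2).1 hA p.asIdeal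
    rw [IsLocalization.AtPrime.ringKrullDim_eq_height p.asIdeal] at h
    rw [← WithBot.coe_le_coe]
    refine le_trans (le_min le_rfl ?_) h
    exact WithBot.coe_le_coe.2 (hI.trans (Ideal.height_mono hp))
  have hA1 : 1 ≤ _root_.LocCoh.idealDepth I A := by
    have := (LocCoh.natCast_le_idealDepth_iff_local I A 1).2 fun p hp => by
      rw [CAlgH3.depth_congr (CAlgH3.localizedModuleSelf p.asIdeal)]
      exact le_trans (by norm_num) (hdepthA p hp)
    simpa using this
  have hlocal := LocCoh.natCast_le_idealDepth_iff_local I G 2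
  simp only [Nat.cast_ofNat] at hlocal
  refine ⟨⟨fun ⟨hS, hd⟩ => by simpa using le_idealDepth_of_hasSk (k := 2) I hS (by simpa using hd),
    fun h => ⟨fun p _ => ?_, fun p hp hs => ?_⟩⟩,
    fun h => isReflexive_of_idealDepth_two I hA1 hU h, fun h => hlocal.2 fun p hp => ?_⟩
  · by_cases hp : I ≤ p
    · exact (min_le_left _ _).trans (WithBot.coe_le_coe.2 (hlocal.1 h ⟨p, inferInstance⟩ hp))
    · have := hU ⟨p, inferInstance⟩ hp
      refine le_trans ?_ (WithBot.coe_le_coe.2 (min_two_le_depth_of_isReflexive_atPrime (G := G) p))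
      rw [WithBot.coe_min]
      exact le_min (min_le_left _ _) ((min_le_min_left _ (Module.supportDim_le_ringKrullDim _ _)).trans
        ((CAlgH3.hasSk_self_iff 2).1 hA p))
  · have : Nontrivial (LocalizedModule p.asIdeal.primeCompl G) := hs
    exact (WithBot.coe_le_coe.2 (hlocal.1 h p hp)).trans CAlgH3.depth_le_supportDim
  · exact le_trans (le_min le_rfl (hdepthA p hp)) (min_two_le_depth_of_isReflexive p.asIdeal)

end Groth.Agent.CAlg15
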