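import Groth.Agent.CAlg15.RegularBC
import Groth.Agent.CAlg15.ReflexDepth

/-! Duals of modules which are free off a closed set of depth two, and their base change. -/

set_option autoImplicit false
set_option linter.style.haveILetI false

universe u

open TensorProduct IsLocalRing RingTheory.Sequence Function
open scoped Pointwise

namespace Groth.Agent.CAlg15

variable {B : Type u} [CommRing B]

/-- `g` is invertible outside `V(J)`. -/
def InvOff (J : Ideal B) {M N : Type u} [AddCommGroup M] [Module B M] [AddCommGroup N] [Module B N]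
    (g : M →ₗ[B] N) : Prop :=
  ∀ q : PrimeSpectrum B, ¬ J ≤ q.asIdeal →
    ∃ c ∉ q.asIdeal, ∃ s : N →ₗ[B] M, g ∘ₗ s = c • LinearMap.id ∧ s ∘ₗ g = c • LinearMap.id

variable {J : Ideal B} {M N : Type u} [AddCommGroup M] [Module B M] [AddCommGroup N] [Module B N]

theorem InvOff.dualMap {g : M →ₗ[B] N} (h : InvOff J g) : InvOff J g.dualMap := by
  intro q hq
  obtain ⟨c, hc, s, h1, h2⟩ := h q hq
  refine ⟨c, hc, s.dualMap, ?_, ?_⟩
  · refine LinearMap.ext fun φ => LinearMap.ext fun x => ?_
    show φ (s (g x)) = c • φ x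
    rw [show s (g x) = c • x from LinearMap.congr_fun h2 x, map_smul]
  · refine LinearMap.ext fun φ => LinearMap.ext fun x => ?_
    show φ (g (s x)) = c • φ x
    rw [show g (s x) = c • x from LinearMap.congr_fun h1 x, map_smul]

theorem InvOff.baseChange (B' : Type u) [CommRing B'] [Algebra B B'] {g : M →ₗ[B] N} (h : InvOff J g) :
    InvOff (J.map (algebraMap B B')) (g.baseChange B') := by
  intro q' hq'
  obtain ⟨c, hc, s, h1, h2⟩ := h ⟨q'.asIdeal.comap (algebraMap B B'), Ideal.IsPrime.comap _⟩
    (fun hle => hq' (Ideal.map_le_iff_le_comap.2 hle))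
  refine ⟨algebraMap B B' c, hc, s.baseChange B', ?_, ?_⟩
  · rw [← LinearMap.baseChange_comp, h1]
    refine LinearMap.ext fun x => ?_
    rw [LinearMap.baseChange_smul, LinearMap.baseChange_id, LinearMap.smul_apply, LinearMap.smul_apply,
      algebraMap_smul]
  · rw [← LinearMap.baseChange_comp, h2]
    refine LinearMap.ext fun x => ?_
    rw [LinearMap.baseChange_smul, LinearMap.baseChange_id, LinearMap.smul_apply, LinearMap.smul_apply,
      algebraMap_smul]

variable [IsNoetherianRing B]

theorem le_idealDepth_pow (n : ℕ) (h : 2 ≤ LocCoh.idealDepth J B) : 2 ≤ LocCoh.idealDepth (J ^ n) B :=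
  (le_idealDepth_iff _ _ 2).2 fun q hq => (le_idealDepth_iff _ _ 2).1 h q (Ideal.IsPrime.le_of_pow_le hq)

/-- Dualising a map invertible off a closed set of depth two gives a bijection. -/
theorem InvOff.dualMap_bijective [Module.Finite B M] [Module.Finite B N] {g : M →ₗ[B] N} (h : InvOff J g)
    (hB : 2 ≤ LocCoh.idealDepth J B) : Bijective g.dualMap := by
  have hker : ∀ m, g m = 0 → ∃ n, ∀ x ∈ J ^ n, x • m = 0 := fun m hm => by
    obtain ⟨n, hn⟩ := exists_pow_le_colon J (⊥ : Submodule B M) m fun q hq => by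
      obtain ⟨c, hc, s, -, h2⟩ := h q hq
      refine ⟨c, hc, ?_⟩
      have := LinearMap.congr_fun h2 m
      rw [LinearMap.comp_apply, hm, map_zero] at this
      simpa using this.symm
    exact ⟨n, fun x hx => by simpa using hn x hx⟩
  have hrange : ∀ y : N, ∃ n, ∀ x ∈ J ^ n, x • y ∈ LinearMap.range g := fun y =>
    exists_pow_le_colon J (LinearMap.range g) y fun q hq => by
      obtain ⟨c, hc, s, h1, -⟩ := h q hq
      exact ⟨c, hc, s y, LinearMap.congr_fun h1 y⟩
  obtain ⟨n, hn⟩ : ∃ n, ∀ y : N, ∀ x ∈ J ^ n, x • y ∈ LinearMap.range g := by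
    classical
    obtain ⟨k, v, hv⟩ := Submodule.fg_iff_exists_fin_generating_family.1 (Module.Finite.fg_top (R := B) (M := N))
    choose e he using fun i => hrange (v i)
    refine ⟨∑ i, e i, fun y x hx => ?_⟩
    have hy : y ∈ Submodule.span B (Set.range v) := hv ▸ Submodule.mem_top
    induction hy using Submodule.span_induction with
    | mem z hz =>
      obtain ⟨i, rfl⟩ := hz
      exact he i x (Ideal.pow_le_pow_right (Finset.single_le_sum (fun _ _ => Nat.zero_le _) (Finset.mem_univ i)) hx)
    | zero => simp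
    | add z w _ _ h1 h2 => rw [smul_add]; exact add_mem h1 h2
    | smul r z _ h1 => rw [smul_comm]; exact Submodule.smul_mem _ r h1
  obtain ⟨l, hl, hm, hw⟩ := (CAlgH.DepthCriterion.depth_ge_iff (A := B) B (J ^ n) 2).1
    fun p _ hp => (LocCoh.natCast_le_idealDepth_iff_local (J ^ n) B 2).1
      (by simpa using le_idealDepth_pow n hB) ⟨p, inferInstance⟩ hp
  obtain ⟨a, b, rfl⟩ := List.length_eq_two.1 hl
  rw [isWeaklyRegular_cons_iff, isWeaklyRegular_cons_iff] at hw
  obtain ⟨ha, hb, -⟩ := hw
  simp only [List.mem_cons, List.not_mem_nil, or_false, forall_eq_or_imp, forall_eq] at hm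
  constructor
  · refine (injective_iff_map_eq_zero _).2 fun φ hφ => LinearMap.ext fun y => ?_
    obtain ⟨x, hx⟩ := hn y a hm.1
    refine ha.right_eq_zero_of_smul ?_
    rw [← map_smul, ← hx]
    exact LinearMap.congr_fun hφ x
  · intro ψ
    have hψ : ∀ m, g m = 0 → ψ m = 0 := fun m hm0 => by
      obtain ⟨k, hk⟩ := hker m hm0
      obtain ⟨l, hl, hlm, hlw⟩ := (CAlgH.DepthCriterion.depth_ge_iff (A := B) B (J ^ k) 2).1
        fun p _ hp => (LocCoh.natCast_le_idealDepth_iff_local (J ^ k) B 2).1
          (by simpa using le_idealDepth_pow k hB) ⟨p, inferInstance⟩ hp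
      obtain ⟨a', b', rfl⟩ := List.length_eq_two.1 hl
      refine ((isWeaklyRegular_cons_iff _ _ _).1 hlw).1.right_eq_zero_of_smul ?_
      rw [← map_smul, hk a' (hlm a' (by simp)), map_zero]
    have hex : ∀ y : N, ∃ c : B, ∀ x, g x = a • y → ψ x = a • c := by
      intro y
      obtain ⟨xa, hxa⟩ := hn y a hm.1
      obtain ⟨xb, hxb⟩ := hn y b hm.2
      have h0 : b • ψ xa = a • ψ xb := by
        rw [← map_smul, ← map_smul, ← sub_eq_zero, ← map_sub]
        refine hψ _ ?_
        rw [map_sub, map_smul, map_smul, hxa, hxb, smul_comm, sub_self]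
      have hmem : ψ xa ∈ (a • ⊤ : Submodule B B) := by
        rw [← Submodule.Quotient.mk_eq_zero]
        refine hb.right_eq_zero_of_smul ?_
        rw [← Submodule.Quotient.mk_smul, Submodule.Quotient.mk_eq_zero, h0]
        exact Submodule.smul_mem_pointwise_smul _ _ _ Submodule.mem_top
      obtain ⟨c, -, hc⟩ := (Submodule.mem_smul_pointwise_iff_exists _ _ _).1 hmem
      refine ⟨c, fun x hx => ?_⟩
      rw [hc, ← sub_eq_zero, ← map_sub]
      exact hψ _ (by rw [map_sub, hx, hxa, sub_self])
    choose c hc using hex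
    have huniq : ∀ y d, (∃ x, g x = a • y ∧ ψ x = a • d) → c y = d := fun y d ⟨x, hx, hd⟩ =>
      ha ((hc y x hx).symm.trans hd)
    refine ⟨⟨⟨c, fun y y' => ?_⟩, fun r y => ?_⟩, LinearMap.ext fun x => ?_⟩
    · obtain ⟨x, hx⟩ := hn y a hm.1
      obtain ⟨x', hx'⟩ := hn y' a hm.1
      exact huniq _ _ ⟨x + x', by rw [map_add, hx, hx', smul_add],
        by rw [map_add, hc y x hx, hc y' x' hx', smul_add]⟩
    · obtain ⟨x, hx⟩ := hn y a hm.1
      exact huniq _ _ ⟨r • x, by rw [map_smul, hx, smul_comm],
        by rw [map_smul, hc y x hx, RingHom.id_apply, smul_comm]⟩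
    · exact huniq _ _ ⟨a • x, map_smul g a x, map_smul ψ a x⟩

/-- The evaluation map of a module free off `V(J)` is invertible there. -/
theorem invOff_eval [Module.Finite B M]
    (hU : ∀ q : PrimeSpectrum B, ¬ J ≤ q.asIdeal →
      Module.Free (Localization.AtPrime q.asIdeal) (LocalizedModule q.asIdeal.primeCompl M)) :
    InvOff J (Module.Dual.eval B M) := by
  classical
  intro q hq
  haveI := hU q hq
  haveI : Module.Finite (Localization.AtPrime q.asIdeal) (LocalizedModule q.asIdeal.primeCompl M) :=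
    Module.Finite.of_isLocalizedModule q.asIdeal.primeCompl (LocalizedModule.mkLinearMap q.asIdeal.primeCompl M)
  let ev := Module.Dual.eval B M
  obtain ⟨m, κ, hκ⟩ := Submodule.fg_iff_exists_fin_generating_family.1 (IsNoetherian.noetherian (LinearMap.ker ev))
  choose u hu hu' using fun i => exists_smul_eq_zero_of_eval_eq_zero q.asIdeal (κ i)
    (show κ i ∈ LinearMap.ker ev from hκ ▸ Submodule.subset_span ⟨i, rfl⟩)
  obtain ⟨n, θ, hθ⟩ := Submodule.fg_iff_exists_fin_generating_family.1
    (Module.Finite.fg_top (R := B) (M := Module.Dual B (Module.Dual B M)))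
  choose v hv hv' using fun i => exists_smul_mem_range_eval_fibre (F := M) q.asIdeal (θ i)
  let c : B := (∏ i, u i) * ∏ i, v i
  have hc : c ∉ q.asIdeal := fun hm => by
    rcases q.isPrime.mem_or_mem hm with h | h
    · obtain ⟨i, -, hi⟩ := Ideal.IsPrime.prod_mem_iff.1 h
      exact hu i hi
    · obtain ⟨i, -, hi⟩ := Ideal.IsPrime.prod_mem_iff.1 h
      exact hv i hi
  have hk : ∀ x, ev x = 0 → c • x = 0 := fun x hx => by
    have hmem : x ∈ Submodule.span B (Set.range κ) := hκ.symm ▸ hx
    clear hx
    induction hmem using Submodule.span_induction with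
    | mem z hz =>
      obtain ⟨i, rfl⟩ := hz
      obtain ⟨d, hd⟩ : u i ∣ c := Dvd.dvd.mul_right (Finset.dvd_prod_of_mem _ (Finset.mem_univ i)) _
      rw [hd, mul_comm, mul_smul, hu' i, smul_zero]
    | zero => simp
    | add z w _ _ h1 h2 => rw [smul_add, h1, h2, add_zero]
    | smul r z _ h1 => rw [smul_comm, h1, smul_zero]
  have hr : ∀ z, c • z ∈ LinearMap.range ev := fun z => by
    have hmem : z ∈ Submodule.span B (Set.range θ) := hθ ▸ Submodule.mem_top
    induction hmem using Submodule.span_induction with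
    | mem w hw =>
      obtain ⟨i, rfl⟩ := hw
      obtain ⟨d, hd⟩ : v i ∣ c := Dvd.dvd.mul_left (Finset.dvd_prod_of_mem _ (Finset.mem_univ i)) _
      rw [hd, mul_comm, mul_smul]
      exact Submodule.smul_mem _ _ (hv' i)
    | zero => simp
    | add z w _ _ h1 h2 => rw [smul_add]; exact add_mem h1 h2
    | smul r z _ h1 => rw [smul_comm]; exact Submodule.smul_mem _ _ h1
  choose x hx using hr
  have hsx : ∀ z y, ev y = c • z → c • x z = c • y := fun z y hy => by
    rw [← sub_eq_zero, ← smul_sub]
    exact hk _ (by rw [map_sub, hx, hy, sub_self])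
  refine ⟨c * c, fun hm => (q.isPrime.mem_or_mem hm).elim hc hc,
    ⟨⟨fun z => c • x z, fun z w => ?_⟩, fun r z => ?_⟩, LinearMap.ext fun z => ?_, LinearMap.ext fun y => ?_⟩
  · rw [← smul_add]
    exact hsx _ _ (by rw [map_add, hx, hx, smul_add])
  · show c • x (r • z) = r • c • x z
    rw [smul_comm r c]
    exact hsx _ _ (by rw [map_smul, hx, smul_comm])
  · show ev (c • x z) = (c * c) • z
    rw [map_smul, hx]
    exact (mul_smul c c z).symm
  · show c • x (ev y) = (c * c) • y
    rw [hsx (ev y) (c • y) (map_smul _ _ _)]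
    exact (mul_smul c c y).symm

/-- A dual has depth two along an ideal of depth two. -/
theorem two_le_idealDepth_dual (I : Ideal B) (G : Type u) [AddCommGroup G] [Module B G] [Module.Finite B G]
    (hB : 2 ≤ LocCoh.idealDepth I B) : 2 ≤ LocCoh.idealDepth I (Module.Dual B G) := by
  obtain ⟨n, π, hπ⟩ := Module.Finite.exists_fin' B G
  obtain ⟨m, ρ, hρ⟩ := Module.Finite.exists_fin' B (LinearMap.ker π)
  let h₀ : (Fin m → B) →ₗ[B] (Fin n → B) := (LinearMap.ker π).subtype ∘ₗ ρ
  have hex : Function.Exact h₀ π := fun x =>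
    ⟨fun hx => ⟨(hρ ⟨x, hx⟩).choose, congrArg Subtype.val (hρ ⟨x, hx⟩).choose_spec⟩,
      fun ⟨y, hy⟩ => hy ▸ (ρ y).2⟩
  let t := fun k : ℕ => (Pi.basisFun B (Fin k)).toDualEquiv
  let f : Module.Dual B G →ₗ[B] (Fin n → B) := (t n).symm.toLinearMap ∘ₗ π.dualMap
  let h : (Fin n → B) →ₗ[B] (Fin m → B) := (t m).symm.toLinearMap ∘ₗ h₀.dualMap ∘ₗ (t n).toLinearMap
  have hfh : Function.Exact f h := by
    intro x
    constructor
    · intro hx
      have hx' : h₀.dualMap (t n x) = 0 := (t m).symm.injective (hx.trans (map_zero _).symm)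
      have hker : LinearMap.ker π ≤ LinearMap.ker (t n x) := fun z hz => by
        obtain ⟨y, rfl⟩ := (hex z).1 hz
        exact LinearMap.congr_fun hx' y
      refine ⟨(LinearMap.ker π).liftQ (t n x) hker ∘ₗ (π.quotKerEquivOfSurjective hπ).symm.toLinearMap,
        (t n).injective ?_⟩
      show t n ((t n).symm _) = t n x
      rw [LinearEquiv.apply_symm_apply]
      refine LinearMap.ext fun z => ?_
      have hz : (π.quotKerEquivOfSurjective hπ).symm (π z) = Submodule.Quotient.mk z := by
        rw [LinearEquiv.symm_apply_eq]; rfl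
      simp [hz]
    · rintro ⟨y, rfl⟩
      show (t m).symm (h₀.dualMap (t n ((t n).symm _))) = 0
      rw [LinearEquiv.apply_symm_apply]
      refine (congrArg (t m).symm ?_).trans (map_zero _)
      exact LinearMap.ext fun z => by
        show y (π (h₀ z)) = 0
        rw [hex.apply_apply_eq_zero, map_zero]
  exact (idealDepth_of_exact I f h ((t n).symm.injective.comp (LinearMap.dualMap_injective_of_surjective hπ)) hfh).2
    (hB.trans (idealDepth_pi I n)) ((le_trans (by norm_num) hB).trans (idealDepth_pi I m))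

omit [IsNoetherianRing B] in
/-- Freeness at a prime survives base change. -/
theorem free_localized_baseChange (B' : Type u) [CommRing B'] [Algebra B B'] (q' : Ideal B') [q'.IsPrime]
    [Module.Free (Localization.AtPrime (q'.comap (algebraMap B B')))
      (LocalizedModule (q'.comap (algebraMap B B')).primeCompl M)] :
    Module.Free (Localization.AtPrime q') (LocalizedModule q'.primeCompl (B' ⊗[B] M)) := by
  let q := q'.comap (algebraMap B B')
  let Bq := Localization.AtPrime q
  let W := Localization.AtPrime q'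
  letI : Algebra Bq W := (Localization.localRingHom q q' (algebraMap B B') rfl).toAlgebra
  haveI : IsScalarTower B Bq W := .of_algebraMap_eq fun x => by
    rw [IsScalarTower.algebraMap_apply B B' W]
    exact (Localization.localRingHom_to_map q q' _ rfl x).symm
  exact Module.Free.of_equiv (LinearEquiv.baseChange Bq W _ _ (LocalizedModule.equivTensorProduct q.primeCompl M) ≪≫ₗ
      AlgebraTensorModule.cancelBaseChange B Bq W W M ≪≫ₗ
      (AlgebraTensorModule.cancelBaseChange B B' W W M).symm ≪≫ₗ
      (LocalizedModule.equivTensorProduct q'.primeCompl (B' ⊗[B] M)).symm)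

end Groth.Agent.CAlg15
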