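import Mathlib

/-! Reflexive modules free off a closed set sit in four-term sequences with cokernel free there. -/

set_option autoImplicit false

universe u

namespace Groth.Agent.CAlg15

open Module

variable {B : Type u} [CommRing B]

theorem exists_generalized_inverse {M N P : Type u} [AddCommGroup M] [Module B M] [AddCommGroup N]
    [Module B N] [AddCommGroup P] [Module B P] [Module.Finite B M] [Module.FinitePresentation B N]
    (S : Submonoid B) (h : M →ₗ[B] N) (π : N →ₗ[B] P) (hex : Function.Exact h π)
    (hπ : Function.Surjective π) [Module.Projective (Localization S) (LocalizedModule S N)]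
    [Module.Projective (Localization S) (LocalizedModule S P)] :
    ∃ (s : N →ₗ[B] M) (c : B), c ∈ S ∧ h ∘ₗ s ∘ₗ h = c • h := by
  let H := LocalizedModule.map S h
  let Q := LocalizedModule.map S π
  have hHQ : Function.Exact H Q := LocalizedModule.map_exact S h π hex
  obtain ⟨σ, hσ⟩ := Module.projective_lifting_property Q LinearMap.id (LocalizedModule.map_surjective S π hπ)
  have hr : ∀ x, x - σ (Q x) ∈ LinearMap.range H := fun x => (hHQ _).1 (by
    rw [map_sub, show Q (σ (Q x)) = Q x from LinearMap.congr_fun hσ _, sub_self])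
  let r : LocalizedModule S N →ₗ[Localization S] LinearMap.range H :=
    LinearMap.codRestrict _ (LinearMap.id - σ ∘ₗ Q) hr
  obtain ⟨s', hs'⟩ := Module.projective_lifting_property H.rangeRestrict r H.surjective_rangeRestrict
  obtain ⟨s, t, hst⟩ := Module.FinitePresentation.exists_lift_of_isLocalizedModule S
    (LocalizedModule.mkLinearMap S M) (s'.restrictScalars B ∘ₗ LocalizedModule.mkLinearMap S N)
  have key : LocalizedModule.mkLinearMap S N ∘ₗ (h ∘ₗ s ∘ₗ h) =
      LocalizedModule.mkLinearMap S N ∘ₗ ((t : B) • h) := by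
    refine LinearMap.ext fun x => ?_
    simp only [LinearMap.comp_apply, LinearMap.smul_apply, map_smul]
    have hH : ∀ y, LocalizedModule.mkLinearMap S N (h y) = H (LocalizedModule.mkLinearMap S M y) := fun y => by
      simp [H, LocalizedModule.mkLinearMap_apply, LocalizedModule.map_mk]
    have h1 : LocalizedModule.mkLinearMap S M (s (h x)) = t • s' (LocalizedModule.mkLinearMap S N (h x)) :=
      LinearMap.congr_fun hst (h x)
    have h2 : H (s' (LocalizedModule.mkLinearMap S N (h x))) = LocalizedModule.mkLinearMap S N (h x) := by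
      have := congrArg Subtype.val (LinearMap.congr_fun hs' (LocalizedModule.mkLinearMap S N (h x)))
      simp only [LinearMap.comp_apply, LinearMap.codRestrict_apply, LinearMap.sub_apply, LinearMap.id_apply,
        r] at this
      refine this.trans ?_
      rw [hH x, show Q (H (LocalizedModule.mkLinearMap S M x)) = 0 from hHQ.apply_apply_eq_zero _, map_zero,
        sub_zero]
    rw [hH (s (h x)), h1, Submonoid.smul_def, LinearMap.map_smul_of_tower, h2]
  obtain ⟨u, hu⟩ := Module.Finite.exists_smul_of_comp_eq_of_isLocalizedModule S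
    (LocalizedModule.mkLinearMap S N) _ _ key
  refine ⟨(u : B) • s, u * t, S.mul_mem u.2 t.2, ?_⟩
  rw [LinearMap.smul_comp, LinearMap.comp_smul, mul_smul]
  exact hu

theorem projective_localized_quotient {M N : Type u} [AddCommGroup M] [Module B M] [AddCommGroup N]
    [Module B N] (S : Submonoid B) (h : M →ₗ[B] N) (s : N →ₗ[B] M) (c : B) (hc : c ∈ S)
    (hh : h ∘ₗ s ∘ₗ h = c • h) [Module.Projective (Localization S) (LocalizedModule S N)] :
    Module.Projective (Localization S) (LocalizedModule S (N ⧸ LinearMap.range h)) := by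
  let P := LocalizedModule.map S (LinearMap.range h).mkQ
  let H := LocalizedModule.map S h
  let v : Localization S := Localization.mk 1 ⟨c, hc⟩
  let e : LocalizedModule S N →ₗ[Localization S] LocalizedModule S N :=
    LinearMap.id - v • (H ∘ₗ LocalizedModule.map S s)
  have hexact : Function.Exact H P := LocalizedModule.map_exact S _ _ (LinearMap.exact_map_mkQ_range h)
  have hker : LinearMap.ker P ≤ LinearMap.ker e := by
    intro x hx
    obtain ⟨y, rfl⟩ := (hexact x).1 hx
    induction y using LocalizedModule.induction_on with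
    | _ m t =>
      have hh' : h (s (h m)) = c • h m := LinearMap.congr_fun hh m
      simp only [e, v, H, LinearMap.mem_ker, LinearMap.sub_apply, LinearMap.id_apply, LinearMap.smul_apply,
        LinearMap.comp_apply, LocalizedModule.map_mk, LocalizedModule.mk_smul_mk, hh', one_smul, sub_eq_zero]
      rw [LocalizedModule.mk_eq]
      exact ⟨1, by simp [Submonoid.smul_def, mul_smul, smul_comm c]⟩
  have hP : Function.Surjective P := LocalizedModule.map_surjective S _ (Submodule.mkQ_surjective _)
  let σ : LocalizedModule S (N ⧸ LinearMap.range h) →ₗ[Localization S] LocalizedModule S N :=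
    (LinearMap.ker P).liftQ e hker ∘ₗ (P.quotKerEquivOfSurjective hP).symm.toLinearMap
  refine Module.Projective.of_split σ P (LinearMap.ext fun y => ?_)
  obtain ⟨x, rfl⟩ := hP y
  have hσ : σ (P x) = e x := by
    have : (P.quotKerEquivOfSurjective hP).symm (P x) = Submodule.Quotient.mk x := by
      rw [LinearEquiv.symm_apply_eq]; rfl
    simp [σ, this]
  show P (σ (P x)) = P x
  rw [hσ]
  show P (x - v • H (LocalizedModule.map S s x)) = P x
  rw [map_sub, map_smul, hexact.apply_apply_eq_zero, smul_zero, sub_zero]

theorem free_localized_dual {F : Type u} [AddCommGroup F] [Module B F] [Module.FinitePresentation B F]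
    (q : Ideal B) [q.IsPrime] [Module.Free (Localization.AtPrime q) (LocalizedModule q.primeCompl F)] :
    Module.Free (Localization.AtPrime q) (LocalizedModule q.primeCompl (Module.Dual B F)) := by
  let A := Localization.AtPrime q
  let e1 := (IsLocalizedModule.linearEquiv q.primeCompl (LocalizedModule.mkLinearMap q.primeCompl (Module.Dual B F))
    (LocalizedModule.map q.primeCompl (M := F) (N := B))).extendScalarsOfIsLocalization q.primeCompl A
  let e2 : LocalizedModule q.primeCompl B ≃ₗ[A] A :=
    (IsLocalizedModule.linearEquiv q.primeCompl (LocalizedModule.mkLinearMap q.primeCompl B)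
      (Algebra.linearMap B A)).extendScalarsOfIsLocalization q.primeCompl A
  exact Module.Free.of_equiv ((LinearEquiv.congrRight e2).symm.trans e1.symm)

theorem exists_fourTerm [IsNoetherianRing B] (J : Ideal B) (F : Type u) [AddCommGroup F] [Module B F]
    [Module.Finite B F] [Module.IsReflexive B F]
    (hU : ∀ q : PrimeSpectrum B, ¬ J ≤ q.asIdeal →
      Module.Free (Localization.AtPrime q.asIdeal) (LocalizedModule q.asIdeal.primeCompl F)) :
    ∃ (n m : ℕ) (g : F →ₗ[B] (Fin n → B)) (h : (Fin n → B) →ₗ[B] (Fin m → B)),
      Function.Injective g ∧ Function.Exact g h ∧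
      ∀ q : PrimeSpectrum B, ¬ J ≤ q.asIdeal →
        Module.Free (Localization.AtPrime q.asIdeal)
          (LocalizedModule q.asIdeal.primeCompl ((Fin m → B) ⧸ LinearMap.range h)) := by
  obtain ⟨n, π, hπ⟩ := Module.Finite.exists_fin' B (Module.Dual B F)
  obtain ⟨m, ρ, hρ⟩ := Module.Finite.exists_fin' B (LinearMap.ker π)
  let h₀ : (Fin m → B) →ₗ[B] (Fin n → B) := (LinearMap.ker π).subtype ∘ₗ ρ
  have hex : Function.Exact h₀ π := fun x =>
    ⟨fun hx => ⟨(hρ ⟨x, hx⟩).choose, congrArg Subtype.val (hρ ⟨x, hx⟩).choose_spec⟩,
      fun ⟨y, hy⟩ => hy ▸ (ρ y).2⟩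
  let t := fun k : ℕ => (Pi.basisFun B (Fin k)).toDualEquiv
  let g : F →ₗ[B] (Fin n → B) := (t n).symm.toLinearMap ∘ₗ π.dualMap ∘ₗ (Module.evalEquiv B F).toLinearMap
  let h : (Fin n → B) →ₗ[B] (Fin m → B) := (t m).symm.toLinearMap ∘ₗ h₀.dualMap ∘ₗ (t n).toLinearMap
  refine ⟨n, m, g, h, (t n).symm.injective.comp ((LinearMap.dualMap_injective_of_surjective hπ).comp
    (Module.evalEquiv B F).injective), ?_, fun q hq => ?_⟩
  · intro x
    constructor
    · intro hx
      have hx' : h₀.dualMap (t n x) = 0 := (t m).symm.injective (hx.trans (map_zero _).symm)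
      have hker : LinearMap.ker π ≤ LinearMap.ker (t n x) := fun z hz => by
        obtain ⟨y, rfl⟩ := (hex z).1 hz
        exact LinearMap.congr_fun hx' y
      obtain ⟨φ, hφ⟩ : ∃ φ : Module.Dual B (Module.Dual B F), φ ∘ₗ π = t n x :=
        ⟨(LinearMap.ker π).liftQ (t n x) hker ∘ₗ (π.quotKerEquivOfSurjective hπ).symm.toLinearMap,
          LinearMap.ext fun z => by
            have hz : (π.quotKerEquivOfSurjective hπ).symm (π z) = Submodule.Quotient.mk z := by
              rw [LinearEquiv.symm_apply_eq]; rfl
            simp [hz]⟩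
      refine ⟨(Module.evalEquiv B F).symm φ, (t n).injective ?_⟩
      show t n ((t n).symm (π.dualMap (Module.evalEquiv B F ((Module.evalEquiv B F).symm φ)))) = t n x
      rw [LinearEquiv.apply_symm_apply, LinearEquiv.apply_symm_apply]
      exact hφ
    · rintro ⟨y, rfl⟩
      show (t m).symm (h₀.dualMap (t n ((t n).symm _))) = 0
      rw [LinearEquiv.apply_symm_apply]
      refine (congrArg (t m).symm ?_).trans (map_zero _)
      exact LinearMap.ext fun z => by
        show Module.evalEquiv B F y (π (h₀ z)) = 0
        rw [hex.apply_apply_eq_zero, map_zero]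
  · haveI := hU q hq
    haveI := Module.finitePresentation_of_finite B F
    haveI := free_localized_dual (F := F) q.asIdeal
    haveI (k : ℕ) : Module.Free (Localization.AtPrime q.asIdeal) (LocalizedModule q.asIdeal.primeCompl (Fin k → B)) :=
      Module.free_of_isLocalizedModule q.asIdeal.primeCompl (LocalizedModule.mkLinearMap q.asIdeal.primeCompl _)
    obtain ⟨s, c, hc, hs⟩ := exists_generalized_inverse q.asIdeal.primeCompl h₀ π hex hπ
    let s' : (Fin m → B) →ₗ[B] (Fin n → B) := (t n).symm.toLinearMap ∘ₗ s.dualMap ∘ₗ (t m).toLinearMap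
    have hs' : h ∘ₗ s' ∘ₗ h = c • h := LinearMap.ext fun x => by
      have hx : h₀.dualMap (s.dualMap (h₀.dualMap (t n x))) = c • h₀.dualMap (t n x) :=
        LinearMap.ext fun z => by
          show t n x (h₀ (s (h₀ z))) = c • t n x (h₀ z)
          rw [show h₀ (s (h₀ z)) = c • h₀ z from LinearMap.congr_fun hs z, map_smul]
      simp only [h, s', LinearMap.comp_apply, LinearEquiv.coe_coe, LinearEquiv.apply_symm_apply,
        LinearMap.smul_apply, hx, map_smul]
    haveI : Module.Projective (Localization.AtPrime q.asIdeal)
        (LocalizedModule q.asIdeal.primeCompl ((Fin m → B) ⧸ LinearMap.range h)) :=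
      projective_localized_quotient q.asIdeal.primeCompl h s' c hc hs'
    haveI : Module.Finite (Localization.AtPrime q.asIdeal)
        (LocalizedModule q.asIdeal.primeCompl ((Fin m → B) ⧸ LinearMap.range h)) :=
      Module.Finite.of_isLocalizedModule q.asIdeal.primeCompl (LocalizedModule.mkLinearMap q.asIdeal.primeCompl _)
    exact Module.free_of_flat_of_isLocalRing

end Groth.Agent.CAlg15
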