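import Groth.Agent.FlatMor12.DvrFlat
import Groth.Prelude.Def_FlatCA
import Mathlib.RingTheory.IsTensorProduct

/-! The valuative criterion of flatness at a point. -/

set_option autoImplicit false
set_option backward.isDefEq.respectTransparency false
set_option linter.style.haveILetI false

universe u

open CategoryTheory CategoryTheory.Limits AlgebraicGeometry TensorProduct IsLocalRing
open Groth.Agent.EGA43

namespace Groth.Agent.CAlg15.DvrFlatAt

theorem comap_primeIdealOf_top (R : CommRingCat.{u}) (x : Spec R) :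
    ((isAffineOpen_top (Spec R)).primeIdealOf ⟨x, trivial⟩).asIdeal.comap (Scheme.ΓSpecIso R).inv.hom =
      (x : PrimeSpectrum R).asIdeal := by
  have h := (isAffineOpen_top (Spec R)).fromSpec_primeIdealOf ⟨x, trivial⟩
  rw [IsAffineOpen.fromSpec_top, Scheme.isoSpec_Spec_inv] at h
  exact congrArg PrimeSpectrum.asIdeal h

/-- A module over `Γ(Spec C)` and its localisations, read over `C`. -/
theorem isLocalizedModule_restrict {C C₀ : Type u} [CommRing C] [CommRing C₀] [Algebra C C₀]
    (hb : Function.Surjective (algebraMap C C₀)) (q : Ideal C) [q.IsPrime] (q₀ : Ideal C₀) [q₀.IsPrime]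
    (hq : q₀.comap (algebraMap C C₀) = q)
    {G N M : Type u} [AddCommGroup G] [Module C G] [AddCommGroup N] [Module C N] [Module C₀ N] [IsScalarTower C C₀ N]
    [AddCommGroup M] [Module C M] [Module C₀ M] [IsScalarTower C C₀ M]
    (e : G ≃ₗ[C] N) (ℓ : N →ₗ[C₀] M) [IsLocalizedModule q₀.primeCompl ℓ] :
    IsLocalizedModule q.primeCompl ((ℓ.restrictScalars C) ∘ₗ e.toLinearMap) := by
  have hmem : ∀ c : C, algebraMap C C₀ c ∈ q₀.primeCompl ↔ c ∈ q.primeCompl := fun c => by
    show algebraMap C C₀ c ∉ q₀ ↔ c ∉ q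
    rw [← Ideal.mem_comap, hq]
  exact
    { map_units := fun s => by
        have hu := IsLocalizedModule.map_units ℓ ⟨algebraMap C C₀ s, (hmem s).2 s.2⟩
        rw [Module.End.isUnit_iff] at hu ⊢
        convert hu using 1
        funext m
        exact (algebraMap_smul C₀ (s : C) m).symm
      surj := fun m => by
        obtain ⟨⟨d, ⟨s', hs'⟩⟩, hd⟩ := IsLocalizedModule.surj q₀.primeCompl ℓ m
        obtain ⟨s, rfl⟩ := hb s'
        refine ⟨(e.symm d, ⟨s, (hmem s).1 hs'⟩), ?_⟩
        show s • m = ℓ (e (e.symm d))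
        rw [e.apply_symm_apply]
        exact (algebraMap_smul C₀ s m).symm.trans hd
      exists_of_eq := fun {d₁ d₂} h => by
        obtain ⟨⟨s', hs'⟩, hd⟩ := IsLocalizedModule.exists_of_eq (S := q₀.primeCompl) (f := ℓ) h
        obtain ⟨s, rfl⟩ := hb s'
        refine ⟨⟨s, (hmem s).1 hs'⟩, e.injective ?_⟩
        show e (s • d₁) = e (s • d₂)
        rw [map_smul, map_smul, ← algebraMap_smul C₀ s (e d₁), ← algebraMap_smul C₀ s (e d₂)]
        exact hd }

variable (R C : Type u) [CommRing R] [CommRing C] [IsNoetherianRing R] [IsLocalRing R] [_root_.IsReduced R]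
  [Algebra R C] [Algebra.FiniteType R C]
  (G : Type u) [AddCommGroup G] [Module C G] [Module R G] [IsScalarTower R C G] [Module.Finite C G]

set_option maxHeartbeats 3200000 in
set_option synthInstance.maxHeartbeats 400000 in
/-- EGA IV 11.8.1 at a point, algebraic form. -/
theorem flatAt_of_dvr (n : PrimeSpectrum C) (hn : n.asIdeal.comap (algebraMap R C) = maximalIdeal R)
    (H : ∀ (D : Type u) [CommRing D] [IsDomain D] [IsDiscreteValuationRing D] [Algebra R D],
      IsLocalHom (algebraMap R D) →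
      ∀ (C' : Type u) [CommRing C'] [IsNoetherianRing C'] [Algebra C C'] [Algebra D C'] [Algebra R C']
        [IsScalarTower R C C'] [IsScalarTower R D C'], Algebra.IsPushout R C D C' →
        ∀ q' : PrimeSpectrum C', q'.asIdeal.comap (algebraMap C C') = n.asIdeal →
          (maximalIdeal D).map (algebraMap D C') ≤ q'.asIdeal →
          FlatCA.FlatAt D q'.asIdeal (C' ⊗[C] G)) :
    FlatCA.FlatAt R n.asIdeal G := by
  let RC : CommRingCat.{u} := CommRingCat.of R
  let CC : CommRingCat.{u} := CommRingCat.of C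
  let a : RC ⟶ CC := CommRingCat.ofHom (algebraMap R C)
  let f : Spec CC ⟶ Spec RC := Spec.map a
  let Md := ModuleCat.of CC G
  let F := tilde Md
  let x : Spec CC := n
  have : LocallyOfFiniteType f :=
    (HasRingHomProperty.Spec_iff (P := @LocallyOfFiniteType)).2 (RingHom.finiteType_algebraMap.2 ‹_›)
  haveI : IsNoetherianRing C := Algebra.FiniteType.isNoetherianRing R C
  haveI : Coh.IsQCoh F := Props12.isQCoh_tilde Md
  haveI : IsLocallyNoetherian (Spec RC) := inferInstance
  haveI : AlgebraicGeometry.IsReduced (Spec RC) := inferInstance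
  haveI hfinC : Module.Finite CC Md := ‹Module.Finite C G›
  haveI : Module.Finite Γ(Spec CC, ⊤) Γ(F, ⊤) := (Props12.finite_top_iff Md).2 hfinC
  haveI : Module.Finite ((Spec CC).presheaf.stalk x) (F.presheaf.stalk x) := by
    let _ := ((Spec CC).presheaf.germ ⊤ x trivial).hom.toAlgebra
    let _ := Module.compHom (F.presheaf.stalk x) ((Spec CC).presheaf.germ ⊤ x trivial).hom
    have : IsScalarTower Γ(Spec CC, ⊤) ((Spec CC).presheaf.stalk x) (F.presheaf.stalk x) :=
      IsScalarTower.of_algebraMap_smul fun _ _ => rfl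
    let φ : Γ(F, ⊤) →ₗ[Γ(Spec CC, ⊤)] F.presheaf.stalk x :=
      { toFun := fun m => F.presheaf.germ ⊤ x trivial m
        map_add' := fun a b => map_add _ a b
        map_smul' := fun r m => QCohLoc.germ_smul' F (show x ∈ (⊤ : (Spec CC).Opens) from trivial) r m }
    have := EGA43.QcohFP.isLocalizedModule_germ F (isAffineOpen_top (Spec CC)) (x := x) trivial φ fun _ => rfl
    have hloc := (isAffineOpen_top (Spec CC)).isLocalization_stalk ⟨x, trivial⟩
    exact Module.Finite.of_isLocalizedModule
      ((isAffineOpen_top (Spec CC)).primeIdealOf ⟨x, trivial⟩).asIdeal.primeCompl (Rₚ := (Spec CC).presheaf.stalk x) φ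
  let C₀ : Type u := Γ(Spec CC, ⊤)
  let R₀ : Type u := Γ(Spec RC, ⊤)
  let ιC : C →+* C₀ := (Scheme.ΓSpecIso CC).inv.hom
  let ιR : R →+* R₀ := (Scheme.ΓSpecIso RC).inv.hom
  have hιC : Function.Bijective ιC := ConcreteCategory.bijective_of_isIso (Scheme.ΓSpecIso CC).inv
  have hιR : Function.Bijective ιR := ConcreteCategory.bijective_of_isIso (Scheme.ΓSpecIso RC).inv
  have hnat : ∀ r, (f.appLE ⊤ ⊤ le_top).hom (ιR r) = ιC (algebraMap R C r) := fun r => by
    have h0 := congr($((Scheme.ΓSpecIso_inv_naturality a)) r)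
    rw [CommRingCat.comp_apply, CommRingCat.comp_apply] at h0
    simp only [Scheme.Hom.appLE, f]
    exact h0.symm
  letI : Algebra C C₀ := ιC.toAlgebra
  let N : Type u := Γ(F, ⊤)
  letI : Module C N := Module.compHom N ιC
  haveI : IsScalarTower C C₀ N := .of_algebraMap_smul fun _ _ => rfl
  let e₀ : G ≃ₗ[C] N :=
    { (Props12.topEquiv Md).toAddEquiv with
      map_smul' := fun c m => ((Props12.topEquiv Md).map_smul c m).trans
        (algebraMap_smul Γ(Spec CC, ⊤) c (Props12.topEquiv Md m)).symm }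
  have hPx : ((isAffineOpen_top (Spec CC)).primeIdealOf ⟨x, trivial⟩).asIdeal.comap ιC = n.asIdeal :=
    comap_primeIdealOf_top CC x
  have hfx : FlatMod.IsFlatOverAt f F x := by
    refine EGA43.DvrCrit.isFlatOverAt_of_dvr f F x fun V _ _ _ φ _ w h1 h2 => ?_
    let g := EGA43.FlatBC.specTo f x φ
    let X' := pullback f g
    let f' := pullback.snd f g
    let g' := pullback.fst f g
    let H' : IsPullback g' f' f g := IsPullback.of_hasPullback f g
    haveI : Coh.IsQCoh ((Scheme.Modules.pullback g').obj F) := InjFibre.isQCoh_pullback g' F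
    let D : Type u := Γ(Spec (CommRingCat.of V), ⊤)
    haveI : IsDomain D := (Scheme.ΓSpecIso (CommRingCat.of V)).commRingCatIsoToRingEquiv.toMulEquiv.isDomain
    haveI : IsDiscreteValuationRing D :=
      IsDiscreteValuationRing.RingEquivClass.isDiscreteValuationRing
        (Scheme.ΓSpecIso (CommRingCat.of V)).commRingCatIsoToRingEquiv.symm
    let W : Type u := Γ(X', ⊤)
    haveI : IsAffine X' := inferInstance
    have hp := (isIso_pushoutSection_iff H' (le_top : (⊤ : (Spec (CommRingCat.of V)).Opens) ≤ g ⁻¹ᵁ ⊤)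
        (le_top : (⊤ : (Spec CC).Opens) ≤ f ⁻¹ᵁ ⊤) (show (⊤ : X'.Opens) = g' ⁻¹ᵁ ⊤ ⊓ f' ⁻¹ᵁ ⊤ by simp)).1
      (isIso_pushoutSection_of_isAffineOpen H' le_top le_top (show (⊤ : X'.Opens) = g' ⁻¹ᵁ ⊤ ⊓ f' ⁻¹ᵁ ⊤ by simp)
        (isAffineOpen_top _) (isAffineOpen_top _) (isAffineOpen_top _))
    rw [EGA43.QcohFlat.isFlatOverAt_iff f' _ (isAffineOpen_top _) (isAffineOpen_top X') le_top
      (show w ∈ (⊤ : X'.Opens) from trivial)]
    letI : Algebra C₀ W := (g'.appLE ⊤ ⊤ le_top).hom.toAlgebra
    letI : Algebra D W := (f'.appLE ⊤ ⊤ le_top).hom.toAlgebra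
    letI : Algebra R D := ((g.appLE ⊤ ⊤ le_top).hom.comp ιR).toAlgebra
    letI : Algebra C W := ((g'.appLE ⊤ ⊤ le_top).hom.comp ιC).toAlgebra
    letI : Algebra R W := ((g'.appLE ⊤ ⊤ le_top).hom.comp (ιC.comp (algebraMap R C))).toAlgebra
    haveI : IsScalarTower R C W := .of_algebraMap_eq fun _ => rfl
    haveI : IsScalarTower C C₀ W := .of_algebraMap_eq fun _ => rfl
    haveI : IsScalarTower R D W := .of_algebraMap_eq fun r => by
      show (g'.appLE ⊤ ⊤ le_top).hom (ιC (algebraMap R C r)) = (f'.appLE ⊤ ⊤ le_top).hom ((g.appLE ⊤ ⊤ le_top).hom (ιR r))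
      rw [← hnat]
      exact ConcreteCategory.congr_hom hp.w (ιR r)
    haveI hpush : Algebra.IsPushout R C D W := by
      have hp' : CategoryTheory.IsPushout a (CommRingCat.ofHom (algebraMap R D))
          (CommRingCat.ofHom (algebraMap C W)) (CommRingCat.ofHom (algebraMap D W)) := by
        refine hp.of_iso (Scheme.ΓSpecIso RC) (Scheme.ΓSpecIso CC) (Iso.refl _) (Iso.refl _) ?_ ?_ ?_ ?_
        · rw [← cancel_epi (Scheme.ΓSpecIso RC).inv, Iso.inv_hom_id_assoc, ← Category.assoc, ← cancel_mono (Scheme.ΓSpecIso CC).inv,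
            Category.assoc, Category.assoc, Iso.hom_inv_id, Category.comp_id]
          exact CommRingCat.hom_ext (RingHom.ext hnat)
        · rw [← cancel_epi (Scheme.ΓSpecIso RC).inv, Iso.inv_hom_id_assoc]
          rfl
        · rw [← cancel_epi (Scheme.ΓSpecIso CC).inv, Iso.inv_hom_id_assoc]
          rfl
        · rfl
      exact CommRingCat.isPushout_iff_isPushout.1 hp'
    haveI : IsNoetherianRing W := by
      haveI : Algebra.IsPushout R D C W := Algebra.IsPushout.symm inferInstance
      haveI : IsNoetherianRing (D ⊗[R] C) := Algebra.FiniteType.isNoetherianRing D _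
      exact isNoetherianRing_of_ringEquiv _ (Algebra.IsPushout.equiv R D C W).toRingEquiv
    -- the points
    let Pw : Ideal W := ((isAffineOpen_top X').primeIdealOf ⟨w, trivial⟩).asIdeal
    have hcC : Pw.comap (algebraMap C W) = n.asIdeal := by
      have h := congrArg PrimeSpectrum.asIdeal
        ((isAffineOpen_top (Spec CC)).comap_primeIdealOf_appLE (f := g') (x := w) ⊤ ⊤ (isAffineOpen_top X') le_top trivial)
      show Pw.comap ((g'.appLE ⊤ ⊤ le_top).hom.comp ιC) = _
      rw [← Ideal.comap_comap]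
      refine (congrArg (Ideal.comap ιC) h).trans ?_
      rw [← hPx]
      simp only [show g' w = x from h1]
    have hcV : (Pw.comap (algebraMap D W)).comap (Scheme.ΓSpecIso (CommRingCat.of V)).inv.hom = maximalIdeal V := by
      have h := congrArg PrimeSpectrum.asIdeal
        ((isAffineOpen_top (Spec (CommRingCat.of V))).comap_primeIdealOf_appLE (f := f') (x := w) ⊤ ⊤ (isAffineOpen_top X') le_top trivial)
      refine (congrArg (Ideal.comap (Scheme.ΓSpecIso (CommRingCat.of V)).inv.hom) h).trans ?_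
      simp only [show f' w = closedPoint V from h2]
      exact comap_primeIdealOf_top _ _
    have hmax : maximalIdeal D ≤ Pw.comap (algebraMap D W) := fun d hd => by
      obtain ⟨v, rfl⟩ := (ConcreteCategory.bijective_of_isIso (Scheme.ΓSpecIso (CommRingCat.of V)).inv).2 d
      rw [← Ideal.mem_comap, hcV]
      exact fun hv => hd (hv.map _)
    have hR : IsLocalHom (algebraMap R D) := ⟨fun r hr => by
      by_contra hru
      have h1 : algebraMap R W r ∈ Pw := by
        rw [IsScalarTower.algebraMap_apply R C W, ← Ideal.mem_comap, hcC, ← Ideal.mem_comap, hn]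
        exact hru
      rw [IsScalarTower.algebraMap_apply R D W] at h1
      exact ((isAffineOpen_top X').primeIdealOf ⟨w, trivial⟩).2.ne_top
        (Ideal.eq_top_of_isUnit_mem _ h1 (hr.map _))⟩
    have hflat : Module.Flat D (LocalizedModule Pw.primeCompl (W ⊗[C] G)) :=
      H D hR W hpush ⟨Pw, ((isAffineOpen_top X').primeIdealOf ⟨w, trivial⟩).2⟩ hcC (Ideal.map_le_iff_le_comap.2 hmax)
    obtain ⟨E⟩ := Flatn12.nonempty_pullback_sections_equiv g' F (isAffineOpen_top (Spec CC)) (isAffineOpen_top X') le_top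
    haveI : CompatibleSMul C C₀ W N := ⟨fun c m n => by
      obtain ⟨r, rfl⟩ := hιC.2 c
      rw [show ιC r • m = r • m from algebraMap_smul C₀ r m, show ιC r • n = r • n from algebraMap_smul C₀ r n,
        TensorProduct.smul_tmul]⟩
    let P := (Scheme.Modules.pullback g').obj F
    letI : Module D Γ(P, ⊤) := EGA43.QcohFlat.overModule f' P ⊤ ⊤ le_top
    haveI : IsScalarTower D W Γ(P, ⊤) := IsScalarTower.of_algebraMap_smul fun _ _ => rfl
    let e : (W ⊗[C] G) ≃ₗ[W] Γ(P, ⊤) :=
      (AlgebraTensorModule.congr (LinearEquiv.refl W W) e₀).trans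
        ((TensorProduct.equivOfCompatibleSMul C C₀ W W N).symm.trans E)
    let eL := IsLocalizedModule.mapEquiv Pw.primeCompl (LocalizedModule.mkLinearMap Pw.primeCompl (W ⊗[C] G))
      (LocalizedModule.mkLinearMap Pw.primeCompl Γ(P, ⊤)) (Localization.AtPrime Pw) e
    exact Module.Flat.of_linearEquiv (eL.restrictScalars D).symm
  -- back to `C`
  rw [EGA43.QcohFlat.isFlatOverAt_iff f F (isAffineOpen_top _) (isAffineOpen_top (Spec CC)) le_top
    (show x ∈ (⊤ : (Spec CC).Opens) from trivial)] at hfx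
  letI : Algebra R₀ C₀ := (f.appLE ⊤ ⊤ le_top).hom.toAlgebra
  letI : Module R₀ N := EGA43.QcohFlat.overModule f F ⊤ ⊤ le_top
  haveI : IsScalarTower R₀ C₀ N := IsScalarTower.of_algebraMap_smul fun _ _ => rfl
  letI : Algebra R R₀ := ιR.toAlgebra
  let Px : Ideal C₀ := ((isAffineOpen_top (Spec CC)).primeIdealOf ⟨x, trivial⟩).asIdeal
  let M := LocalizedModule Px.primeCompl N
  haveI : IsScalarTower C C₀ M := inferInstance
  letI : Module R M := Module.compHom M ιR
  haveI : IsScalarTower R R₀ M := .of_algebraMap_smul fun r m => by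
    rfl
  haveI : IsScalarTower R C M := .of_algebraMap_smul fun r m => by
    rw [← algebraMap_smul C₀ (algebraMap R C r) m]
    show ιC (algebraMap R C r) • m = ιR r • m
    rw [← hnat]
    exact algebraMap_smul C₀ (ιR r) m
  haveI : IsLocalizedModule n.asIdeal.primeCompl ((LocalizedModule.mkLinearMap Px.primeCompl N).restrictScalars C ∘ₗ e₀.toLinearMap) :=
    isLocalizedModule_restrict hιC.2 n.asIdeal Px hPx e₀ _
  haveI : Module.Flat R R₀ :=
    Module.Flat.of_linearEquiv (LinearEquiv.ofBijective (Algebra.linearMap R R₀) hιR).symm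
  haveI : Module.Flat R₀ M := hfx
  haveI : Module.Flat R M := Module.Flat.trans R R₀ M
  exact Module.Flat.of_linearEquiv
    ((IsLocalizedModule.iso n.asIdeal.primeCompl
      ((LocalizedModule.mkLinearMap Px.primeCompl N).restrictScalars C ∘ₗ e₀.toLinearMap)).restrictScalars R)

end Groth.Agent.CAlg15.DvrFlatAt
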