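import Mathlib
import Groth.Prelude.Def_CAlg
import Groth.Prelude.Def_EGA4b
import Groth.Agent.S2062
import Groth.Agent.CommAlg6.FibreLocal
import Groth.Agent.CAlg15.DepthKernel

/-! Depth along a closed set from fibre depths; reflexivity from depth two. -/

set_option autoImplicit false

universe u

open IsLocalRing TensorProduct

namespace Groth.Agent.CAlg15

section Fibre

variable {A B : Type u} [CommRing A] [CommRing B] [IsNoetherianRing A] [IsNoetherianRing B] [Algebra A B]

theorem flat_localizedModule {M : Type u} [AddCommGroup M] [Module B M] [Module A M] [IsScalarTower A B M]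
    [Module.Flat A M] (S : Submonoid B) : Module.Flat A (LocalizedModule S M) := by
  rw [Module.Flat.iff_lTensor_injective']
  intro I
  have h : Function.Injective (TensorProduct.AlgebraTensorModule.lTensor B M I.subtype) :=
    Module.Flat.lTensor_preserves_injective_linearMap (M := M) I.subtype I.injective_subtype
  have := IsLocalizedModule.map_injective S
    (TensorProduct.AlgebraTensorModule.rTensor A I (LocalizedModule.mkLinearMap S M))
    (TensorProduct.AlgebraTensorModule.rTensor A A (LocalizedModule.mkLinearMap S M)) _ h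
  rwa [IsLocalizedModule.map_lTensor] at this

theorem idealDepth_fibLocRing (q : Ideal B) [q.IsPrime] (N : Type u) [AddCommGroup N]
    [Module (Localization.AtPrime q) N] [Module (EGA4.FibLocRing A B q) N]
    [IsScalarTower (Localization.AtPrime q) (EGA4.FibLocRing A B q) N] :
    LocCoh.idealDepth (q.map (algebraMap B (EGA4.FibLocRing A B q))) N =
      LocCoh.depth (Localization.AtPrime q) N := by
  rw [IsScalarTower.algebraMap_eq B (Localization.AtPrime q) (EGA4.FibLocRing A B q), ← Ideal.map_map,
    Localization.AtPrime.map_eq_maximalIdeal]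
  exact CAlgH3.idealDepth_of_surjective Ideal.Quotient.mk_surjective _ N

theorem depth_localized_eq_add (q : Ideal B) [q.IsPrime] (E : Type u) [AddCommGroup E] [Module B E]
    [Module A E] [IsScalarTower A B E] [Module.Finite B E] [Module.Flat A E] :
    LocCoh.depth (Localization.AtPrime q) (LocalizedModule q.primeCompl E) =
      LocCoh.depth (Localization.AtPrime (q.comap (algebraMap A B)))
          (Localization.AtPrime (q.comap (algebraMap A B))) +
        LocCoh.idealDepth (q.map (algebraMap B (EGA4.FibLocRing A B q))) (EGA4.FibLocMod A B q E) := by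
  let p := q.comap (algebraMap A B)
  haveI : q.LiesOver p := ⟨rfl⟩
  letI := Localization.AtPrime.algebraOfLiesOver p q
  let Ap := Localization.AtPrime p
  let Bq := Localization.AtPrime q
  haveI : IsLocalHom (algebraMap Ap Bq) :=
    Localization.isLocalHom_localRingHom p q (algebraMap A B) Ideal.LiesOver.over
  letI : Module Ap (LocalizedModule q.primeCompl E) := Module.compHom _ (algebraMap Ap Bq)
  haveI : IsScalarTower Ap Bq (LocalizedModule q.primeCompl E) := .of_algebraMap_smul fun _ _ => rfl
  haveI : IsScalarTower A Ap (LocalizedModule q.primeCompl E) := .of_algebraMap_smul fun a x => by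
    show algebraMap Ap Bq (algebraMap A Ap a) • x = a • x
    rw [← IsScalarTower.algebraMap_apply, algebraMap_smul]
  haveI : Module.Flat A (LocalizedModule q.primeCompl E) := flat_localizedModule q.primeCompl
  haveI : Module.Flat Ap (LocalizedModule q.primeCompl E) :=
    (Module.flat_iff_of_isLocalization Ap p.primeCompl (LocalizedModule q.primeCompl E)).2 inferInstance
  haveI : Module.Finite Bq (LocalizedModule q.primeCompl E) :=
    Module.Finite.of_isLocalizedModule q.primeCompl (LocalizedModule.mkLinearMap q.primeCompl E)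
  have hmap : (maximalIdeal Ap).map (algebraMap Ap Bq) = p.map (algebraMap A Bq) := by
    rw [← Localization.AtPrime.map_eq_maximalIdeal, Ideal.map_map, ← IsScalarTower.algebraMap_eq]
  let e := Submodule.quotEquivOfEq ((maximalIdeal Ap).map (algebraMap Ap Bq) •
      (⊤ : Submodule Bq (LocalizedModule q.primeCompl E))) (p.map (algebraMap A Bq) • ⊤) (by rw [hmap])
  rw [← CAlgH3.depth_congr (AlgebraTensorModule.rid Ap Bq (LocalizedModule q.primeCompl E)),
    Groth.Agent.S2062.result (R := Ap) (S := Bq) (M := Ap) (N := LocalizedModule q.primeCompl E),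
    CAlgH3.depth_congr e, idealDepth_fibLocRing]

theorem le_idealDepth_of_fibres (J : Ideal B) (E : Type u) [AddCommGroup E] [Module B E] [Module A E]
    [IsScalarTower A B E] [Module.Finite B E] [Module.Flat A E] (k : ℕ∞)
    (h : ∀ q : PrimeSpectrum B, J ≤ q.asIdeal → k ≤ LocCoh.idealDepth
      (q.asIdeal.map (algebraMap B (EGA4.FibLocRing A B q.asIdeal))) (EGA4.FibLocMod A B q.asIdeal E)) :
    k ≤ LocCoh.idealDepth J E :=
  (le_idealDepth_iff J E k).2 fun q hq => by
    rw [depth_localized_eq_add (A := A)]
    exact (h q hq).trans le_add_self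

theorem le_idealDepth_self_of_fibres [Module.Flat A B] (J : Ideal B) (k : ℕ∞)
    (h : ∀ q : PrimeSpectrum B, J ≤ q.asIdeal → k ≤ LocCoh.idealDepth
      (q.asIdeal.map (algebraMap B (EGA4.FibLocRing A B q.asIdeal))) (EGA4.FibLocRing A B q.asIdeal)) :
    k ≤ LocCoh.idealDepth J B := by
  refine (le_idealDepth_iff J B k).2 fun q hq => ?_
  haveI := CommAlg6.isLocalRing_fibLocRing (A := A) q.asIdeal
  let e : LocalizedModule q.asIdeal.primeCompl B ≃ₗ[Localization.AtPrime q.asIdeal] Localization.AtPrime q.asIdeal :=
    (IsLocalizedModule.linearEquiv q.asIdeal.primeCompl (LocalizedModule.mkLinearMap q.asIdeal.primeCompl B)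
      (Algebra.linearMap B (Localization.AtPrime q.asIdeal))).extendScalarsOfIsLocalization q.asIdeal.primeCompl _
  rw [CAlgH3.depth_congr e, (CommAlg6.local_fibre (A := A) q.asIdeal).2.1]
  refine ((h q hq).trans (le_of_eq ?_)).trans le_add_self
  rw [idealDepth_fibLocRing, CAlgH3.depth_of_surjective (R := Localization.AtPrime q.asIdeal) (S := EGA4.FibLocRing A B q.asIdeal) Ideal.Quotient.mk_surjective]

end Fibre

section Bidual

variable {B : Type u} [CommRing B] [IsNoetherianRing B] {F : Type u} [AddCommGroup F] [Module B F]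
  [Module.Finite B F]

theorem exists_smul_eq_zero_of_eval_eq_zero (q : Ideal B) [q.IsPrime]
    [Module.IsReflexive (Localization.AtPrime q) (LocalizedModule q.primeCompl F)] (x : F)
    (hx : Module.Dual.eval B F x = 0) : ∃ c ∉ q, c • x = 0 := by
  haveI := Module.finitePresentation_of_finite B F
  let A := Localization.AtPrime q
  let ι := LocalizedModule.mkLinearMap q.primeCompl F
  suffices h : ι x = 0 by
    obtain ⟨c, hc⟩ := (IsLocalizedModule.eq_zero_iff q.primeCompl ι).1 h
    exact ⟨c, c.2, hc⟩
  apply (Module.bijective_dual_eval A (LocalizedModule q.primeCompl F)).injective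
  rw [map_zero]
  refine LinearMap.ext fun Φ => ?_
  obtain ⟨φ, s, hφ⟩ := Module.FinitePresentation.exists_lift_of_isLocalizedModule q.primeCompl
    (Algebra.linearMap B A) (Φ.restrictScalars B ∘ₗ ι)
  have h1 : s • Φ (ι x) = algebraMap B A (φ x) := (LinearMap.congr_fun hφ x).symm
  rw [show φ x = 0 from LinearMap.congr_fun hx φ, map_zero, Submonoid.smul_def, Algebra.smul_def] at h1
  simpa using (IsLocalization.map_units A s).mul_right_eq_zero.1 h1

theorem exists_smul_mem_range_eval_fibre (q : Ideal B) [q.IsPrime]
    [Module.IsReflexive (Localization.AtPrime q) (LocalizedModule q.primeCompl F)]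
    (θ : Module.Dual B (Module.Dual B F)) : ∃ c ∉ q, c • θ ∈ LinearMap.range (Module.Dual.eval B F) := by
  haveI := Module.finitePresentation_of_finite B F
  let A := Localization.AtPrime q
  let ι := LocalizedModule.mkLinearMap q.primeCompl F
  let L := IsLocalizedModule.mapExtendScalars q.primeCompl ι (Algebra.linearMap B A) A
  let Θ : Module.Dual A (Module.Dual A (LocalizedModule q.primeCompl F)) :=
    IsLocalizedModule.mapExtendScalars q.primeCompl L (Algebra.linearMap B A) A θ
  have hΘ : ∀ φ : Module.Dual B F, Θ (L φ) = algebraMap B A (θ φ) := fun φ =>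
    IsLocalizedModule.map_apply q.primeCompl L (Algebra.linearMap B A) θ φ
  have hL : ∀ (φ : Module.Dual B F) (z : F), L φ (ι z) = algebraMap B A (φ z) := fun φ z =>
    IsLocalizedModule.map_apply q.primeCompl ι (Algebra.linearMap B A) φ z
  obtain ⟨w, hw⟩ := (Module.bijective_dual_eval A (LocalizedModule q.primeCompl F)).surjective Θ
  obtain ⟨⟨z, t⟩, hzt⟩ := IsLocalizedModule.surj q.primeCompl ι w
  have key : ∀ φ : Module.Dual B F, algebraMap B A (φ z) = algebraMap B A ((t : B) * θ φ) := fun φ => by
    rw [map_mul, ← hΘ φ, ← hw, ← hL φ z, ← hzt, Submonoid.smul_def, LinearMap.map_smul_of_tower,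
      Algebra.smul_def]
    rfl
  obtain ⟨s, hs⟩ := Submodule.fg_iff_exists_fin_generating_family.1 (Module.Finite.fg_top (R := B) (M := Module.Dual B F))
    |>.imp fun n h => h
  obtain ⟨gen, hgen⟩ := hs
  choose u hu using fun i => (IsLocalization.eq_iff_exists q.primeCompl A).1 (key (gen i))
  let c : q.primeCompl := (∏ i, u i) * t
  refine ⟨c, c.2, (∏ i, (u i : B)) • z, LinearMap.ext_on_range hgen fun i => ?_⟩
  obtain ⟨d, hd⟩ : (u i : B) ∣ ∏ j, (u j : B) := Finset.dvd_prod_of_mem _ (Finset.mem_univ i)
  show gen i ((∏ j, (u j : B)) • z) = (c : B) • θ (gen i)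
  rw [map_smul, show (c : B) = (∏ j, (u j : B)) * t from by simp [c], smul_eq_mul, smul_eq_mul, mul_assoc, hd,
    mul_right_comm, hu i]
  ring

theorem eq_zero_of_support_le_of_depth {N : Type u} [AddCommGroup N] [Module B N] [Module.Finite B N]
    (J : Ideal B) (hN : 1 ≤ LocCoh.idealDepth J N)
    (hsupp : ∀ (x : N) (q : PrimeSpectrum B), ¬ J ≤ q.asIdeal → ∃ c ∉ q.asIdeal, c • x = 0) :
    Subsingleton N := by
  by_contra hne
  rw [not_subsingleton_iff_nontrivial] at hne
  obtain ⟨p, hp⟩ := associatedPrimes.nonempty B N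
  haveI := hp.isPrime
  obtain ⟨-, y, hy⟩ := isAssociatedPrime_iff.1 hp
  by_cases hJ : J ≤ p
  · have h1 := (le_idealDepth_iff J N 1).1 hN ⟨p, hp.isPrime⟩ hJ
    have hm : maximalIdeal (Localization.AtPrime p) ∈
        associatedPrimes (Localization.AtPrime p) (LocalizedModule p.primeCompl N) := by
      rw [← Module.associatedPrimes.preimage_comap_associatedPrimes_eq_associatedPrimes_of_isLocalizedModule
        p.primeCompl (Localization.AtPrime p) (f := LocalizedModule.mkLinearMap p.primeCompl N), Set.mem_preimage,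
        show Ideal.comap (algebraMap B (Localization.AtPrime p)) (maximalIdeal (Localization.AtPrime p)) = p
          from IsLocalization.AtPrime.under_maximalIdeal (Localization.AtPrime p) p]
      exact hp
    exact ((CommAlg6.one_le_depth_iff _).1 h1) hm
  · obtain ⟨c, hc, h⟩ := hsupp y ⟨p, hp.isPrime⟩ hJ
    exact hc (hy ▸ Submodule.mem_colon_singleton.2 (by simpa using h))

theorem isReflexive_of_depth (J : Ideal B) (hB : 1 ≤ LocCoh.idealDepth J B) (hF : 2 ≤ LocCoh.idealDepth J F)
    (hq : ∀ q : PrimeSpectrum B, ¬ J ≤ q.asIdeal →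
      Module.IsReflexive (Localization.AtPrime q.asIdeal) (LocalizedModule q.asIdeal.primeCompl F)) :
    Module.IsReflexive B F := by
  let ev := Module.Dual.eval B F
  haveI := Module.finitePresentation_of_finite B F
  have hK : 1 ≤ LocCoh.idealDepth J (LinearMap.ker ev) :=
    (idealDepth_of_exact (G := LinearMap.ker ev) J (LinearMap.ker ev).subtype ev Subtype.val_injective
      (LinearMap.exact_subtype_ker_map ev)).1 (le_trans (by norm_num) hF)
  have hinj : Function.Injective ev := by
    haveI := eq_zero_of_support_le_of_depth J hK fun x q hJ => by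
      haveI := hq q hJ
      obtain ⟨c, hc, h⟩ := exists_smul_eq_zero_of_eval_eq_zero q.asIdeal x.1 x.2
      exact ⟨c, hc, Subtype.ext h⟩
    exact LinearMap.ker_eq_bot.1 (Submodule.eq_bot_of_subsingleton)
  obtain ⟨n, π, hπ⟩ := Module.Finite.exists_fin' B (Module.Dual B F)
  let g : Module.Dual B (Module.Dual B F) →ₗ[B] (Fin n → B) :=
    (Pi.basisFun B (Fin n)).toDualEquiv.symm.toLinearMap ∘ₗ π.dualMap
  have hg : Function.Injective g :=
    (Pi.basisFun B (Fin n)).toDualEquiv.symm.injective.comp (LinearMap.dualMap_injective_of_surjective hπ)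
  have hG : 1 ≤ LocCoh.idealDepth J (Module.Dual B (Module.Dual B F)) :=
    (le_idealDepth_iff J _ 1).2 fun p hp => one_le_depth_localized_of_injective g hg _
      ((le_idealDepth_iff J _ 1).1 (hB.trans (idealDepth_pi J n)) p hp)
  have hC : 1 ≤ LocCoh.idealDepth J (Module.Dual B (Module.Dual B F) ⧸ LinearMap.range ev) := by
    refine (le_min hG ?_).trans (Groth.Agent.S0321.result B J F _ _ ev (LinearMap.range ev).mkQ hinj
      (Submodule.mkQ_surjective _) (LinearMap.exact_map_mkQ_range ev)).2.1
    exact le_trans (le_of_eq (by rfl)) (tsub_le_tsub_right hF 1)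
  haveI := eq_zero_of_support_le_of_depth J hC fun x q hJ => by
    obtain ⟨θ, rfl⟩ := Submodule.mkQ_surjective _ x
    haveI := hq q hJ
    obtain ⟨c, hc, h⟩ := exists_smul_mem_range_eval_fibre q.asIdeal θ
    exact ⟨c, hc, by rw [← map_smul]; exact (Submodule.Quotient.mk_eq_zero _).2 h⟩
  exact ⟨⟨hinj, fun θ => (Submodule.Quotient.mk_eq_zero _).1 (Subsingleton.elim (Submodule.Quotient.mk θ :
    Module.Dual B (Module.Dual B F) ⧸ LinearMap.range ev) 0)⟩⟩

end Bidual

end Groth.Agent.CAlg15
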