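import Groth.Agent.CAlg15.FourTermFlat
import Groth.Agent.InvLib.DepthLocalize

/-! The four term criterion at a prime of a global algebra, in terms of the fibre stalks. -/

set_option autoImplicit false

universe u

open TensorProduct IsLocalRing Function

namespace Groth.Agent.CAlg15.FibreFour

variable {A B : Type u} [CommRing A] [CommRing B] [IsNoetherianRing A] [IsNoetherianRing B] [Algebra A B]

theorem le_idealDepth_fibre_iff (J : Ideal B) (q : Ideal B) [q.IsPrime] (E : Type u) [AddCommGroup E] [Module B E]
    [Module.Finite B E] (k : ℕ∞) :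
    k ≤ _root_.LocCoh.idealDepth (J.map (algebraMap B (Localization.AtPrime q))) (EGA4.FibLocMod A B q E) ↔
      ∀ r : PrimeSpectrum B, J ≤ r.asIdeal → r.asIdeal ≤ q →
        r.asIdeal.comap (algebraMap A B) = q.comap (algebraMap A B) →
        k ≤ _root_.LocCoh.idealDepth (r.asIdeal.map (algebraMap B (EGA4.FibLocRing A B r.asIdeal)))
          (EGA4.FibLocMod A B r.asIdeal E) := by
  let p := q.comap (algebraMap A B)
  let K : Ideal B := p.map (algebraMap A B)
  let N0 := E ⧸ (K • (⊤ : Submodule B E))
  have hloc : ∀ (r : Ideal B) [r.IsPrime],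
      (K • (⊤ : Submodule B E)).localized' (Localization.AtPrime r) r.primeCompl
          (LocalizedModule.mkLinearMap r.primeCompl E) =
        p.map (algebraMap A (Localization.AtPrime r)) •
          (⊤ : Submodule (Localization.AtPrime r) (LocalizedModule r.primeCompl E)) := by
    intro r _
    rw [Submodule.localized'_smul, Submodule.localized'_top, Ideal.localized'_eq_map, Ideal.map_map,
      ← IsScalarTower.algebraMap_eq]
  let Bq := Localization.AtPrime q
  let eq' := (Submodule.quotEquivOfEq _ _ (hloc q)).restrictScalars B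
  let f : N0 →ₗ[B] EGA4.FibLocMod A B q E :=
    eq'.toLinearMap ∘ₗ (K • (⊤ : Submodule B E)).toLocalizedQuotient' Bq q.primeCompl
      (LocalizedModule.mkLinearMap q.primeCompl E)
  haveI : IsLocalizedModule q.primeCompl f := IsLocalizedModule.of_linearEquiv q.primeCompl _ eq'
  -- comparison at a prime below `q`
  have key : ∀ P : PrimeSpectrum Bq, K ≤ P.asIdeal.under B →
      _root_.LocCoh.depth (Localization.AtPrime P.asIdeal) (LocalizedModule P.asIdeal.primeCompl (EGA4.FibLocMod A B q E)) =
      _root_.LocCoh.idealDepth ((P.asIdeal.under B).map (algebraMap B (EGA4.FibLocRing A B (P.asIdeal.under B))))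
          (EGA4.FibLocMod A B (P.asIdeal.under B) E) := by
    intro P hK
    let r := P.asIdeal.under B
    rw [InvLib.depth_localization_eq q.primeCompl Bq f P.asIdeal, idealDepth_fibLocRing]
    have hr : r.comap (algebraMap A B) = p := by
      refine le_antisymm (Ideal.comap_mono ?_) (Ideal.map_le_iff_le_comap.1 hK)
      exact (IsLocalization.AtPrime.orderIsoOfPrime Bq q ⟨P.asIdeal, P.2⟩).2.2
    let er := (Submodule.quotEquivOfEq _ _ ((hloc r).trans (by rw [hr]) :
      (K • (⊤ : Submodule B E)).localized' (Localization.AtPrime r) r.primeCompl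
          (LocalizedModule.mkLinearMap r.primeCompl E) =
        (r.comap (algebraMap A B)).map (algebraMap A (Localization.AtPrime r)) • ⊤)).restrictScalars B
    let g : N0 →ₗ[B] EGA4.FibLocMod A B r E :=
      er.toLinearMap ∘ₗ (K • (⊤ : Submodule B E)).toLocalizedQuotient' (Localization.AtPrime r) r.primeCompl
        (LocalizedModule.mkLinearMap r.primeCompl E)
    haveI : IsLocalizedModule r.primeCompl g := IsLocalizedModule.of_linearEquiv r.primeCompl _ er
    exact CAlgH3.depth_congr ((IsLocalizedModule.iso r.primeCompl g).extendScalarsOfIsLocalization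
      r.primeCompl (Localization.AtPrime r))
  haveI : Module.Finite Bq (EGA4.FibLocMod A B q E) := Module.Finite.of_isLocalizedModule q.primeCompl f
  rw [le_idealDepth_iff]
  constructor
  · intro h r hJ hrq hr
    have hdisj : Disjoint (q.primeCompl : Set B) (r.asIdeal : Set B) :=
      Set.disjoint_left.2 fun x hx hxr => hx (hrq hxr)
    let P : PrimeSpectrum Bq :=
      ⟨r.asIdeal.map (algebraMap B Bq), IsLocalization.isPrime_of_isPrime_disjoint q.primeCompl Bq _ r.2 hdisj⟩
    have hP : P.asIdeal.under B = r.asIdeal := IsLocalization.under_map_of_isPrime_disjoint q.primeCompl Bq r.2 hdisj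
    have hKr : K ≤ P.asIdeal.under B := by
      rw [hP, Ideal.map_le_iff_le_comap, hr]
    have h' := h P (Ideal.map_mono hJ)
    rw [key P hKr] at h'
    haveI : P.asIdeal.IsPrime := P.2
    have e : r = (⟨P.asIdeal.under B, Ideal.IsPrime.under B P.asIdeal⟩ : PrimeSpectrum B) := PrimeSpectrum.ext hP.symm
    clear_value P
    subst e
    exact h'
  · intro h P hP
    by_cases hK : K ≤ P.asIdeal.under B
    · rw [key P hK]
      refine h ⟨P.asIdeal.under B, inferInstance⟩ (Ideal.map_le_iff_le_comap.1 hP) ?_ ?_
      · exact (IsLocalization.AtPrime.orderIsoOfPrime Bq q ⟨P.asIdeal, P.2⟩).2.2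
      · refine le_antisymm (Ideal.comap_mono ?_) (Ideal.map_le_iff_le_comap.1 hK)
        exact (IsLocalization.AtPrime.orderIsoOfPrime Bq q ⟨P.asIdeal, P.2⟩).2.2
    · obtain ⟨s, hs, hsP⟩ := SetLike.not_le_iff_exists.1 hK
      rw [InvLib.depth_localization_eq q.primeCompl Bq f P.asIdeal]
      haveI : Subsingleton (LocalizedModule (P.asIdeal.under B).primeCompl N0) := by
        refine LocalizedModule.subsingleton_iff.2 fun x => ⟨s, hsP, ?_⟩
        obtain ⟨x, rfl⟩ := Submodule.Quotient.mk_surjective _ x
        rw [← Submodule.Quotient.mk_smul, Submodule.Quotient.mk_eq_zero]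
        exact Submodule.smul_mem_smul hs trivial
      rw [CAlgH3.depth_eq_top_of_subsingleton]
      exact le_top

variable (J : Ideal B) {F E0 E1 G : Type u}
  [AddCommGroup F] [Module B F] [Module A F] [IsScalarTower A B F] [Module.Finite B F]
  [AddCommGroup E0] [Module B E0] [Module A E0] [IsScalarTower A B E0] [Module.Finite B E0] [Module.Flat A E0]
  [AddCommGroup E1] [Module B E1] [Module A E1] [IsScalarTower A B E1] [Module.Finite B E1] [Module.Flat A E1]
  [AddCommGroup G] [Module B G] [Module A G] [IsScalarTower A B G] [Module.Finite B G]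
  (f : F →ₗ[B] E0) (u : E0 →ₗ[B] E1) (v : E1 →ₗ[B] G)
  (hf : Injective f) (hfu : Exact f u) (huv : Exact u v) (hv : Surjective v)
  (hGU : ∀ q : PrimeSpectrum B, ¬ J ≤ q.asIdeal → FlatCA.FlatAt A q.asIdeal G)
  (h0 : ∀ q : PrimeSpectrum B, J ≤ q.asIdeal →
    2 ≤ _root_.LocCoh.idealDepth (q.asIdeal.map (algebraMap B (EGA4.FibLocRing A B q.asIdeal))) (EGA4.FibLocMod A B q.asIdeal E0))
  (h1 : ∀ q : PrimeSpectrum B, J ≤ q.asIdeal →
    1 ≤ _root_.LocCoh.idealDepth (q.asIdeal.map (algebraMap B (EGA4.FibLocRing A B q.asIdeal))) (EGA4.FibLocMod A B q.asIdeal E1))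

include f u v hf hfu huv hv hGU h0 h1 in
set_option maxHeartbeats 1600000 in
theorem main (q : Ideal B) [q.IsPrime] :
    ((∀ r : PrimeSpectrum B, J ≤ r.asIdeal → r.asIdeal ≤ q →
        r.asIdeal.comap (algebraMap A B) = q.comap (algebraMap A B) →
        2 ≤ _root_.LocCoh.idealDepth (r.asIdeal.map (algebraMap B (EGA4.FibLocRing A B r.asIdeal)))
          (EGA4.FibLocMod A B r.asIdeal F)) ↔ FlatCA.FlatAt A q G) ∧
    (FlatCA.FlatAt A q G → FlatCA.FlatAt A q F) := by
  let p := q.comap (algebraMap A B)
  haveI : q.LiesOver p := ⟨rfl⟩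
  letI := Localization.AtPrime.algebraOfLiesOver p q
  let Ap := Localization.AtPrime p
  let Bq := Localization.AtPrime q
  haveI : IsLocalHom (algebraMap Ap Bq) :=
    Localization.isLocalHom_localRingHom p q (algebraMap A B) Ideal.LiesOver.over
  letI : Module Ap (LocalizedModule q.primeCompl F) := Module.compHom _ (algebraMap Ap Bq)
  letI : Module Ap (LocalizedModule q.primeCompl E0) := Module.compHom _ (algebraMap Ap Bq)
  letI : Module Ap (LocalizedModule q.primeCompl E1) := Module.compHom _ (algebraMap Ap Bq)
  letI : Module Ap (LocalizedModule q.primeCompl G) := Module.compHom _ (algebraMap Ap Bq)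
  haveI : IsScalarTower Ap Bq (LocalizedModule q.primeCompl F) := .of_algebraMap_smul fun _ _ => rfl
  haveI : IsScalarTower Ap Bq (LocalizedModule q.primeCompl E0) := .of_algebraMap_smul fun _ _ => rfl
  haveI : IsScalarTower Ap Bq (LocalizedModule q.primeCompl E1) := .of_algebraMap_smul fun _ _ => rfl
  haveI : IsScalarTower Ap Bq (LocalizedModule q.primeCompl G) := .of_algebraMap_smul fun _ _ => rfl
  haveI tF : IsScalarTower A Ap (LocalizedModule q.primeCompl F) := .of_algebraMap_smul fun a x => by
    show algebraMap Ap Bq (algebraMap A Ap a) • x = a • x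
    rw [← IsScalarTower.algebraMap_apply, algebraMap_smul]
  haveI t0 : IsScalarTower A Ap (LocalizedModule q.primeCompl E0) := .of_algebraMap_smul fun a x => by
    show algebraMap Ap Bq (algebraMap A Ap a) • x = a • x
    rw [← IsScalarTower.algebraMap_apply, algebraMap_smul]
  haveI t1 : IsScalarTower A Ap (LocalizedModule q.primeCompl E1) := .of_algebraMap_smul fun a x => by
    show algebraMap Ap Bq (algebraMap A Ap a) • x = a • x
    rw [← IsScalarTower.algebraMap_apply, algebraMap_smul]
  haveI tG : IsScalarTower A Ap (LocalizedModule q.primeCompl G) := .of_algebraMap_smul fun a x => by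
    show algebraMap Ap Bq (algebraMap A Ap a) • x = a • x
    rw [← IsScalarTower.algebraMap_apply, algebraMap_smul]
  haveI : Module.Flat A (LocalizedModule q.primeCompl E0) := flat_localizedModule q.primeCompl
  haveI : Module.Flat A (LocalizedModule q.primeCompl E1) := flat_localizedModule q.primeCompl
  haveI : Module.Flat Ap (LocalizedModule q.primeCompl E0) :=
    (Module.flat_iff_of_isLocalization Ap p.primeCompl _).2 inferInstance
  haveI : Module.Flat Ap (LocalizedModule q.primeCompl E1) :=
    (Module.flat_iff_of_isLocalization Ap p.primeCompl _).2 inferInstance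
  haveI : Module.Finite Bq (LocalizedModule q.primeCompl F) :=
    Module.Finite.of_isLocalizedModule q.primeCompl (LocalizedModule.mkLinearMap q.primeCompl F)
  haveI : Module.Finite Bq (LocalizedModule q.primeCompl E0) :=
    Module.Finite.of_isLocalizedModule q.primeCompl (LocalizedModule.mkLinearMap q.primeCompl E0)
  haveI : Module.Finite Bq (LocalizedModule q.primeCompl E1) :=
    Module.Finite.of_isLocalizedModule q.primeCompl (LocalizedModule.mkLinearMap q.primeCompl E1)
  haveI : Module.Finite Bq (LocalizedModule q.primeCompl G) :=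
    Module.Finite.of_isLocalizedModule q.primeCompl (LocalizedModule.mkLinearMap q.primeCompl G)
  let JB := J.map (algebraMap B Bq)
  have hmap : (maximalIdeal Ap).map (algebraMap Ap Bq) = p.map (algebraMap A Bq) := by
    rw [← Localization.AtPrime.map_eq_maximalIdeal, Ideal.map_map, ← IsScalarTower.algebraMap_eq]
  let eF := Submodule.quotEquivOfEq _ _ (congrArg (fun I : Ideal Bq => I • (⊤ : Submodule Bq (LocalizedModule q.primeCompl F))) hmap)
  let e0 := Submodule.quotEquivOfEq _ _ (congrArg (fun I : Ideal Bq => I • (⊤ : Submodule Bq (LocalizedModule q.primeCompl E0))) hmap)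
  let e1 := Submodule.quotEquivOfEq _ _ (congrArg (fun I : Ideal Bq => I • (⊤ : Submodule Bq (LocalizedModule q.primeCompl E1))) hmap)
  have hGU' : ∀ P : PrimeSpectrum Bq, ¬ JB ≤ P.asIdeal → FlatCA.FlatAt Ap P.asIdeal (LocalizedModule q.primeCompl G) := by
    intro P hP
    let r := P.asIdeal.under B
    have hr : ¬ J ≤ r := fun h => hP (Ideal.map_le_iff_le_comap.2 h)
    haveI : Module.Flat A (LocalizedModule r.primeCompl G) := hGU ⟨r, inferInstance⟩ hr
    let g : G →ₗ[B] LocalizedModule P.asIdeal.primeCompl (LocalizedModule q.primeCompl G) :=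
      ((LocalizedModule.mkLinearMap P.asIdeal.primeCompl _).restrictScalars B).comp
        (LocalizedModule.mkLinearMap q.primeCompl G)
    haveI : IsLocalization.AtPrime (Localization.AtPrime P.asIdeal) r :=
      IsLocalization.isLocalization_isLocalization_atPrime_isLocalization q.primeCompl (Localization.AtPrime P.asIdeal) P.asIdeal
    haveI : IsLocalizedModule r.primeCompl g := by
      rw [isLocalizedModule_iff_isBaseChange r.primeCompl (Localization.AtPrime P.asIdeal)]
      exact (IsLocalizedModule.isBaseChange q.primeCompl Bq (LocalizedModule.mkLinearMap q.primeCompl G)).comp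
        (IsLocalizedModule.isBaseChange P.asIdeal.primeCompl (Localization.AtPrime P.asIdeal)
          (LocalizedModule.mkLinearMap P.asIdeal.primeCompl _))
    haveI : Module.Flat A (LocalizedModule P.asIdeal.primeCompl (LocalizedModule q.primeCompl G)) :=
      Module.Flat.of_linearEquiv ((IsLocalizedModule.iso r.primeCompl g).symm.restrictScalars A)
    exact (Module.flat_iff_of_isLocalization Ap p.primeCompl _).2 inferInstance
  have h0' : 2 ≤ _root_.LocCoh.idealDepth JB (EGA4.FibMod Ap Bq (LocalizedModule q.primeCompl E0)) := by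
    rw [CAlgH3.idealDepth_congr JB e0]
    exact (le_idealDepth_fibre_iff J q E0 2).2 fun r hr _ _ => h0 r hr
  have h1' : 1 ≤ _root_.LocCoh.idealDepth JB (EGA4.FibMod Ap Bq (LocalizedModule q.primeCompl E1)) := by
    rw [CAlgH3.idealDepth_congr JB e1]
    exact (le_idealDepth_fibre_iff J q E1 1).2 fun r hr _ _ => h1 r hr
  obtain ⟨hiff, -, hflat⟩ := FourTerm.main JB (LocalizedModule.map q.primeCompl f) (LocalizedModule.map q.primeCompl u)
    (LocalizedModule.map q.primeCompl v) (LocalizedModule.map_injective _ f hf) (LocalizedModule.map_exact _ f u hfu)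
    (LocalizedModule.map_exact _ u v huv) (LocalizedModule.map_surjective _ v hv) hGU' h0' h1'
  have hG : Module.Flat Ap (LocalizedModule q.primeCompl G) ↔ FlatCA.FlatAt A q G :=
    Module.flat_iff_of_isLocalization Ap p.primeCompl _
  constructor
  · rw [← hG, ← hiff, CAlgH3.idealDepth_congr JB eF]
    exact (le_idealDepth_fibre_iff J q F 2).symm
  · intro h
    exact (Module.flat_iff_of_isLocalization Ap p.primeCompl _).1 (hflat (hG.2 h))

end Groth.Agent.CAlg15.FibreFour
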