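import Groth.Agent.CAlg15.FourTermH2

/-! Lifting of the closed fibre of a kernel along Artinian quotients over which the kernel is flat. -/

set_option autoImplicit false
set_option linter.style.haveILetI false

universe u

open TensorProduct IsLocalRing Function

namespace Groth.Agent.CAlg15.SocleLift

/-- Over a surjection `A → A'`, elements of a flat `A'`-module killed by a finitely generated ideal `I`
come from the annihilator of `I`. -/
theorem mem_colon_smul_of_flat {A : Type u} [CommRing A] {I K : Ideal A} (hK : K.FG)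
    (A' : Type u) [CommRing A'] [Algebra A A'] (hA' : Surjective (algebraMap A A'))
    (hI : ∀ a, algebraMap A A' a = 0 ↔ a ∈ I)
    (M : Type u) [AddCommGroup M] [Module A' M] [Module A M] [IsScalarTower A A' M] [Module.Flat A' M]
    (x : M) (hx : ∀ a ∈ K, a • x = 0) : x ∈ (Submodule.colon I (K : Set A)) • (⊤ : Submodule A M) := by
  obtain ⟨r, g, hg⟩ := Submodule.fg_iff_exists_fin_generating_family.1 hK
  let φ : A' →ₗ[A'] (Fin r → A') := LinearMap.pi fun i => LinearMap.mulLeft A' (algebraMap A A' (g i))
  have hex := Module.Flat.lTensor_exact M (LinearMap.exact_subtype_ker_map φ)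
  have h0 : φ.lTensor M (x ⊗ₜ 1) = 0 := by
    apply (TensorProduct.piScalarRight A' A' M (Fin r)).injective
    ext i
    simp only [LinearMap.lTensor_tmul, map_zero, Pi.zero_apply]
    show φ 1 i • x = 0
    simp only [φ, LinearMap.pi_apply, LinearMap.mulLeft_apply, mul_one, algebraMap_smul]
    exact hx _ (hg ▸ Submodule.subset_span ⟨i, rfl⟩)
  obtain ⟨w, hw⟩ := (hex _).1 h0
  have hmem : ∀ w : M ⊗[A'] LinearMap.ker φ,
      TensorProduct.rid A' M ((LinearMap.ker φ).subtype.lTensor M w) ∈
        (Submodule.colon I (K : Set A)) • (⊤ : Submodule A M) := by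
    intro w
    induction w with
    | zero => simp
    | add a b ha hb => simpa using add_mem ha hb
    | tmul y s =>
      obtain ⟨s, hs⟩ := s
      obtain ⟨s, rfl⟩ := hA' s
      simp only [LinearMap.lTensor_tmul, Submodule.subtype_apply, TensorProduct.rid_tmul, algebraMap_smul]
      refine Submodule.smul_mem_smul ?_ trivial
      rw [Submodule.mem_colon]
      intro a ha
      rw [SetLike.mem_coe, ← hg] at ha
      induction ha using Submodule.span_induction with
      | mem z hz =>
        obtain ⟨i, rfl⟩ := hz
        rw [← hI, smul_eq_mul, map_mul, mul_comm]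
        exact congrFun (LinearMap.mem_ker.1 hs) i
      | zero => simp
      | add z z' _ _ h h' => rw [smul_add]; exact add_mem h h'
      | smul c z _ h => rw [smul_comm]; exact Submodule.smul_mem _ c h
  have := hmem w
  rw [hw, TensorProduct.rid_tmul, one_smul] at this
  exact this

open FourTermH2

variable {A B : Type u} [CommRing A] [CommRing B] [IsLocalRing A] [Algebra A B]
  {E0 E1 : Type u} [AddCommGroup E0] [Module B E0] [Module A E0] [IsScalarTower A B E0]
  [AddCommGroup E1] [Module B E1] [Module A E1] [IsScalarTower A B E1]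
  [Module.Flat A E0]

/-- If the socle elements of the kernel over `A / I` are socle multiples, then the kernel over `A / I`
surjects onto the kernel over the residue field. -/
theorem mm_surjective_of_socle (u : E0 →ₗ[B] E1) (I : Ideal A) (hI : I ≤ maximalIdeal A)
    (t : A) (ht : t ∉ I) (htI : ∀ r ∈ maximalIdeal A, r * t ∈ I)
    (hsoc : ∀ x : MW A u (A ⧸ I), (∀ a ∈ maximalIdeal A, a • x = 0) →
      x ∈ (Submodule.colon I (maximalIdeal A : Set A)) • (⊤ : Submodule A (MW A u (A ⧸ I)))) :
    Surjective (mm u (Submodule.mapQ I (maximalIdeal A) LinearMap.id hI)) := by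
  intro z
  let k := A ⧸ maximalIdeal A
  let S : Ideal A := Submodule.colon I (maximalIdeal A : Set A)
  have hS : ∀ s ∈ S, ∀ r ∈ maximalIdeal A, r * s ∈ I := fun s hs r hr => by
    rw [mul_comm]; exact Submodule.mem_colon.1 hs r hr
  let T : Submodule A (A ⧸ I) := Submodule.map (Submodule.mkQ I) S
  have hT : Module.IsTorsionBySet A T (maximalIdeal A : Set A) := by
    intro y a
    obtain ⟨_, s, hs, rfl⟩ := y
    obtain ⟨a, ha⟩ := a
    exact Subtype.ext ((Submodule.Quotient.mk_eq_zero I).2 (hS s hs a ha))
  letI : Module k T := hT.module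
  haveI : IsScalarTower A k T := hT.isScalarTower
  letI : Field k := Ideal.Quotient.field _
  let t' : T := ⟨Submodule.Quotient.mk t, t, Submodule.mem_colon.2 fun r hr => by
    rw [smul_eq_mul, mul_comm]; exact htI r hr, rfl⟩
  have ht' : t' ≠ 0 := fun h => ht ((Submodule.Quotient.mk_eq_zero I).1 (congrArg Subtype.val h))
  obtain ⟨l, hl⟩ := LinearMap.exists_leftInverse_of_injective (LinearMap.toSpanSingleton k T t')
    (LinearMap.ker_toSpanSingleton k ht')
  have hlt : l t' = 1 := by simpa using LinearMap.congr_fun hl 1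
  let lA : T →ₗ[A] k := l.restrictScalars A
  have hj : ∀ s : S, ∃ j : k →ₗ[A] T, j (Submodule.Quotient.mk 1) = ⟨Submodule.Quotient.mk s.1, s.1, s.2, rfl⟩ := by
    intro s
    refine ⟨Submodule.liftQ (maximalIdeal A) (LinearMap.toSpanSingleton A T ⟨Submodule.Quotient.mk s.1, s.1, s.2, rfl⟩)
      fun r hr => ?_, ?_⟩
    · exact Subtype.ext ((Submodule.Quotient.mk_eq_zero I).2 (hS _ s.2 r hr))
    · show (LinearMap.toSpanSingleton A T _) 1 = _
      exact one_smul _ _
  let Tι := AlgebraTensorModule.lTensor B E0 T.subtype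
  have hTι : Injective Tι := Module.Flat.lTensor_preserves_injective_linearMap (M := E0) _ T.injective_subtype
  let Tl := AlgebraTensorModule.lTensor B E0 lA
  let p : (A ⧸ I) →ₗ[A] k := Submodule.mapQ I (maximalIdeal A) LinearMap.id hI
  let R := LinearMap.range (mm u p)
  -- socle multiples go to the image
  have hmain : ∀ x ∈ S • (⊤ : Submodule A (MW A u (A ⧸ I))),
      ∃ w : E0 ⊗[A] T, Tι w = x.1 ∧ ∃ r ∈ R, Tl w = r.1 := by
    intro x hx
    refine Submodule.smul_induction_on hx (fun s hs y _ => ?_) ?_
    · obtain ⟨j, hj⟩ := hj ⟨s, hs⟩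
      refine ⟨AlgebraTensorModule.lTensor B E0 j (mm u p y).1, ?_, ?_⟩
      · show _ = s • y.1
        have e : ∀ y : E0 ⊗[A] (A ⧸ I),
            Tι (AlgebraTensorModule.lTensor B E0 j (AlgebraTensorModule.lTensor B E0 p y)) = s • y := by
          intro y
          induction y with
          | zero => simp
          | add a b ha hb => simp only [map_add, smul_add, ha, hb]
          | tmul e a =>
            obtain ⟨a, rfl⟩ := Submodule.Quotient.mk_surjective _ a
            have ha : p (Submodule.Quotient.mk a) = a • (Submodule.Quotient.mk 1 : k) := by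
              show Submodule.Quotient.mk a = _
              rw [← Submodule.Quotient.mk_smul, smul_eq_mul, mul_one]
            simp only [Tι, AlgebraTensorModule.lTensor_tmul, ha, map_smul, hj, ← TensorProduct.tmul_smul]
            congr 1
            show a • (Submodule.Quotient.mk s : A ⧸ I) = s • (Submodule.Quotient.mk a : A ⧸ I)
            rw [← Submodule.Quotient.mk_smul, ← Submodule.Quotient.mk_smul, smul_eq_mul, smul_eq_mul, mul_comm]
        exact e y.1
      · obtain ⟨c, hc⟩ := Submodule.Quotient.mk_surjective _ (lA ⟨Submodule.Quotient.mk s, s, hs, rfl⟩)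
        refine ⟨algebraMap A B c • mm u p y, R.smul_mem _ ⟨y, rfl⟩, ?_⟩
        show Tl _ = algebraMap A B c • (mm u p y).1
        rw [algebraMap_smul]
        generalize (mm u p y).1 = v
        induction v with
        | zero => simp
        | add a b ha hb => simp only [map_add, smul_add, ha, hb]
        | tmul e a =>
          obtain ⟨a, rfl⟩ := Submodule.Quotient.mk_surjective _ a
          have ha : (Submodule.Quotient.mk a : k) = a • (Submodule.Quotient.mk 1 : k) := by
            rw [← Submodule.Quotient.mk_smul, smul_eq_mul, mul_one]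
          simp only [Tl, AlgebraTensorModule.lTensor_tmul, ← TensorProduct.tmul_smul]
          congr 1
          rw [ha, map_smul, map_smul, hj, ← hc, ← Submodule.Quotient.mk_smul, ← Submodule.Quotient.mk_smul,
            ← Submodule.Quotient.mk_smul]
          simp [mul_comm]
    · rintro x y ⟨w, hw, r, hr, hr'⟩ ⟨w', hw', r', hr1, hr2⟩
      exact ⟨w + w', by rw [map_add, hw, hw']; rfl, r + r', add_mem hr hr1, by rw [map_add, hr', hr2]; rfl⟩
  obtain ⟨j, hj⟩ := hj ⟨t, Submodule.mem_colon.2 fun r hr => by rw [smul_eq_mul, mul_comm]; exact htI r hr⟩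
  let i : k →ₗ[A] A ⧸ I := T.subtype ∘ₗ j
  let x := mm u i z
  obtain ⟨w, hw, r, hr, hw'⟩ := hmain x (hsoc x fun a ha => by
    rw [← LinearMap.map_smul_of_tower, show a • z = 0 from ?_, map_zero]
    refine Subtype.ext ?_
    show a • z.1 = 0
    generalize z.1 = v
    induction v with
    | zero => simp
    | add a' b' ha' hb' => rw [smul_add, ha', hb', add_zero]
    | tmul e b =>
      obtain ⟨b, rfl⟩ := Submodule.Quotient.mk_surjective _ b
      rw [← TensorProduct.tmul_smul, ← Submodule.Quotient.mk_smul, smul_eq_mul,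
        (Submodule.Quotient.mk_eq_zero _).2 (Ideal.mul_mem_right b _ ha), TensorProduct.tmul_zero])
  have hw0 : w = AlgebraTensorModule.lTensor B E0 j z.1 := hTι (by
    rw [hw, ← LinearMap.comp_apply, ← AlgebraTensorModule.lTensor_comp]
    rfl)
  obtain ⟨y, hy⟩ := hr
  refine ⟨y, Subtype.ext ?_⟩
  rw [hy, ← hw', hw0, ← LinearMap.comp_apply, ← AlgebraTensorModule.lTensor_comp]
  have hid : lA ∘ₗ j = LinearMap.id := by
    refine Submodule.linearMap_qext _ (LinearMap.ext_ring ?_)
    show l (j (Submodule.Quotient.mk 1)) = Submodule.Quotient.mk 1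
    rw [hj]
    exact hlt
  rw [hid, AlgebraTensorModule.lTensor_id]
  rfl

end Groth.Agent.CAlg15.SocleLift
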