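import Groth.Agent.CAlg15.BidualKer
import Groth.Agent.CAlg15.SocleLift

/-! Socle elements of base changed kernels are socle multiples when the double dual of the base change is flat. -/

set_option autoImplicit false
set_option linter.style.haveILetI false

universe u

open TensorProduct IsLocalRing Function

namespace Groth.Agent.CAlg15.InfCrit

open FourTermH2

theorem le_fibMod_of_flat {R B : Type u} [CommRing R] [CommRing B] [IsLocalRing R] [IsNoetherianRing B] [IsLocalRing B]
    [Algebra R B] [IsLocalHom (algebraMap R B)] (J : Ideal B) (k : ℕ)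
    (h : (k : ℕ∞) ≤ _root_.LocCoh.idealDepth J (EGA4.FibMod R B B))
    (E : Type u) [AddCommGroup E] [Module B E] [Module.Finite B E] [Module.Flat B E] :
    (k : ℕ∞) ≤ _root_.LocCoh.idealDepth J (EGA4.FibMod R B E) := by
  let K := EGA4.mB R B
  rw [CAlgH3.idealDepth_congr J (Submodule.quotEquivOfEq _ K (by rw [smul_eq_mul, Ideal.mul_top]))] at h
  obtain ⟨fs, hl, hm, hw⟩ := FlatOff.exists_list_of_le_idealDepth J k h
  have hw' := (TensorProduct.quotTensorEquivQuotSMul E K).isWeaklyRegular_congr fs |>.1 (hw.isWeaklyRegular_rTensor (M₂ := E))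
  rw [← hl]
  exact FlatOff.le_idealDepth_of_list J hm hw'

variable {R C : Type u} [CommRing R] [CommRing C] [IsNoetherianRing R] [IsLocalRing R] [IsNoetherianRing C]
  [Algebra R C] [Module.Flat R C] (n : Ideal C) [n.IsPrime]

/-- the comparison map of a base change with the localised tensor product -/
noncomputable def theta (I : Ideal R) (E : Type u) [AddCommGroup E] [Module C E] [Module R E] [IsScalarTower R C E] :
    (C ⧸ I.map (algebraMap R C)) ⊗[C] E ≃ₗ[C] E ⊗[R] (R ⧸ I) :=
  TensorProduct.quotTensorEquivQuotSMul E (I.map (algebraMap R C)) ≪≫ₗ FlatOff.quotEquiv (B := C) E I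

omit [IsNoetherianRing R] [IsLocalRing R] [IsNoetherianRing C] [Module.Flat R C] in
theorem theta_tmul (I : Ideal R) (E : Type u) [AddCommGroup E] [Module C E] [Module R E] [IsScalarTower R C E]
    (c : C) (x : E) :
    theta I E (Ideal.Quotient.mk (I.map (algebraMap R C)) c ⊗ₜ[C] x) = (c • x) ⊗ₜ[R] (Submodule.Quotient.mk 1) := by
  rw [theta, LinearEquiv.trans_apply, TensorProduct.quotTensorEquivQuotSMul_mk_tmul]
  rfl

set_option maxHeartbeats 3200000 in
/-- The main comparison. -/
theorem socle_of_flat [IsLocalHom (algebraMap R (Localization.AtPrime n))]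
    (J : Ideal C) (F E0 E1 G : Type u)
    [AddCommGroup F] [Module C F] [Module.Finite C F]
    [AddCommGroup E0] [Module C E0] [Module R E0] [IsScalarTower R C E0] [Module.Finite C E0] [Module.Free C E0]
    [AddCommGroup E1] [Module C E1] [Module R E1] [IsScalarTower R C E1] [Module.Finite C E1] [Module.Free C E1]
    [AddCommGroup G] [Module C G]
    (f : F →ₗ[C] E0) (u : E0 →ₗ[C] E1) (v : E1 →ₗ[C] G)
    (hf : Injective f) (hfu : Exact f u) (huv : Exact u v) (hv : Surjective v)
    (hFU : ∀ q : PrimeSpectrum C, ¬ J ≤ q.asIdeal → Module.Free (Localization.AtPrime q.asIdeal) (LocalizedModule q.asIdeal.primeCompl F))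
    (hGU : ∀ q : PrimeSpectrum C, ¬ J ≤ q.asIdeal → Module.Free (Localization.AtPrime q.asIdeal) (LocalizedModule q.asIdeal.primeCompl G))
    (h0 : 2 ≤ _root_.LocCoh.idealDepth (J.map (algebraMap C (Localization.AtPrime n)))
      (EGA4.FibMod R (Localization.AtPrime n) (Localization.AtPrime n)))
    (I : Ideal R) (k : ℕ) (hk : maximalIdeal R ^ k ≤ I) (hIn : I.map (algebraMap R C) ≤ n)
    [Algebra (R ⧸ I) (C ⧸ I.map (algebraMap R C))] [IsScalarTower R (R ⧸ I) (C ⧸ I.map (algebraMap R C))]
    (hflat : ∀ q' : PrimeSpectrum (C ⧸ I.map (algebraMap R C)),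
      q'.asIdeal.comap (algebraMap C (C ⧸ I.map (algebraMap R C))) = n →
      FlatCA.FlatAt (R ⧸ I) q'.asIdeal
        (Module.Dual (C ⧸ I.map (algebraMap R C)) (Module.Dual (C ⧸ I.map (algebraMap R C))
          ((C ⧸ I.map (algebraMap R C)) ⊗[C] F))))
    (x : MW R (LocalizedModule.map n.primeCompl u) (R ⧸ I)) (hx : ∀ a ∈ maximalIdeal R, a • x = 0) :
    x ∈ (Submodule.colon I (maximalIdeal R : Set R)) •
      (⊤ : Submodule R (MW R (LocalizedModule.map n.primeCompl u) (R ⧸ I))) := by
  let K : Ideal C := I.map (algebraMap R C)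
  let C' := C ⧸ K
  let W := R ⧸ I
  let S := n.primeCompl
  let B := Localization.AtPrime n
  let JB := J.map (algebraMap C B)
  let D1 := Module.Dual C' (Module.Dual C' (C' ⊗[C] F))
  -- the map to the kernel
  let f' := f.baseChange C'
  let u' := u.baseChange C'
  let ev := Module.Dual.eval C' (C' ⊗[C] F)
  let ρ : D1 →ₗ[C'] C' ⊗[C] E0 := (Module.evalEquiv C' (C' ⊗[C] E0)).symm.toLinearMap ∘ₗ f'.dualMap.dualMap
  have huf : ∀ z, u' (f' z) = 0 := fun z => by
    induction z with
    | zero => simp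
    | add a b ha hb => rw [map_add, map_add, ha, hb, add_zero]
    | tmul a b => simp [u', f', hfu.apply_apply_eq_zero]
  have hρev : ∀ z, ρ (ev z) = f' z := fun z => (Module.evalEquiv C' (C' ⊗[C] E0)).symm_apply_apply (f' z)
  have huρ : ∀ d, u' (ρ d) = 0 := fun d => (Module.evalEquiv C' (C' ⊗[C] E1)).injective (by
    rw [map_zero]
    refine LinearMap.ext fun φ => ?_
    show φ (u' (ρ d)) = 0
    rw [← LinearMap.comp_apply]
    simp only [ρ, LinearMap.comp_apply, LinearEquiv.coe_coe]
    rw [show φ (u' ((Module.evalEquiv C' (C' ⊗[C] E0)).symm (f'.dualMap.dualMap d))) =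
      (φ ∘ₗ u') ((Module.evalEquiv C' (C' ⊗[C] E0)).symm (f'.dualMap.dualMap d)) from rfl,
      Module.apply_evalEquiv_symm_apply]
    show d ((φ ∘ₗ u') ∘ₗ f') = 0
    rw [show (φ ∘ₗ u') ∘ₗ f' = 0 from LinearMap.ext fun z => by simp [huf], map_zero])
  -- invertibility off `J`
  have hinv : ∀ r : PrimeSpectrum C, ¬ J ≤ r.asIdeal → ∃ c ∉ r.asIdeal,
      (∀ z : C' ⊗[C] F, ev z = 0 → c • z = 0) ∧ ∀ d : D1, ∃ z, ev z = c • d := by
    intro r hr
    by_cases hKr : K ≤ r.asIdeal
    · let r' : PrimeSpectrum C' := ⟨r.asIdeal.map (Ideal.Quotient.mk K),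
        Ideal.map_isPrime_of_surjective Ideal.Quotient.mk_surjective (by rwa [Ideal.mk_ker])⟩
      have hr' : r'.asIdeal.comap (Ideal.Quotient.mk K) = r.asIdeal := by
        rw [Ideal.comap_map_of_surjective _ Ideal.Quotient.mk_surjective, ← RingHom.ker_eq_comap_bot, Ideal.mk_ker]
        exact sup_eq_left.2 hKr
      obtain ⟨c, hc, s, h1, h2⟩ := invOff_eval (J := J.map (algebraMap C C')) (M := C' ⊗[C] F) (fun q hq => by
        haveI := hFU ⟨q.asIdeal.comap (algebraMap C C'), inferInstance⟩ fun h => hq (Ideal.map_le_iff_le_comap.2 h)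
        exact free_localized_baseChange (B := C) (M := F) C' q.asIdeal) r' (fun h => hr (by
          rw [← hr']; exact Ideal.map_le_iff_le_comap.1 h))
      obtain ⟨c, rfl⟩ := Ideal.Quotient.mk_surjective c
      refine ⟨c, fun hcr => hc (Ideal.mem_map_of_mem _ hcr), fun z hz => ?_, fun d => ⟨s d, ?_⟩⟩
      · have := LinearMap.congr_fun h2 z
        rw [LinearMap.comp_apply, hz, map_zero] at this
        rw [← algebraMap_smul C' c z]
        exact this.symm
      · rw [← algebraMap_smul C' c d]
        exact LinearMap.congr_fun h1 d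
    · obtain ⟨c, hcK, hcr⟩ := SetLike.not_le_iff_exists.1 hKr
      have h0 : ∀ {M : Type u} [AddCommGroup M] [Module C' M] [Module C M] [IsScalarTower C C' M] (m : M), c • m = 0 := by
        intro M _ _ _ _ m
        rw [← algebraMap_smul C' c m, show algebraMap C C' c = 0 from Ideal.Quotient.eq_zero_iff_mem.2 hcK, zero_smul]
      exact ⟨c, hcr, fun z _ => h0 z, fun d => ⟨0, by rw [map_zero]; exact (h0 d).symm⟩⟩
  have hGflat : ∀ r : PrimeSpectrum C, ¬ J ≤ r.asIdeal → FlatCA.FlatAt C r.asIdeal G := fun r hr => by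
    haveI := hGU r hr
    exact Module.Flat.trans C (Localization.AtPrime r.asIdeal) _
  have hkerρ : ∀ r : PrimeSpectrum C, ¬ J ≤ r.asIdeal → ∀ d, ρ d = 0 → ∃ c ∉ r.asIdeal, c • d = 0 := by
    intro r hr d hd
    obtain ⟨c, hc, -, h2⟩ := hinv r hr
    obtain ⟨z, hz⟩ := h2 d
    obtain ⟨c', hc', hz'⟩ := (BidualKer.exists_smul_baseChange f u v hf hfu huv hv r.asIdeal (hGflat r hr) C').1 z (by
      show f' z = 0
      rw [← hρev, hz, LinearMap.map_smul_of_tower, hd, smul_zero])
    refine ⟨c' * c, fun h => (r.isPrime.mem_or_mem h).elim hc' hc, ?_⟩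
    rw [mul_smul, ← hz, ← LinearMap.map_smul_of_tower, hz', map_zero]
  have hcokρ : ∀ r : PrimeSpectrum C, ¬ J ≤ r.asIdeal → ∀ y, u' y = 0 → ∃ c ∉ r.asIdeal, ∃ d, ρ d = c • y := by
    intro r hr y hy
    obtain ⟨c, hc, z, hz⟩ := (BidualKer.exists_smul_baseChange f u v hf hfu huv hv r.asIdeal (hGflat r hr) C').2 y hy
    exact ⟨c, hc, ev z, (hρev z).trans hz⟩
  -- localisation
  let Λ : ∀ (E : Type u) [AddCommGroup E] [Module C E] [Module R E] [IsScalarTower R C E],
      C' ⊗[C] E →ₗ[C] LocalizedModule S E ⊗[R] W := fun E _ _ _ _ =>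
    AlgebraTensorModule.rTensor R W (LocalizedModule.mkLinearMap S E) ∘ₗ (theta I E).toLinearMap
  haveI hΛ0 : IsLocalizedModule S (Λ E0) := IsLocalizedModule.of_linearEquiv_right S _ _
  haveI hΛ1 : IsLocalizedModule S (Λ E1) := IsLocalizedModule.of_linearEquiv_right S _ _
  let uB := LocalizedModule.map S u
  have hnat : ∀ z, uT R uB W (Λ E0 z) = Λ E1 (u' z) := fun z => by
    induction z with
    | zero => simp
    | add a b ha hb => simp only [map_add, ha, hb]
    | tmul a b =>
      obtain ⟨a, rfl⟩ := Ideal.Quotient.mk_surjective a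
      simp only [Λ, LinearMap.comp_apply, LinearEquiv.coe_coe, u', LinearMap.baseChange_tmul]
      rw [theta_tmul, theta_tmul]
      simp only [AlgebraTensorModule.rTensor_tmul]
      congr 1
      simp [uB, LocalizedModule.mkLinearMap_apply, LocalizedModule.map_mk]
  let DB := LocalizedModule S D1
  let φC := IsLocalizedModule.map S (LocalizedModule.mkLinearMap S D1) (Λ E0) (ρ.restrictScalars C)
  have hφC : ∀ d, φC (LocalizedModule.mkLinearMap S D1 d) = Λ E0 (ρ d) := fun d =>
    IsLocalizedModule.map_apply S _ _ _ d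
  let φ0 := φC.extendScalarsOfIsLocalization S B
  let φ : DB →ₗ[B] MW R uB W := φ0.codRestrict _ fun z => by
    obtain ⟨⟨d, s⟩, hd⟩ := IsLocalizedModule.surj S (LocalizedModule.mkLinearMap S D1) z
    rw [LinearMap.mem_ker]
    apply IsLocalizedModule.smul_injective (Λ E1) s
    show (s : C) • uT R uB W (φC z) = (s : C) • (0 : LocalizedModule S E1 ⊗[R] W)
    rw [smul_zero, ← LinearMap.map_smul_of_tower, ← map_smul, ← Submonoid.smul_def, hd, hφC, hnat, huρ, map_zero]
  -- depth
  haveI : Module.Finite C D1 := Module.Finite.trans C' D1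
  haveI : Module.Finite B DB := Module.Finite.of_isLocalizedModule S (LocalizedModule.mkLinearMap S D1)
  haveI : Module.Finite B (LocalizedModule S E0) := Module.Finite.of_isLocalizedModule S (LocalizedModule.mkLinearMap S E0)
  haveI : Module.Finite B (LocalizedModule S E1) := Module.Finite.of_isLocalizedModule S (LocalizedModule.mkLinearMap S E1)
  haveI : Module.Flat R (LocalizedModule S E0) := by
    haveI : Module.Flat R E0 := Module.Flat.trans R C E0
    exact flat_localizedModule S
  haveI : Module.Flat R (LocalizedModule S E1) := by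
    haveI : Module.Flat R E1 := Module.Flat.trans R C E1
    exact flat_localizedModule S
  have hW : ∀ a ∈ maximalIdeal R ^ k, ∀ w : W, a • w = 0 := fun a ha w => by
    obtain ⟨w, rfl⟩ := Submodule.Quotient.mk_surjective _ w
    rw [← Submodule.Quotient.mk_smul, Submodule.Quotient.mk_eq_zero]
    exact Ideal.mul_mem_right _ _ (hk ha)
  have hdepth : ∀ (E : Type u) [AddCommGroup E] [Module C E] [Module R E] [IsScalarTower R C E] [Module.Finite C E]
      [Module.Free C E], 2 ≤ _root_.LocCoh.idealDepth JB (LocalizedModule S E ⊗[R] W) := by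
    intro E _ _ _ _ _ _
    haveI : Module.Finite B (LocalizedModule S E) := Module.Finite.of_isLocalizedModule S (LocalizedModule.mkLinearMap S E)
    haveI : Module.Flat R E := Module.Flat.trans R C E
    haveI : Module.Flat R (LocalizedModule S E) := flat_localizedModule S
    exact weaklyRegular_tensor JB 1 (le_fibMod_of_flat JB 2 h0 _) W hW
  have hD : 2 ≤ _root_.LocCoh.idealDepth JB DB := by
    obtain ⟨a, b, g, h, hg, hgh⟩ := BidualKer.exists_dual_exact (B := C') (Module.Dual C' (C' ⊗[C] F))
    let eq' := fun j : ℕ => (TensorProduct.piScalarRight C C' C' (Fin j)).symm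
    let g' : D1 →ₗ[C] C' ⊗[C] (Fin a → C) := (eq' a).toLinearMap.restrictScalars C ∘ₗ g.restrictScalars C
    let h' : C' ⊗[C] (Fin a → C) →ₗ[C] C' ⊗[C] (Fin b → C) :=
      ((eq' b).toLinearMap ∘ₗ h ∘ₗ (eq' a).symm.toLinearMap).restrictScalars C
    have hgh' : Exact g' h' := fun z => by
      show (eq' b) (h ((eq' a).symm z)) = 0 ↔ _
      rw [LinearEquiv.map_eq_zero_iff, hgh]
      exact ⟨fun ⟨d, hd⟩ => ⟨d, (eq' a).symm.injective (((eq' a).symm_apply_apply _).trans hd)⟩,
        fun ⟨d, hd⟩ => ⟨d, by rw [← hd]; exact ((eq' a).symm_apply_apply _).symm⟩⟩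
    haveI : IsLocalizedModule S (Λ (Fin a → C)) := IsLocalizedModule.of_linearEquiv_right S _ _
    haveI : IsLocalizedModule S (Λ (Fin b → C)) := IsLocalizedModule.of_linearEquiv_right S _ _
    haveI : Module.Finite B (LocalizedModule S (Fin a → C)) := Module.Finite.of_isLocalizedModule S (LocalizedModule.mkLinearMap S _)
    haveI : Module.Finite B (LocalizedModule S (Fin b → C)) := Module.Finite.of_isLocalizedModule S (LocalizedModule.mkLinearMap S _)
    haveI : Module.Finite B (LocalizedModule S (Fin a → C) ⊗[R] W) := finite_tensor (A := R) W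
    haveI : Module.Finite B (LocalizedModule S (Fin b → C) ⊗[R] W) := finite_tensor (A := R) W
    exact (idealDepth_of_exact JB
      ((IsLocalizedModule.map S (LocalizedModule.mkLinearMap S D1) (Λ (Fin a → C)) g').extendScalarsOfIsLocalization S B)
      ((IsLocalizedModule.map S (Λ (Fin a → C)) (Λ (Fin b → C)) h').extendScalarsOfIsLocalization S B)
      (IsLocalizedModule.map_injective S _ _ g' ((eq' a).injective.comp hg))
      (IsLocalizedModule.map_exact S _ _ _ g' h' hgh')).2 (hdepth _) (le_trans (by norm_num) (hdepth _))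
  haveI : Module.Finite B (LocalizedModule S E0 ⊗[R] W) := finite_tensor (A := R) W
  haveI : Module.Finite B (LocalizedModule S E1 ⊗[R] W) := finite_tensor (A := R) W
  have hMW : 1 ≤ _root_.LocCoh.idealDepth JB (MW R uB W) :=
    (idealDepth_of_exact JB (MW R uB W).subtype (uT R uB W) Subtype.val_injective
      (LinearMap.exact_subtype_ker_map _)).1 (le_trans (by norm_num) (hdepth E0))
  -- bijectivity
  have hunit : ∀ (P : PrimeSpectrum B) (s : S), algebraMap C B s ∉ P.asIdeal := fun P s h =>
    P.isPrime.ne_top (Ideal.eq_top_of_isUnit_mem _ h (IsLocalization.map_units B s))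
  have hbij : Bijective φ := by
    refine BidualKer.bijective_of_off (J := JB) φ hD hMW (fun z hz P hP => ?_) fun y P hP => ?_
    · obtain ⟨⟨d, s⟩, hd⟩ := IsLocalizedModule.surj S (LocalizedModule.mkLinearMap S D1) z
      have hΛ : Λ E0 (ρ d) = 0 := by
        rw [← hφC, ← hd, Submonoid.smul_def, map_smul, show φC z = 0 from congrArg Subtype.val hz, smul_zero]
      obtain ⟨t, ht⟩ := (IsLocalizedModule.eq_zero_iff S (Λ E0)).1 hΛ
      obtain ⟨c, hc, hcd⟩ := hkerρ ⟨P.asIdeal.comap (algebraMap C B), inferInstance⟩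
        (fun h => hP (Ideal.map_le_iff_le_comap.2 h)) ((t : C) • d) (by
          rw [LinearMap.map_smul_of_tower]; exact ht)
      refine ⟨algebraMap C B (c * t * s), fun h => ?_, ?_⟩
      · rw [map_mul, map_mul] at h
        exact (P.isPrime.mem_or_mem h).elim (fun h => (P.isPrime.mem_or_mem h).elim hc (hunit P t)) (hunit P s)
      · rw [algebraMap_smul, mul_smul, mul_smul, show (s : C) • z = LocalizedModule.mkLinearMap S D1 d from hd, ← map_smul, ← map_smul, hcd, map_zero]
    · obtain ⟨⟨z, s⟩, hz⟩ := IsLocalizedModule.surj S (Λ E0) y.1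
      have hΛ : Λ E1 (u' z) = 0 := by
        rw [← hnat, ← hz, Submonoid.smul_def, LinearMap.map_smul_of_tower, LinearMap.mem_ker.1 y.2, smul_zero]
      obtain ⟨t, ht⟩ := (IsLocalizedModule.eq_zero_iff S (Λ E1)).1 hΛ
      obtain ⟨c, hc, d, hd⟩ := hcokρ ⟨P.asIdeal.comap (algebraMap C B), inferInstance⟩
        (fun h => hP (Ideal.map_le_iff_le_comap.2 h)) ((t : C) • z) (by
          rw [LinearMap.map_smul_of_tower]; exact ht)
      refine ⟨algebraMap C B (c * t * s), fun h => ?_, LocalizedModule.mkLinearMap S D1 d, Subtype.ext ?_⟩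
      · rw [map_mul, map_mul] at h
        exact (P.isPrime.mem_or_mem h).elim (fun h => (P.isPrime.mem_or_mem h).elim hc (hunit P t)) (hunit P s)
      · show φC _ = algebraMap C B (c * t * s) • y.1
        rw [hφC, hd, algebraMap_smul, mul_smul, mul_smul, show (s : C) • y.1 = Λ E0 z from hz, map_smul, map_smul]
  -- flatness
  haveI : (n.map (Ideal.Quotient.mk K)).IsPrime :=
    Ideal.map_isPrime_of_surjective Ideal.Quotient.mk_surjective (by rwa [Ideal.mk_ker])
  let q' : Ideal C' := n.map (Ideal.Quotient.mk K)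
  have hq' : q'.comap (algebraMap C C') = n := by
    show (n.map (Ideal.Quotient.mk K)).comap (Ideal.Quotient.mk K) = n
    rw [Ideal.comap_map_of_surjective _ Ideal.Quotient.mk_surjective, ← RingHom.ker_eq_comap_bot, Ideal.mk_ker]
    exact sup_eq_left.2 hIn
  let M := LocalizedModule q'.primeCompl D1
  let g : D1 →ₗ[C] M := (LocalizedModule.mkLinearMap q'.primeCompl D1).restrictScalars C
  have hmem : ∀ c : C, algebraMap C C' c ∈ q'.primeCompl ↔ c ∈ S := fun c => by
    show algebraMap C C' c ∉ q' ↔ c ∉ n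
    rw [← Ideal.mem_comap, hq']
  haveI : IsLocalizedModule S g :=
    { map_units := fun s => by
        have hu := IsLocalizedModule.map_units (LocalizedModule.mkLinearMap q'.primeCompl D1) ⟨algebraMap C C' s, (hmem s).2 s.2⟩
        rw [Module.End.isUnit_iff] at hu ⊢
        convert hu using 1
        funext m
        exact (algebraMap_smul C' (s : C) m).symm
      surj := fun m => by
        obtain ⟨⟨d, s'⟩, hd⟩ := IsLocalizedModule.surj q'.primeCompl (LocalizedModule.mkLinearMap q'.primeCompl D1) m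
        obtain ⟨s', hs'⟩ := s'
        obtain ⟨s, rfl⟩ := Ideal.Quotient.mk_surjective s'
        refine ⟨(d, ⟨s, (hmem s).1 hs'⟩), ?_⟩
        exact (algebraMap_smul C' s m).symm.trans hd
      exists_of_eq := fun {d₁ d₂} h => by
        obtain ⟨⟨s', hs'⟩, hd⟩ := IsLocalizedModule.exists_of_eq (S := q'.primeCompl) h
        obtain ⟨s, rfl⟩ := Ideal.Quotient.mk_surjective s'
        refine ⟨⟨s, (hmem s).1 hs'⟩, ?_⟩
        show s • d₁ = s • d₂
        rw [← algebraMap_smul C' s d₁, ← algebraMap_smul C' s d₂]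
        exact hd }
  haveI : Module.Flat (R ⧸ I) M := hflat ⟨q', inferInstance⟩ hq'
  let e : M ≃ₗ[R] MW R uB W :=
    ((IsLocalizedModule.linearEquiv S (LocalizedModule.mkLinearMap S D1) g).restrictScalars R).symm ≪≫ₗ
      (LinearEquiv.ofBijective φ hbij).restrictScalars R
  have hmemM := SocleLift.mem_colon_smul_of_flat (IsNoetherian.noetherian (maximalIdeal R)) (R ⧸ I)
    Ideal.Quotient.mk_surjective (fun a => Ideal.Quotient.eq_zero_iff_mem) M (e.symm x)
    (fun a ha => by rw [← map_smul, hx a ha, map_zero])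
  have := Submodule.mem_map_of_mem (f := e.toLinearMap) hmemM
  rw [Submodule.map_smul'', Submodule.map_top, LinearEquiv.range, LinearEquiv.coe_coe, e.apply_symm_apply] at this
  exact this

attribute [local instance] Algebra.TensorProduct.rightAlgebra in
omit [IsNoetherianRing R] [IsLocalRing R] [IsNoetherianRing C] [Module.Flat R C] in
/-- reducing modulo an ideal of the base is a base change -/
theorem isPushout_quotient (I : Ideal R) [Algebra (R ⧸ I) (C ⧸ I.map (algebraMap R C))]
    [IsScalarTower R (R ⧸ I) (C ⧸ I.map (algebraMap R C))] :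
    Algebra.IsPushout R C (R ⧸ I) (C ⧸ I.map (algebraMap R C)) := by
  refine Algebra.IsPushout.of_equiv (S' := C ⊗[R] (R ⧸ I))
    (Algebra.TensorProduct.quotIdealMapEquivTensorQuot C I).symm (RingHom.ext fun x => ?_)
  obtain ⟨x, rfl⟩ := Ideal.Quotient.mk_surjective x
  show (Algebra.TensorProduct.quotIdealMapEquivTensorQuot C I).symm ((1 : C) ⊗ₜ[R] Ideal.Quotient.mk I x) = _
  rw [show algebraMap (R ⧸ I) (C ⧸ I.map (algebraMap R C)) (Ideal.Quotient.mk I x) =
      algebraMap R (C ⧸ I.map (algebraMap R C)) x from (IsScalarTower.algebraMap_apply R (R ⧸ I) _ x).symm]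
  rw [AlgEquiv.symm_apply_eq, IsScalarTower.algebraMap_apply R C (C ⧸ I.map (algebraMap R C))]
  refine Eq.trans ?_ (Algebra.TensorProduct.quotIdealMapEquivTensorQuot_mk C I _).symm
  rw [Algebra.algebraMap_eq_smul_one, TensorProduct.smul_tmul]
  congr 1
  rw [Algebra.smul_def, mul_one]
  rfl

omit [IsNoetherianRing R] [IsNoetherianRing C] [Module.Flat R C] in
/-- the codimension condition on the fibre through `n` -/
theorem two_le_dim_fibre [IsLocalHom (algebraMap R (Localization.AtPrime n))] (J : Ideal C)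
    (hcodim : ∀ q : PrimeSpectrum C, J ≤ q.asIdeal → (2 : WithBot ℕ∞) ≤ ringKrullDim (EGA4.FibLocRing R C q.asIdeal))
    (P : PrimeSpectrum (EGA4.FibLocRing R C n))
    (hP : (J.map (algebraMap C (Localization.AtPrime n))).map (Ideal.Quotient.mk _) ≤ P.asIdeal) :
    (2 : WithBot ℕ∞) ≤ ringKrullDim (Localization.AtPrime P.asIdeal) := by
  let B := Localization.AtPrime n
  let Q := EGA4.FibLocRing R C n
  let q : PrimeSpectrum C := ⟨P.asIdeal.comap (algebraMap C Q), inferInstance⟩
  have hqn : q.asIdeal ≤ n := fun c hc => by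
    by_contra h
    exact P.isPrime.ne_top (Ideal.eq_top_of_isUnit_mem _ hc
      ((IsLocalization.map_units B (⟨c, h⟩ : n.primeCompl)).map (Ideal.Quotient.mk _)))
  refine (hcodim q (fun c hc => hP (Ideal.mem_map_of_mem _ (Ideal.mem_map_of_mem _ hc)))).trans ?_
  let Qq := EGA4.FibLocRing R C q.asIdeal
  have hu : ∀ c ∉ q.asIdeal, IsUnit (algebraMap C Qq c) := fun c hc =>
    (IsLocalization.map_units (Localization.AtPrime q.asIdeal) (⟨c, hc⟩ : q.asIdeal.primeCompl)).map (Ideal.Quotient.mk _)
  let φ1 : B →+* Qq := IsLocalization.lift (M := n.primeCompl) (g := algebraMap C Qq) fun s => hu s fun h => s.2 (hqn h)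
  have hφ1 : ∀ c, φ1 (algebraMap C B c) = algebraMap C Qq c := IsLocalization.lift_eq _
  have hle : n.comap (algebraMap R C) ≤ q.asIdeal.comap (algebraMap R C) := fun r hr => by
    show algebraMap C Q (algebraMap R C r) ∈ P.asIdeal
    rw [IsScalarTower.algebraMap_apply C B Q, ← IsScalarTower.algebraMap_apply R C B,
      show algebraMap B Q (algebraMap R B r) = 0 from Ideal.Quotient.eq_zero_iff_mem.2 (Ideal.mem_map_of_mem _ hr)]
    exact zero_mem _
  have hK : ∀ x ∈ (n.comap (algebraMap R C)).map (algebraMap R B), φ1 x = 0 := by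
    intro x hx
    refine RingHom.mem_ker.1 ((Ideal.map_le_iff_le_comap.2 fun r hr => ?_) hx)
    show φ1 (algebraMap R B r) = 0
    rw [IsScalarTower.algebraMap_apply R C B, hφ1, IsScalarTower.algebraMap_apply C (Localization.AtPrime q.asIdeal) Qq,
      ← IsScalarTower.algebraMap_apply R C (Localization.AtPrime q.asIdeal)]
    exact Ideal.Quotient.eq_zero_iff_mem.2 (Ideal.mem_map_of_mem _ (hle hr))
  let φ0 : Q →+* Qq := Ideal.Quotient.lift _ φ1 hK
  let φ : Localization.AtPrime P.asIdeal →+* Qq := IsLocalization.lift (M := P.asIdeal.primeCompl) (g := φ0) fun s => by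
    obtain ⟨s, hs⟩ := s
    obtain ⟨b, rfl⟩ := Ideal.Quotient.mk_surjective s
    obtain ⟨⟨c, t⟩, hct⟩ := IsLocalization.surj n.primeCompl b
    have hcq : c ∉ q.asIdeal := fun hc => by
      have hm : Ideal.Quotient.mk ((n.comap (algebraMap R C)).map (algebraMap R B)) (b * algebraMap C B t) ∈ P.asIdeal := by
        rw [hct]; exact hc
      rw [map_mul] at hm
      exact (P.isPrime.mem_or_mem hm).elim hs fun h => P.isPrime.ne_top
        (Ideal.eq_top_of_isUnit_mem _ h ((IsLocalization.map_units B t).map _))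
    have h2 : φ1 b * φ1 (algebraMap C B t) = algebraMap C Qq c := by rw [← map_mul, hct, hφ1]
    exact isUnit_of_mul_isUnit_left (h2 ▸ hu c hcq)
  have hφ : (φ.comp (algebraMap Q (Localization.AtPrime P.asIdeal))).comp (algebraMap C Q) = algebraMap C Qq :=
    RingHom.ext fun c => by
      rw [RingHom.comp_apply, RingHom.comp_apply, IsLocalization.lift_eq, IsScalarTower.algebraMap_apply C B Q]
      exact hφ1 c
  refine Order.krullDim_le_of_strictMono (PrimeSpectrum.comap φ)
    (Monotone.strictMono_of_injective (fun x y h => Ideal.comap_mono h) fun x y h => ?_)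
  have hinj : Injective (PrimeSpectrum.comap (algebraMap C Qq)) := by
    rw [IsScalarTower.algebraMap_eq C (Localization.AtPrime q.asIdeal) Qq, PrimeSpectrum.comap_comp]
    exact (PrimeSpectrum.localization_comap_injective (Localization.AtPrime q.asIdeal) q.asIdeal.primeCompl).comp
      (PrimeSpectrum.comap_injective_of_surjective _ Ideal.Quotient.mk_surjective)
  apply hinj
  rw [← hφ, PrimeSpectrum.comap_comp, PrimeSpectrum.comap_comp]
  simp only [Function.comp_apply, h]

end Groth.Agent.CAlg15.InfCrit
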