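import Groth.Agent.EGA43.FibDepth.GeomRing
import Groth.Agent.CommAlg6.QuotRegular
import Groth.Agent.CommAlg6.GeomFib
import Groth.Agent.CAlg15.InfCrit

/-! `(S_k)` of the closed fibre is stable under local base change. -/

set_option autoImplicit false
set_option linter.style.haveILetI false

universe u

open TensorProduct IsLocalRing Function

namespace Groth.Agent.CAlg15.FibreSkBC

attribute [local instance] Algebra.TensorProduct.rightAlgebra

set_option synthInstance.maxHeartbeats 200000 in
set_option maxHeartbeats 1600000 in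
theorem hasSk_fibre_baseChange (n : ℕ) {R C : Type u} [CommRing R] [CommRing C] [IsLocalRing R] [Algebra R C]
    [Algebra.FiniteType R C] (R' C' : Type u) [CommRing R'] [CommRing C'] [IsLocalRing R'] [Algebra R R']
    [IsLocalHom (algebraMap R R')] [Algebra C C'] [Algebra R' C'] [Algebra R C'] [IsScalarTower R C C']
    [IsScalarTower R R' C'] [Algebra.IsPushout R C R' C'] [IsNoetherianRing C] [IsNoetherianRing C']
    (q : Ideal C) [q.IsPrime] (hq : q.comap (algebraMap R C) = maximalIdeal R)
    (q' : Ideal C') [q'.IsPrime] (hqq : q'.comap (algebraMap C C') = q)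
    (hq' : q'.comap (algebraMap R' C') = maximalIdeal R')
    (h : _root_.LocCoh.HasSk n (EGA4.FibLocRing R C q) (EGA4.FibLocRing R C q)) :
    _root_.LocCoh.HasSk n (EGA4.FibLocRing R' C' q') (EGA4.FibLocRing R' C' q') := by
  let m := maximalIdeal R
  let m' := maximalIdeal R'
  let k := R ⧸ m
  let K := R' ⧸ m'
  let I : Ideal C := m.map (algebraMap R C)
  let I' : Ideal C' := m'.map (algebraMap R' C')
  let S := C ⧸ I
  let T := C' ⧸ I'
  letI : Field k := Ideal.Quotient.field m
  letI : Field K := Ideal.Quotient.field m'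
  letI : Algebra k S := Ideal.Quotient.algebraQuotientOfLEComap Ideal.le_comap_map
  letI : Algebra K T := Ideal.Quotient.algebraQuotientOfLEComap Ideal.le_comap_map
  haveI : IsScalarTower R k S := IsScalarTower.of_algebraMap_eq fun _ => rfl
  haveI : IsScalarTower R' K T := IsScalarTower.of_algebraMap_eq fun _ => rfl
  have hmm : m ≤ m'.comap (algebraMap R R') := fun r hr => map_nonunit (algebraMap R R') r hr
  letI : Algebra k K := Ideal.Quotient.algebraQuotientOfLEComap hmm
  haveI : IsScalarTower R k K := IsScalarTower.of_algebraMap_eq fun _ => rfl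
  have hII : I ≤ I'.comap (algebraMap C C') := by
    rw [Ideal.map_le_iff_le_comap, Ideal.comap_comap, ← IsScalarTower.algebraMap_eq, IsScalarTower.algebraMap_eq R R' C',
      ← Ideal.comap_comap]
    exact hmm.trans (Ideal.comap_mono Ideal.le_comap_map)
  letI : Algebra S T := Ideal.Quotient.algebraQuotientOfLEComap hII
  haveI : IsScalarTower C S T := IsScalarTower.of_algebraMap_eq fun _ => rfl
  letI : Algebra k T := ((algebraMap K T).comp (algebraMap k K)).toAlgebra
  haveI : IsScalarTower k K T := .of_algebraMap_eq fun _ => rfl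
  haveI : IsScalarTower R k T := .of_algebraMap_eq fun r => by
    show algebraMap R T r = algebraMap K T (algebraMap k K (algebraMap R k r))
    rw [← IsScalarTower.algebraMap_apply R k K, IsScalarTower.algebraMap_apply R R' K,
      ← IsScalarTower.algebraMap_apply R' K T, ← IsScalarTower.algebraMap_apply R R' T]
  haveI : IsScalarTower R K T := .of_algebraMap_eq fun r => by
    rw [IsScalarTower.algebraMap_apply R R' K, ← IsScalarTower.algebraMap_apply R' K T, ← IsScalarTower.algebraMap_apply R R' T]
  haveI : IsScalarTower k S T := .of_algebraMap_eq fun x => by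
    obtain ⟨r, rfl⟩ := Ideal.Quotient.mk_surjective x
    show algebraMap k T (algebraMap R k r) = algebraMap S T (algebraMap k S (algebraMap R k r))
    rw [← IsScalarTower.algebraMap_apply R k T, ← IsScalarTower.algebraMap_apply R k S,
      IsScalarTower.algebraMap_apply R C S, ← IsScalarTower.algebraMap_apply C S T, ← IsScalarTower.algebraMap_apply R C T]
  haveI : Algebra.FiniteType k S := Algebra.FiniteType.of_restrictScalars_finiteType R k S
  haveI : Algebra.IsPushout R R' C C' := Algebra.IsPushout.symm inferInstance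
  haveI : IsScalarTower R S T := .of_algebraMap_eq fun r => by
    rw [IsScalarTower.algebraMap_apply R C S, ← IsScalarTower.algebraMap_apply C S T, ← IsScalarTower.algebraMap_apply R C T]
  haveI : Algebra.IsPushout k S K T := by
    haveI h1 : Algebra.IsPushout R C k S := InfCrit.isPushout_quotient (C := C) m
    haveI h2 : Algebra.IsPushout R' C' K T := InfCrit.isPushout_quotient (C := C') m'
    haveI : Algebra.IsPushout R C K T := ((Algebra.IsPushout.comp_iff R R' C C' (T := K) (T' := T)).2
      (Algebra.IsPushout.symm h2) |> Algebra.IsPushout.symm)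
    haveI : Algebra.IsPushout R k C S := Algebra.IsPushout.symm h1
    exact Algebra.IsPushout.symm ((Algebra.IsPushout.comp_iff R k C S (T := K) (T' := T)).1
      (Algebra.IsPushout.symm ‹Algebra.IsPushout R C K T›))
  haveI hIq : I ≤ q := Ideal.map_le_iff_le_comap.2 hq.ge
  have hIq' : I' ≤ q' := Ideal.map_le_iff_le_comap.2 hq'.ge
  haveI : (q.map (Ideal.Quotient.mk I)).IsPrime :=
    Ideal.map_isPrime_of_surjective Ideal.Quotient.mk_surjective (by rwa [Ideal.mk_ker])
  haveI : (q'.map (Ideal.Quotient.mk I')).IsPrime :=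
    Ideal.map_isPrime_of_surjective Ideal.Quotient.mk_surjective (by rwa [Ideal.mk_ker])
  haveI : Algebra.IsPushout k K S T := Algebra.IsPushout.symm inferInstance
  let e := Algebra.IsPushout.equiv k K S T
  haveI : Algebra.FiniteType K (K ⊗[k] S) := Algebra.FiniteType.baseChange (A := S) K
  haveI : IsNoetherianRing (K ⊗[k] S) := Algebra.FiniteType.isNoetherianRing K _
  let Q : Ideal (K ⊗[k] S) := (q'.map (Ideal.Quotient.mk I')).comap e.toRingEquiv.toRingHom
  haveI : Q.IsPrime := Ideal.IsPrime.comap _
  have hQ : Q.comap (algebraMap S (K ⊗[k] S)) = q.map (Ideal.Quotient.mk I) := by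
    ext s
    obtain ⟨c, rfl⟩ := Ideal.Quotient.mk_surjective s
    show e ((1 : K) ⊗ₜ[k] Ideal.Quotient.mk I c) ∈ q'.map (Ideal.Quotient.mk I') ↔ _
    rw [Algebra.IsPushout.equiv_tmul, map_one, one_mul]
    show Ideal.Quotient.mk I' (algebraMap C C' c) ∈ _ ↔ _
    rw [← Ideal.mem_comap, ← Ideal.mem_comap, LocCoh.comap_map_mk hIq']
    conv_rhs => rw [← Ideal.mem_comap, LocCoh.comap_map_mk hIq]
    rw [hqq]
  obtain ⟨e1⟩ := CommAlg6.localization_quotient_ringEquiv I q hIq
  obtain ⟨e2⟩ := CommAlg6.localization_quotient_ringEquiv I' q' hIq'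
  let e1' : Localization.AtPrime (q.map (Ideal.Quotient.mk I)) ≃+* EGA4.FibLocRing R C q :=
    e1.trans (Ideal.quotEquivOfEq (by rw [hq, Ideal.map_map, ← IsScalarTower.algebraMap_eq]))
  let e2' : Localization.AtPrime (q'.map (Ideal.Quotient.mk I')) ≃+* EGA4.FibLocRing R' C' q' :=
    e2.trans (Ideal.quotEquivOfEq (by rw [hq', Ideal.map_map, ← IsScalarTower.algebraMap_eq]))
  have key : ∀ (P : Ideal S) [P.IsPrime], P = q.map (Ideal.Quotient.mk I) →
      _root_.LocCoh.HasSk n (Localization.AtPrime P) (Localization.AtPrime P) := by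
    rintro P _ rfl
    exact CommAlg6.hasSk_of_ringEquiv e1'.symm h
  have h2 := (EGA43.FibDepth.hasSk_baseChange_iff (k := k) (S := S) n K Q).2 (key _ hQ)
  refine CommAlg6.hasSk_of_ringEquiv ((IsLocalization.ringEquivOfRingEquiv (M := Q.primeCompl)
    (T := (q'.map (Ideal.Quotient.mk I')).primeCompl) (Localization.AtPrime Q)
    (Localization.AtPrime (q'.map (Ideal.Quotient.mk I'))) e.toRingEquiv ?_).trans e2') h2
  ext x
  constructor
  · rintro ⟨y, hy, rfl⟩
    exact hy
  · intro hx
    refine ⟨e.symm x, fun hmem => hx ?_, e.apply_symm_apply x⟩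
    have : e (e.symm x) ∈ q'.map (Ideal.Quotient.mk I') := hmem
    rwa [e.apply_symm_apply] at this

end Groth.Agent.CAlg15.FibreSkBC
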