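import Mathlib
import Groth.Prelude.Def_CAlg
import Groth.Agent.CAlg15.FibreDepth

/-! Height and depth of an extended ideal under a flat map whose image contains the closed set. -/

set_option autoImplicit false

universe u

open IsLocalRing TensorProduct

namespace Groth.Agent.CAlg15

variable {A B : Type u} [CommRing A] [CommRing B] [IsNoetherianRing A] [IsNoetherianRing B] [Algebra A B]
  [Module.Flat A B]

theorem ringKrullDim_fibre_eq_zero (p : Ideal A) [p.IsPrime] (q : Ideal B) [q.IsPrime] [q.LiesOver p]
    (hq : q ∈ (p.map (algebraMap A B)).minimalPrimes) :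
    letI := Localization.AtPrime.algebraOfLiesOver p q
    ringKrullDim (Localization.AtPrime q ⧸
      (maximalIdeal (Localization.AtPrime p)).map (algebraMap (Localization.AtPrime p) (Localization.AtPrime q))) = 0 := by
  letI := Localization.AtPrime.algebraOfLiesOver p q
  let Ap := Localization.AtPrime p
  let Bq := Localization.AtPrime q
  haveI : IsLocalHom (algebraMap Ap Bq) :=
    Localization.isLocalHom_localRingHom p q (algebraMap A B) Ideal.LiesOver.over
  set I := (maximalIdeal Ap).map (algebraMap Ap Bq) with hI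
  have hne : I ≠ ⊤ := fun h => (maximalIdeal.isMaximal Bq).ne_top (top_le_iff.1 (h ▸
    ((local_hom_TFAE (algebraMap Ap Bq)).out 0 2 rfl rfl).1 inferInstance))
  haveI : Nontrivial (Bq ⧸ I) := Ideal.Quotient.nontrivial_iff.2 hne
  haveI : Ring.KrullDimLE 0 (Bq ⧸ I) := Ring.krullDimLE_zero_iff.2 fun P hP => by
    haveI := hP
    let P' := P.comap (Ideal.Quotient.mk I)
    have hIP : I ≤ P' := fun x hx => by
      show Ideal.Quotient.mk I x ∈ P
      rw [Ideal.Quotient.eq_zero_iff_mem.2 hx]; exact zero_mem _
    have h1 : p.map (algebraMap A B) ≤ P'.comap (algebraMap B Bq) := by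
      rw [← Ideal.map_le_iff_le_comap, Ideal.map_map, ← IsScalarTower.algebraMap_eq]
      refine le_trans (le_of_eq ?_) hIP
      rw [hI, ← Localization.AtPrime.map_eq_maximalIdeal, Ideal.map_map, ← IsScalarTower.algebraMap_eq]
    have h2 : P'.comap (algebraMap B Bq) ≤ q :=
      (Ideal.comap_mono (le_maximalIdeal (Ideal.IsPrime.ne_top inferInstance))).trans
        (IsLocalization.AtPrime.under_maximalIdeal Bq q).le
    have h3 : P' = maximalIdeal Bq := by
      rw [← IsLocalization.map_comap q.primeCompl Bq P',
        show Ideal.under B P' = q from le_antisymm h2 (hq.2 ⟨inferInstance, h1⟩ h2),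
        Localization.AtPrime.map_eq_maximalIdeal]
    rw [← Ideal.map_comap_of_surjective _ Ideal.Quotient.mk_surjective P]
    haveI : P'.IsMaximal := h3 ▸ maximalIdeal.isMaximal Bq
    refine (Ideal.map_eq_top_or_isMaximal_of_surjective _ Ideal.Quotient.mk_surjective inferInstance).resolve_left ?_
    rw [Ideal.map_comap_of_surjective _ Ideal.Quotient.mk_surjective]
    exact hP.ne_top
  exact le_antisymm (Ring.krullDimLE_iff.1 inferInstance) ringKrullDim_nonneg_of_nontrivial

theorem depth_localized_tensor (p : Ideal A) [p.IsPrime] (q : Ideal B) [q.IsPrime] [q.LiesOver p]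
    (G : Type u) [AddCommGroup G] [Module A G] [Module.Finite A G] :
    letI := Localization.AtPrime.algebraOfLiesOver p q
    LocCoh.depth (Localization.AtPrime q) (LocalizedModule q.primeCompl (B ⊗[A] G)) =
      LocCoh.depth (Localization.AtPrime p) (LocalizedModule p.primeCompl G) +
        LocCoh.depth (Localization.AtPrime q) (Localization.AtPrime q ⧸
          (maximalIdeal (Localization.AtPrime p)).map (algebraMap (Localization.AtPrime p) (Localization.AtPrime q)) •
            (⊤ : Submodule (Localization.AtPrime q) (Localization.AtPrime q))) := by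
  letI := Localization.AtPrime.algebraOfLiesOver p q
  let Ap := Localization.AtPrime p
  let Bq := Localization.AtPrime q
  haveI : IsLocalHom (algebraMap Ap Bq) :=
    Localization.isLocalHom_localRingHom p q (algebraMap A B) Ideal.LiesOver.over
  haveI : Module.Flat Ap Bq := inferInstance
  haveI : Module.Finite Ap (Ap ⊗[A] G) := inferInstance
  let e : LocalizedModule q.primeCompl (B ⊗[A] G) ≃ₗ[Bq] Bq ⊗[Ap] (Ap ⊗[A] G) :=
    ((LocalizedModule.equivTensorProduct q.primeCompl (B ⊗[A] G)).trans
      (AlgebraTensorModule.cancelBaseChange A B Bq Bq G)).trans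
      (AlgebraTensorModule.cancelBaseChange A Ap Bq Bq G).symm
  rw [CAlgH3.depth_congr e, Groth.Agent.S2062.result (R := Ap) (S := Bq) (M := Ap ⊗[A] G) (N := Bq),
    ← CAlgH3.depth_congr (LocalizedModule.equivTensorProduct p.primeCompl G)]

theorem height_and_depth_of_flat (I : Ideal A)
    (hI : ∀ p : PrimeSpectrum A, I ≤ p.asIdeal → ∃ q : PrimeSpectrum B, q.asIdeal.comap (algebraMap A B) = p.asIdeal)
    (G : Type u) [AddCommGroup G] [Module A G] [Module.Finite A G] :
    (I.map (algebraMap A B)).height = I.height ∧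
    LocCoh.idealDepth (I.map (algebraMap A B)) (B ⊗[A] G) = LocCoh.idealDepth I G := by
  have hex : ∀ p : Ideal A, p.IsPrime → I ≤ p → ∃ (q : Ideal B) (_ : q.IsPrime),
      q.LiesOver p ∧ q ∈ (p.map (algebraMap A B)).minimalPrimes := by
    intro p hp hIp
    obtain ⟨q₀, hq₀⟩ := hI ⟨p, hp⟩ hIp
    obtain ⟨q, hq, hle⟩ := Ideal.exists_minimalPrimes_le (Ideal.map_le_iff_le_comap.2 hq₀.ge :
      p.map (algebraMap A B) ≤ q₀.asIdeal)
    exact ⟨q, hq.1.1, ⟨le_antisymm (Ideal.map_le_iff_le_comap.1 hq.1.2)
      ((Ideal.comap_mono hle).trans hq₀.le)⟩, hq⟩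
  have hdim : ∀ (p : Ideal A) [p.IsPrime] (q : Ideal B) [q.IsPrime] [q.LiesOver p],
      p.height ≤ q.height ∧ (q ∈ (p.map (algebraMap A B)).minimalPrimes → q.height = p.height) := by
    intro p _ q _ _
    letI := Localization.AtPrime.algebraOfLiesOver p q
    haveI : IsLocalHom (algebraMap (Localization.AtPrime p) (Localization.AtPrime q)) :=
      Localization.isLocalHom_localRingHom p q (algebraMap A B) Ideal.LiesOver.over
    have h := CommAlg6.ringKrullDim_eq_add_fibre (A := Localization.AtPrime p) (B := Localization.AtPrime q)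
    rw [IsLocalization.AtPrime.ringKrullDim_eq_height q (Localization.AtPrime q),
      IsLocalization.AtPrime.ringKrullDim_eq_height p (Localization.AtPrime p)] at h
    refine ⟨WithBot.coe_le_coe.1 (le_of_le_of_eq (le_add_of_nonneg_right ?_) h.symm), fun hq => ?_⟩
    · haveI : Nontrivial (Localization.AtPrime q ⧸ (maximalIdeal (Localization.AtPrime p)).map
          (algebraMap (Localization.AtPrime p) (Localization.AtPrime q))) :=
        Ideal.Quotient.nontrivial_iff.2 fun h => (maximalIdeal.isMaximal (Localization.AtPrime q)).ne_top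
          (top_le_iff.1 (h ▸ ((local_hom_TFAE (algebraMap (Localization.AtPrime p) (Localization.AtPrime q))).out 0 2 rfl rfl).1
            inferInstance))
      exact ringKrullDim_nonneg_of_nontrivial
    · rw [ringKrullDim_fibre_eq_zero p q hq, add_zero] at h
      exact WithBot.coe_inj.1 h
  refine ⟨le_antisymm ?_ ?_, le_antisymm ?_ ?_⟩
  · rw [I.height_eq_inf_minimalPrimes]
    refine le_iInf₂ fun p hp => ?_
    obtain ⟨q, hqp, hqo, hq⟩ := hex p hp.1.1 hp.1.2
    haveI := hp.1.1
    refine le_trans (Ideal.height_mono (le_trans (Ideal.map_mono hp.1.2) hq.1.2)) ?_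
    rw [(hdim p q).2 hq]
  · rw [(I.map (algebraMap A B)).height_eq_inf_minimalPrimes]
    refine le_iInf₂ fun q hq => ?_
    haveI := hq.1.1
    haveI : q.LiesOver (q.comap (algebraMap A B)) := ⟨rfl⟩
    refine le_trans (Ideal.height_mono (Ideal.map_le_iff_le_comap.1 hq.1.2)) ?_
    exact (hdim (q.comap (algebraMap A B)) q).1
  · refine (le_idealDepth_iff I G _).2 fun p hp => ?_
    obtain ⟨q, hqp, hqo, hq⟩ := hex p.asIdeal p.isPrime hp
    have h := (le_idealDepth_iff (I.map (algebraMap A B)) (B ⊗[A] G) _).1 le_rfl ⟨q, hqp⟩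
      (le_trans (Ideal.map_mono hp) hq.1.2)
    rw [depth_localized_tensor p.asIdeal q G] at h
    refine h.trans (le_of_eq ?_)
    letI := Localization.AtPrime.algebraOfLiesOver p.asIdeal q
    haveI : IsLocalHom (algebraMap (Localization.AtPrime p.asIdeal) (Localization.AtPrime q)) :=
      Localization.isLocalHom_localRingHom p.asIdeal q (algebraMap A B) Ideal.LiesOver.over
    haveI : Nontrivial (Localization.AtPrime q ⧸ (maximalIdeal (Localization.AtPrime p.asIdeal)).map
        (algebraMap (Localization.AtPrime p.asIdeal) (Localization.AtPrime q)) •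
          (⊤ : Submodule (Localization.AtPrime q) (Localization.AtPrime q))) :=
      Submodule.Quotient.nontrivial_iff.2 (LocCoh.smul_top_ne_top_of_nontrivial _ fun h =>
        (maximalIdeal.isMaximal (Localization.AtPrime q)).ne_top
          (top_le_iff.1 (h ▸ ((local_hom_TFAE (algebraMap (Localization.AtPrime p.asIdeal) (Localization.AtPrime q))).out 0 2 rfl rfl).1
            inferInstance)))
    have h0 := CAlgH3.depth_le_supportDim (R := Localization.AtPrime q)
      (M := Localization.AtPrime q ⧸ (maximalIdeal (Localization.AtPrime p.asIdeal)).map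
        (algebraMap (Localization.AtPrime p.asIdeal) (Localization.AtPrime q)) •
          (⊤ : Submodule (Localization.AtPrime q) (Localization.AtPrime q)))
    rw [Module.supportDim_eq_of_equiv (Submodule.quotEquivOfEq _ ((maximalIdeal (Localization.AtPrime p.asIdeal)).map
        (algebraMap (Localization.AtPrime p.asIdeal) (Localization.AtPrime q))) (by rw [smul_eq_mul, Ideal.mul_top])),
      Module.supportDim_quotient_eq_ringKrullDim, ringKrullDim_fibre_eq_zero p.asIdeal q hq, ← WithBot.coe_zero,
      WithBot.coe_le_coe, nonpos_iff_eq_zero] at h0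
    rw [h0, add_zero]
  · refine (le_idealDepth_iff _ _ _).2 fun q hq => ?_
    haveI : q.asIdeal.LiesOver (q.asIdeal.comap (algebraMap A B)) := ⟨rfl⟩
    rw [depth_localized_tensor (q.asIdeal.comap (algebraMap A B)) q.asIdeal G]
    exact ((le_idealDepth_iff I G _).1 le_rfl ⟨q.asIdeal.comap (algebraMap A B), inferInstance⟩
      (Ideal.map_le_iff_le_comap.1 hq)).trans le_self_add

end Groth.Agent.CAlg15
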