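import Groth.Prelude.Def_FlatCA
import Groth.Prelude.Def_EGA4b
import Groth.Agent.FlatCrit.Tor
import Groth.Agent.CInt15.RegularSeq
import Groth.Agent.CAlgH.DepthCriterion
import Groth.Agent.LocCoh.DepthLocal
import Mathlib.LinearAlgebra.DirectSum.Finsupp
import Mathlib.RingTheory.Regular.Flat

/-! Flatness from flatness off a closed subset and depth of the closed fibre along it. -/

set_option autoImplicit false

universe u

open TensorProduct IsLocalRing RingTheory.Sequence Function

namespace Groth.Agent.CAlg15.FlatOff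

section Gen

variable {A B : Type u} [CommRing A] [CommRing B] [IsNoetherianRing B] [Algebra A B] (J : Ideal B)
  (M : Type u) [AddCommGroup M] [Module B M] [Module A M] [IsScalarTower A B M]

theorem exists_smul_eq_zero_of_flatAt (q : Ideal B) [q.IsPrime] (h : FlatCA.FlatAt A q M)
    {N N' : Type u} [AddCommGroup N] [Module A N] [AddCommGroup N'] [Module A N'] (i : N →ₗ[A] N')
    (hi : Injective i) (x : M ⊗[A] N) (hx : AlgebraTensorModule.lTensor B M i x = 0) :
    ∃ s ∉ q, s • x = 0 := by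
  have : Module.Flat A (LocalizedModule q.primeCompl M) := h
  let ι := LocalizedModule.mkLinearMap q.primeCompl M
  let j := AlgebraTensorModule.rTensor A N ι
  have h0 : j x = 0 := by
    apply Module.Flat.lTensor_preserves_injective_linearMap (M := LocalizedModule q.primeCompl M) i hi
    rw [map_zero]
    have hc : ∀ y : M ⊗[A] N, LinearMap.lTensor (LocalizedModule q.primeCompl M) i (j y) =
        AlgebraTensorModule.rTensor A N' ι (AlgebraTensorModule.lTensor B M i y) := by
      intro y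
      induction y with
      | zero => simp
      | add a b ha hb => simp [map_add, ha, hb]
      | tmul a b => simp [j]
    rw [hc, hx, map_zero]
  obtain ⟨s, hs⟩ := (IsLocalizedModule.eq_zero_iff q.primeCompl j).1 h0
  exact ⟨s, s.2, hs⟩

theorem injective_of_regular {N N' : Type u} [AddCommGroup N] [Module A N] [AddCommGroup N'] [Module A N']
    (hU : ∀ q : PrimeSpectrum B, ¬ J ≤ q.asIdeal → FlatCA.FlatAt A q.asIdeal M)
    {a : B} (ha : a ∈ J) (hreg : IsSMulRegular (M ⊗[A] N) a) (i : N →ₗ[A] N') (hi : Injective i) :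
    Injective (AlgebraTensorModule.lTensor B M i) := by
  rw [injective_iff_map_eq_zero]
  intro x hx
  let K : Ideal B := LinearMap.ker (LinearMap.toSpanSingleton B (M ⊗[A] N) x)
  have hrad : a ∈ K.radical := by
    rw [Ideal.radical_eq_sInf, Submodule.mem_sInf]
    rintro P ⟨hKP, hP⟩
    by_contra haP
    obtain ⟨s, hs, hsx⟩ := exists_smul_eq_zero_of_flatAt M P
      (hU ⟨P, hP⟩ fun h => haP (h ha)) i hi x hx
    exact hs (hKP hsx)
  obtain ⟨n, hn⟩ := hrad
  exact (hreg.pow n).right_eq_zero_of_smul hn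

/-- `M ⊗ A/I = M/IM`, linearly over `B` -/
noncomputable def quotEquiv (I : Ideal A) :
    (M ⧸ (I.map (algebraMap A B) • ⊤ : Submodule B M)) ≃ₗ[B] M ⊗[A] (A ⧸ I) :=
  let φ : M →ₗ[B] M ⊗[A] (A ⧸ I) := (AlgebraTensorModule.mk A B M (A ⧸ I)).flip 1
  have hφ : ∀ x, φ x = (tensorQuotEquivQuotSMul M I).symm (Submodule.Quotient.mk x) := fun x =>
    (tensorQuotEquivQuotSMul_symm_mk I x).symm
  have hk : LinearMap.ker φ = (I.map (algebraMap A B) • ⊤ : Submodule B M) := by
    ext x
    rw [LinearMap.mem_ker, hφ, LinearEquiv.map_eq_zero_iff, Submodule.Quotient.mk_eq_zero,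
      ← Submodule.restrictScalars_mem A (I.map (algebraMap A B) • ⊤), Submodule.restrictScalars_map_smul_eq, Submodule.restrictScalars_top]
  have hs : Surjective φ := fun y => by
    obtain ⟨z, rfl⟩ := (tensorQuotEquivQuotSMul M I).symm.surjective y
    obtain ⟨x, rfl⟩ := Submodule.Quotient.mk_surjective _ z
    exact ⟨x, hφ x⟩
  (Submodule.quotEquivOfEq _ _ hk.symm).trans (φ.quotKerEquivOfSurjective hs)

end Gen

section Local

variable {A B : Type u} [CommRing A] [CommRing B] [IsNoetherianRing B] [IsLocalRing A] [Algebra A B]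
  (J : Ideal B) (M : Type u) [AddCommGroup M] [Module B M] [Module A M] [IsScalarTower A B M]
  (hU : ∀ q : PrimeSpectrum B, ¬ J ≤ q.asIdeal → FlatCA.FlatAt A q.asIdeal M)
  {a : B} (ha : a ∈ J) {fs : List B} (hfs : IsWeaklyRegular (EGA4.FibMod A B M) (a :: fs))

include hfs in
theorem weaklyRegular_of_killed {N : Type u} [AddCommGroup N] [Module A N]
    (hN : ∀ r ∈ maximalIdeal A, ∀ x : N, r • x = 0) : IsWeaklyRegular (M ⊗[A] N) (a :: fs) := by
  classical
  have tN : Module.IsTorsionBySet A N (maximalIdeal A) := fun x r => hN r r.2 x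
  letI := tN.module
  haveI : IsScalarTower A (A ⧸ maximalIdeal A) N := tN.isScalarTower
  letI := Ideal.Quotient.field (maximalIdeal A)
  let b := Module.Free.chooseBasis (A ⧸ maximalIdeal A) N
  let ι := Module.Free.ChooseBasisIndex (A ⧸ maximalIdeal A) N
  let e : N ≃ₗ[A] ι →₀ (A ⧸ maximalIdeal A) := b.repr.restrictScalars A
  let e2 : M ⊗[A] N ≃ₗ[B] ι →₀ M ⊗[A] (A ⧸ maximalIdeal A) :=
    (AlgebraTensorModule.congr (LinearEquiv.refl B M) e).trans
      (TensorProduct.finsuppRight A B M (A ⧸ maximalIdeal A) ι)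
  let e3 : M ⊗[A] N ≃ₗ[B] EGA4.FibMod A B M ⊗[B] (ι →₀ B) :=
    e2.trans (((TensorProduct.finsuppScalarRight B B (EGA4.FibMod A B M) ι).trans
      (Finsupp.mapRange.linearEquiv (quotEquiv M (maximalIdeal A)))).symm)
  exact (e3.isWeaklyRegular_congr _).2 (hfs.isWeaklyRegular_rTensor (M₂ := ι →₀ B))

include hU ha hfs in
theorem regular_and_injective (n : ℕ) : ∀ {N : Type u} [AddCommGroup N] [Module A N],
    (∀ r ∈ maximalIdeal A ^ n, ∀ x : N, r • x = 0) → IsWeaklyRegular (M ⊗[A] N) (a :: fs) := by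
  induction n with
  | zero =>
    intro N _ _ hN
    exact weaklyRegular_of_killed M hfs fun r _ x => hN r (by simp) x
  | succ n ih =>
    intro N _ _ hN
    let N' : Submodule A N := maximalIdeal A • ⊤
    have h' : IsWeaklyRegular (M ⊗[A] N') (a :: fs) := ih fun r hr x => Subtype.ext <| by
      show r • (x : N) = 0
      refine Submodule.smul_induction_on x.2 (fun s hs y _ => ?_) (fun y z hy hz => ?_)
      · rw [smul_smul]
        exact hN _ (by rw [pow_succ]; exact Ideal.mul_mem_mul hr hs) y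
      · rw [smul_add, hy, hz, add_zero]
    have h'' : IsWeaklyRegular (M ⊗[A] (N ⧸ N')) (a :: fs) :=
      weaklyRegular_of_killed M hfs fun r hr x => by
        obtain ⟨x, rfl⟩ := Submodule.Quotient.mk_surjective _ x
        rw [← Submodule.Quotient.mk_smul, Submodule.Quotient.mk_eq_zero]
        exact Submodule.smul_mem_smul hr trivial
    exact CInt15.isWeaklyRegular_of_exact (a :: fs) (AlgebraTensorModule.lTensor B M N'.subtype)
      (AlgebraTensorModule.lTensor B M N'.mkQ)
      (injective_of_regular J M hU ha ((isWeaklyRegular_cons_iff _ a fs).1 h').1 _ Subtype.val_injective)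
      (lTensor_exact M (LinearMap.exact_subtype_mkQ N') N'.mkQ_surjective)
      (LinearMap.lTensor_surjective M N'.mkQ_surjective) h' h''

include hU ha hfs in
theorem quotFlat (n : ℕ) : FlatCrit.QuotFlat A M (maximalIdeal A ^ n) := by
  intro N N' _ _ _ _ i hB hi
  rw [← LinearMap.lTensor_inj_iff_rTensor_inj]
  exact injective_of_regular J M hU ha ((isWeaklyRegular_cons_iff _ a fs).1
    (regular_and_injective J M hU ha hfs n fun r hr x => hi (by rw [map_smul, map_zero, hB r hr]))).1 i hi

end Local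

section Depth

variable {A B : Type u} [CommRing A] [CommRing B] [IsNoetherianRing A] [IsNoetherianRing B]
  [IsLocalRing A] [IsLocalRing B] [Algebra A B] [IsLocalHom (algebraMap A B)] (J : Ideal B)
  {M : Type u} [AddCommGroup M] [Module B M] [Module A M] [IsScalarTower A B M] [Module.Finite B M]

theorem exists_list_of_le_idealDepth {N : Type u} [AddCommGroup N] [Module B N] [Module.Finite B N] (r : ℕ)
    (h : (r : ℕ∞) ≤ _root_.LocCoh.idealDepth J N) :
    ∃ fs : List B, fs.length = r ∧ (∀ f ∈ fs, f ∈ J) ∧ IsWeaklyRegular N fs :=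
  (CAlgH.DepthCriterion.depth_ge_iff N J r).1
    fun p _ hp => (LocCoh.natCast_le_idealDepth_iff_local J N r).1 h ⟨p, inferInstance⟩ hp

theorem le_idealDepth_of_list {N : Type u} [AddCommGroup N] [Module B N] [Module.Finite B N] {fs : List B}
    (hm : ∀ f ∈ fs, f ∈ J) (hw : IsWeaklyRegular N fs) :
    (fs.length : ℕ∞) ≤ _root_.LocCoh.idealDepth J N :=
  (LocCoh.natCast_le_idealDepth_iff_local J N fs.length).2 fun p hp =>
    (CAlgH.DepthCriterion.depth_ge_iff N J fs.length).2 ⟨fs, rfl, hm, hw⟩ p.asIdeal hp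

theorem flat_of_flatAt_off (hU : ∀ q : PrimeSpectrum B, ¬ J ≤ q.asIdeal → FlatCA.FlatAt A q.asIdeal M)
    (h1 : 1 ≤ _root_.LocCoh.idealDepth J (EGA4.FibMod A B M)) : Module.Flat A M := by
  obtain ⟨l, hl, hm, hw⟩ := exists_list_of_le_idealDepth J 1 (by simpa using h1)
  obtain ⟨a, rfl⟩ := List.length_eq_one_iff.1 hl
  refine FlatCrit.flat_of_quotFlat_pow (S := B) (maximalIdeal A) ?_
    (quotFlat J M hU (hm a (by simp)) hw)
  rw [IsLocalRing.jacobson_eq_maximalIdeal ⊥ bot_ne_top]
  exact ((IsLocalRing.local_hom_TFAE (algebraMap A B)).out 0 2 rfl rfl).1 inferInstance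

omit [IsNoetherianRing A] [IsLocalHom (algebraMap A B)] in
theorem two_le_idealDepth_quot_pow
    (hU : ∀ q : PrimeSpectrum B, ¬ J ≤ q.asIdeal → FlatCA.FlatAt A q.asIdeal M)
    (h2 : 2 ≤ _root_.LocCoh.idealDepth J (EGA4.FibMod A B M)) (n : ℕ) :
    2 ≤ _root_.LocCoh.idealDepth J (M ⧸ ((EGA4.mB A B) ^ (n + 1) • (⊤ : Submodule B M))) := by
  obtain ⟨l, hl, hm, hw⟩ := exists_list_of_le_idealDepth J 2 (by simpa using h2)
  obtain ⟨a, b, rfl⟩ := List.length_eq_two.1 hl
  have hreg := regular_and_injective J M hU (hm a (by simp)) hw (n + 1)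
    (N := A ⧸ maximalIdeal A ^ (n + 1)) fun r hr x => by
      obtain ⟨x, rfl⟩ := Submodule.Quotient.mk_surjective _ x
      rw [← Submodule.Quotient.mk_smul, Submodule.Quotient.mk_eq_zero]
      exact Ideal.mul_mem_right x _ hr
  let e : (M ⧸ ((EGA4.mB A B) ^ (n + 1) • (⊤ : Submodule B M))) ≃ₗ[B] M ⊗[A] (A ⧸ maximalIdeal A ^ (n + 1)) :=
    (Submodule.quotEquivOfEq _ _ (by rw [Ideal.map_pow])).trans (quotEquiv M (maximalIdeal A ^ (n + 1)))
  simpa using le_idealDepth_of_list J hm ((e.isWeaklyRegular_congr _).2 hreg)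

end Depth

end Groth.Agent.CAlg15.FlatOff
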