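import Groth.Agent.CAlg15.FlatOffDepth
import Groth.Agent.CAlg15.ReflexDepth
import Groth.Agent.CAlg15.FibreDepth
import Groth.Agent.FlatCrit.Inj

/-! Flatness of the cokernel in a four term exact sequence from the depth of the closed fibre. -/

set_option autoImplicit false

universe u

open TensorProduct IsLocalRing RingTheory.Sequence Function
open scoped Pointwise

namespace Groth.Agent.CAlg15.FourTerm

section Ker

theorem flat_of_kernel {R : Type u} [CommRing R] {P Q T : Type u} [AddCommGroup P] [AddCommGroup Q]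
    [AddCommGroup T] [Module R P] [Module R Q] [Module R T] [Module.Flat R Q] [Module.Flat R T]
    (f : P →ₗ[R] Q) (g : Q →ₗ[R] T) (hf : Injective f) (hg : Surjective g)
    (hfg : Exact f g) : Module.Flat R P := by
  rw [Module.Flat.iff_rTensor_preserves_injective_linearMap]
  intro A B _ _ _ _ i hi
  rw [injective_iff_map_eq_zero]
  intro x hx
  have h1 : f.lTensor A x = 0 := by
    apply Module.Flat.rTensor_preserves_injective_linearMap (M := Q) i hi
    rw [map_zero, ← LinearMap.comp_apply, LinearMap.rTensor_comp_lTensor, ← LinearMap.lTensor_comp_rTensor,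
      LinearMap.comp_apply, hx, map_zero]
  exact LinearMap.lTensor_injective_of_exact_of_flat g hg f hf hfg A (h1.trans (map_zero _).symm)

end Ker

variable {A B : Type u} [CommRing A] [CommRing B] [IsNoetherianRing A] [IsNoetherianRing B] [Algebra A B]
  {P Q T : Type u} [AddCommGroup P] [Module B P] [Module A P] [IsScalarTower A B P]
  [AddCommGroup Q] [Module B Q] [Module A Q] [IsScalarTower A B Q]
  [AddCommGroup T] [Module B T] [Module A T] [IsScalarTower A B T]

theorem flatAt_kernel [Module.Flat A Q] (q : Ideal B) [q.IsPrime] (f : P →ₗ[B] Q) (g : Q →ₗ[B] T)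
    (hf : Injective f) (hg : Surjective g) (hfg : Exact f g) (hT : FlatCA.FlatAt A q T) :
    FlatCA.FlatAt A q P := by
  have : Module.Flat A (LocalizedModule q.primeCompl T) := hT
  have : Module.Flat A (LocalizedModule q.primeCompl Q) := flat_localizedModule q.primeCompl
  exact flat_of_kernel
    ((IsLocalizedModule.map q.primeCompl (LocalizedModule.mkLinearMap q.primeCompl P)
      (LocalizedModule.mkLinearMap q.primeCompl Q) f).restrictScalars A)
    ((IsLocalizedModule.map q.primeCompl (LocalizedModule.mkLinearMap q.primeCompl Q)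
      (LocalizedModule.mkLinearMap q.primeCompl T) g).restrictScalars A)
    (IsLocalizedModule.map_injective q.primeCompl _ _ f hf)
    (IsLocalizedModule.map_surjective q.primeCompl _ _ g hg)
    (IsLocalizedModule.map_exact q.primeCompl _ _ _ f g hfg)

/-- an element killed in `Q ⊗ N` is killed outside each prime where the cokernel is flat -/
theorem exists_smul_eq_zero_rTensor (q : Ideal B) [q.IsPrime] (f : P →ₗ[B] Q) (g : Q →ₗ[B] T)
    (hf : Injective f) (hg : Surjective g) (hfg : Exact f g) (hT : FlatCA.FlatAt A q T)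
    {N : Type u} [AddCommGroup N] [Module A N] (x : P ⊗[A] N)
    (hx : AlgebraTensorModule.rTensor A N f x = 0) : ∃ s ∉ q, s • x = 0 := by
  have : Module.Flat A (LocalizedModule q.primeCompl T) := hT
  let ιP := LocalizedModule.mkLinearMap q.primeCompl P
  let ιQ := LocalizedModule.mkLinearMap q.primeCompl Q
  let fq := IsLocalizedModule.map q.primeCompl ιP ιQ f
  let gq := IsLocalizedModule.map q.primeCompl ιQ (LocalizedModule.mkLinearMap q.primeCompl T) g
  have hinj : Injective ((fq.restrictScalars A).rTensor N) := by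
    rw [← LinearMap.lTensor_inj_iff_rTensor_inj]
    exact LinearMap.lTensor_injective_of_exact_of_flat (gq.restrictScalars A)
      (IsLocalizedModule.map_surjective q.primeCompl _ _ g hg) (fq.restrictScalars A)
      (IsLocalizedModule.map_injective q.primeCompl _ _ f hf)
      (IsLocalizedModule.map_exact q.primeCompl _ _ _ f g hfg) N
  let j := AlgebraTensorModule.rTensor A N ιP
  have h0 : j x = 0 := by
    apply hinj
    rw [map_zero]
    have hc : ∀ y : P ⊗[A] N, (fq.restrictScalars A).rTensor N (j y) =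
        AlgebraTensorModule.rTensor A N ιQ (AlgebraTensorModule.rTensor A N f y) := by
      intro y
      induction y with
      | zero => simp
      | add a b ha hb => simp [map_add, ha, hb]
      | tmul a b =>
        simp only [j, AlgebraTensorModule.rTensor_tmul, LinearMap.rTensor_tmul, LinearMap.restrictScalars_apply,
          fq, IsLocalizedModule.map_apply]
    rw [hc, hx, map_zero]
  obtain ⟨s, hs⟩ := (IsLocalizedModule.eq_zero_iff q.primeCompl j).1 h0
  exact ⟨s, s.2, hs⟩

variable (J : Ideal B)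

/-- no nonzero element killed by `J` -/
def NoTors (N : Type u) [AddCommGroup N] [Module B N] : Prop :=
  ∀ x : N, (∀ j ∈ J, j • x = 0) → x = 0

omit [IsNoetherianRing B] in
theorem noTors_of_regular {N : Type u} [AddCommGroup N] [Module B N] {a : B} (ha : a ∈ J)
    (h : IsSMulRegular N a) : NoTors J N := fun _ hx => h.right_eq_zero_of_smul (hx a ha)

theorem NoTors.eq_zero {N : Type u} [AddCommGroup N] [Module B N] (h : NoTors J N) (x : N)
    (hx : ∀ p : PrimeSpectrum B, ¬ J ≤ p.asIdeal → ∃ s ∉ p.asIdeal, s • x = 0) : x = 0 := by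
  obtain ⟨n, hn⟩ := exists_pow_le_colon J (⊥ : Submodule B N) x (by simpa using hx)
  suffices H : ∀ n (x : N), (∀ y ∈ J ^ n, y • x = 0) → x = 0 from H n x (by simpa using hn)
  intro n
  induction n with
  | zero => intro x hx; simpa using hx 1 (by simp)
  | succ n ih =>
    intro x hx
    refine ih x fun y hy => h _ fun z hz => ?_
    rw [smul_smul]
    exact hx _ (by rw [pow_succ']; exact Ideal.mul_mem_mul hz hy)

variable [IsLocalRing A]

local notation "k" => A ⧸ maximalIdeal A

theorem rTensor_injective (f : P →ₗ[B] Q) (g : Q →ₗ[B] T) (hf : Injective f) (hg : Surjective g)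
    (hfg : Exact f g) (hT : ∀ q : PrimeSpectrum B, ¬ J ≤ q.asIdeal → FlatCA.FlatAt A q.asIdeal T)
    (hP : NoTors J (P ⊗[A] k)) : Injective (AlgebraTensorModule.rTensor A k f) := by
  rw [injective_iff_map_eq_zero]
  exact fun x hx => hP.eq_zero J x fun q hq => exists_smul_eq_zero_rTensor q.asIdeal f g hf hg hfg (hT q hq) x hx

variable [IsLocalRing B] [IsLocalHom (algebraMap A B)]

theorem flat_coker [Module.Flat A Q] [Module.Finite B P] (f : P →ₗ[B] Q) (g : Q →ₗ[B] T) (hf : Injective f)
    (hg : Surjective g) (hfg : Exact f g)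
    (hT : ∀ q : PrimeSpectrum B, ¬ J ≤ q.asIdeal → FlatCA.FlatAt A q.asIdeal T)
    (hP : NoTors J (P ⊗[A] k)) : Module.Flat A T := by
  have hinj : Injective ((f.restrictScalars A).lTensor (ResidueField A)) := by
    rw [LinearMap.lTensor_inj_iff_rTensor_inj]
    exact rTensor_injective J f g hf hg hfg hT hP
  have := FlatCrit.flat_coker_of_injective_mod_max (S := B) (f.restrictScalars A) hinj (by
    rw [IsLocalRing.jacobson_eq_maximalIdeal ⊥ bot_ne_top]
    exact ((IsLocalRing.local_hom_TFAE (algebraMap A B)).out 0 2 rfl rfl).1 inferInstance)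
  refine @Module.Flat.of_linearEquiv A (Q ⧸ LinearMap.range (f.restrictScalars A)) T _ _ _ _ _ this
    (((Submodule.quotEquivOfEq _ _ ?_).trans ((g.restrictScalars A).quotKerEquivOfSurjective hg)).symm)
  ext x
  simp only [LinearMap.mem_range, LinearMap.mem_ker, LinearMap.restrictScalars_apply]
  exact (hfg x).symm

/-- the image in the middle has no torsion -/
theorem noTors_image (f : P →ₗ[B] Q) (g : Q →ₗ[B] T) (hf : Injective f) (hg : Surjective g)
    (hfg : Exact f g) (hT : ∀ q : PrimeSpectrum B, ¬ J ≤ q.asIdeal → FlatCA.FlatAt A q.asIdeal T)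
    {a b c : B} (ha : a ∈ J) (hb : b ∈ J) (hc : c ∈ J) (hw : IsWeaklyRegular (P ⊗[A] k) [a, b])
    (hcQ : IsSMulRegular (Q ⊗[A] k) c) : NoTors J (T ⊗[A] k) := by
  obtain ⟨hareg, hb'⟩ := (isWeaklyRegular_cons_iff _ a [b]).1 hw
  have hbreg := ((isWeaklyRegular_cons_iff _ b []).1 hb').1
  let φ := AlgebraTensorModule.rTensor A k f
  have hφ : Injective φ := rTensor_injective J f g hf hg hfg hT (noTors_of_regular J ha hareg)
  let ψ := AlgebraTensorModule.rTensor A k g
  have hex : Exact φ ψ := rTensor_exact (f := f.restrictScalars A) (g := g.restrictScalars A) k hfg hg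
  intro x hx
  obtain ⟨e, rfl⟩ := LinearMap.rTensor_surjective k (g := g.restrictScalars A) hg x
  have hmem : ∀ j ∈ J, ∃ y, φ y = j • e := fun j hj => (hex _).1 (by rw [map_smul]; exact hx j hj)
  obtain ⟨ya, hya⟩ := hmem a ha
  obtain ⟨yb, hyb⟩ := hmem b hb
  have hmem' : ya ∈ (a • ⊤ : Submodule B (P ⊗[A] k)) := by
    rw [← Submodule.Quotient.mk_eq_zero]
    refine hbreg.right_eq_zero_of_smul ?_
    rw [← Submodule.Quotient.mk_smul, Submodule.Quotient.mk_eq_zero,
      show b • ya = a • yb from hφ (by rw [map_smul, map_smul, hya, hyb, smul_comm])]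
    exact Submodule.smul_mem_pointwise_smul _ _ _ Submodule.mem_top
  obtain ⟨y, -, rfl⟩ := (Submodule.mem_smul_pointwise_iff_exists _ _ _).1 hmem'
  obtain ⟨yc, hyc⟩ := hmem c hc
  have h1 : φ (yc - c • y) = c • (e - φ y) := by rw [map_sub, map_smul, hyc, smul_sub]
  have h2 : a • (e - φ y) = 0 := by rw [smul_sub, ← hya, map_smul, sub_self]
  have h3 : yc - c • y = 0 := hareg.right_eq_zero_of_smul
    (hφ (by rw [map_smul, h1, smul_comm, h2, smul_zero, map_zero]))
  have h4 : e = φ y := sub_eq_zero.1 (hcQ.right_eq_zero_of_smul (by rw [← h1, h3, map_zero]))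
  exact (hex _).2 ⟨y, h4.symm⟩

end Groth.Agent.CAlg15.FourTerm

namespace Groth.Agent.CAlg15.FourTerm

variable {A B : Type u} [CommRing A] [CommRing B] [IsNoetherianRing A] [IsNoetherianRing B] [IsLocalRing A]
  [IsLocalRing B] [Algebra A B] [IsLocalHom (algebraMap A B)] (J : Ideal B)
  {F E0 E1 G : Type u} [AddCommGroup F] [Module B F] [Module A F] [IsScalarTower A B F] [Module.Finite B F]
  [AddCommGroup E0] [Module B E0] [Module A E0] [IsScalarTower A B E0] [Module.Finite B E0] [Module.Flat A E0]
  [AddCommGroup E1] [Module B E1] [Module A E1] [IsScalarTower A B E1] [Module.Finite B E1] [Module.Flat A E1]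
  [AddCommGroup G] [Module B G] [Module A G] [IsScalarTower A B G]
  (f : F →ₗ[B] E0) (u : E0 →ₗ[B] E1) (v : E1 →ₗ[B] G)
  (hf : Injective f) (hfu : Exact f u) (huv : Exact u v) (hv : Surjective v)
  (hGU : ∀ q : PrimeSpectrum B, ¬ J ≤ q.asIdeal → FlatCA.FlatAt A q.asIdeal G)
  (h0 : 2 ≤ _root_.LocCoh.idealDepth J (EGA4.FibMod A B E0))
  (h1 : 1 ≤ _root_.LocCoh.idealDepth J (EGA4.FibMod A B E1))

include hf hfu huv hv hGU h0 h1

theorem main :
    (2 ≤ _root_.LocCoh.idealDepth J (EGA4.FibMod A B F) ↔ Module.Flat A G) ∧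
    (Module.Flat A G ↔ ∀ n : ℕ, 2 ≤ _root_.LocCoh.idealDepth J (F ⧸ ((EGA4.mB A B) ^ (n + 1) • (⊤ : Submodule B F)))) ∧
    (Module.Flat A G → Module.Flat A F) := by
  let H := LinearMap.range u
  let u' : E0 →ₗ[B] H := u.rangeRestrict
  have hu' : Surjective u' := u.surjective_rangeRestrict
  have hfu' : Exact f u' := fun x => by
    rw [← hfu x]
    exact ⟨fun h => congrArg Subtype.val h, fun h => Subtype.ext h⟩
  have hHv : Exact H.subtype v := fun x => by
    rw [huv x]
    exact ⟨fun ⟨y, hy⟩ => ⟨⟨x, y, hy⟩, rfl⟩, fun ⟨⟨z, y, hy⟩, hz⟩ => ⟨y, hy.trans hz⟩⟩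
  have hH : ∀ q : PrimeSpectrum B, ¬ J ≤ q.asIdeal → FlatCA.FlatAt A q.asIdeal H := fun q hq =>
    flatAt_kernel q.asIdeal H.subtype v Subtype.val_injective hv hHv (hGU q hq)
  have hFU : ∀ q : PrimeSpectrum B, ¬ J ≤ q.asIdeal → FlatCA.FlatAt A q.asIdeal F := fun q hq =>
    flatAt_kernel q.asIdeal f u' hf hu' hfu' (hH q hq)
  let k := A ⧸ maximalIdeal A
  let eF := FlatOff.quotEquiv (B := B) F (maximalIdeal A)
  let eE0 := FlatOff.quotEquiv (B := B) E0 (maximalIdeal A)
  let eE1 := FlatOff.quotEquiv (B := B) E1 (maximalIdeal A)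
  have hmp : 2 ≤ _root_.LocCoh.idealDepth J (EGA4.FibMod A B F) → Module.Flat A G := by
    intro h
    obtain ⟨l, hl, hm, hw⟩ := FlatOff.exists_list_of_le_idealDepth J 2 (by simpa using h)
    obtain ⟨a, b, rfl⟩ := List.length_eq_two.1 hl
    obtain ⟨l', hl', hm', hw'⟩ := FlatOff.exists_list_of_le_idealDepth J 1
      (le_trans (by norm_num) h0 : ((1 : ℕ) : ℕ∞) ≤ _root_.LocCoh.idealDepth J (EGA4.FibMod A B E0))
    obtain ⟨c, rfl⟩ := List.length_eq_one_iff.1 hl'
    exact flat_coker J H.subtype v Subtype.val_injective hv hHv hGU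
      (noTors_image J f u' hf hu' hfu' hH (hm a (by simp)) (hm b (by simp)) (hm' c (by simp))
        ((eF.isWeaklyRegular_congr _).1 hw)
        ((isWeaklyRegular_cons_iff _ c []).1 ((eE0.isWeaklyRegular_congr _).1 hw')).1)
  have hflatH : Module.Flat A G → Module.Flat A H := fun _ =>
    flat_of_kernel (H.subtype.restrictScalars A) (v.restrictScalars A) Subtype.val_injective hv hHv
  have hflatF : Module.Flat A G → Module.Flat A F := fun h =>
    have := hflatH h
    flat_of_kernel (f.restrictScalars A) (u'.restrictScalars A) hf hu' hfu'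
  have hmpr : Module.Flat A G → 2 ≤ _root_.LocCoh.idealDepth J (EGA4.FibMod A B F) := by
    intro h
    have := hflatH h
    have i1 : Injective (AlgebraTensorModule.rTensor A k f) := by
      refine ((LinearMap.lTensor_inj_iff_rTensor_inj k (f.restrictScalars A)).1 ?_)
      exact LinearMap.lTensor_injective_of_exact_of_flat (u'.restrictScalars A) hu' (f.restrictScalars A) hf hfu' k
    have i2 : Injective (AlgebraTensorModule.rTensor A k H.subtype) := by
      refine ((LinearMap.lTensor_inj_iff_rTensor_inj k (H.subtype.restrictScalars A)).1 ?_)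
      exact LinearMap.lTensor_injective_of_exact_of_flat (v.restrictScalars A) hv (H.subtype.restrictScalars A)
        Subtype.val_injective hHv k
    have hex : Exact (AlgebraTensorModule.rTensor A k f) (AlgebraTensorModule.rTensor A k u) := by
      intro x
      have e : AlgebraTensorModule.rTensor A k u x =
          AlgebraTensorModule.rTensor A k H.subtype (AlgebraTensorModule.rTensor A k u' x) := by
        rw [← LinearMap.comp_apply, ← AlgebraTensorModule.rTensor_comp]
        rfl
      rw [e, map_eq_zero_iff _ i2]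
      exact rTensor_exact (f := f.restrictScalars A) (g := u'.restrictScalars A) k hfu' hu' x
    haveI : Module.Finite B (F ⊗[A] k) := Module.Finite.equiv eF
    haveI : Module.Finite B (E0 ⊗[A] k) := Module.Finite.equiv eE0
    haveI : Module.Finite B (E1 ⊗[A] k) := Module.Finite.equiv eE1
    rw [CAlgH3.idealDepth_congr J eF]
    rw [CAlgH3.idealDepth_congr J eE0] at h0
    rw [CAlgH3.idealDepth_congr J eE1] at h1
    exact (idealDepth_of_exact J _ _ i1 hex).2 h0 h1
  refine ⟨⟨hmp, hmpr⟩, ⟨fun h n => ?_, fun h => hmp ?_⟩, hflatF⟩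
  · exact FlatOff.two_le_idealDepth_quot_pow J hFU (hmpr h) n
  · have h' := h 0
    rwa [CAlgH3.idealDepth_congr J (Submodule.quotEquivOfEq _ (EGA4.mB A B • (⊤ : Submodule B F))
      (by rw [zero_add, pow_one]))] at h'

end Groth.Agent.CAlg15.FourTerm
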