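import Groth.Agent.CAlg15.FibreFourTerm
import Groth.Agent.CAlg15.DualBC

/-! Fibre depth of projective modules after base change; kernels of maps of projectives. -/

set_option autoImplicit false

universe u

open TensorProduct IsLocalRing Function

attribute [local instance] Algebra.TensorProduct.rightAlgebra

namespace Groth.Agent.CAlg15

variable {A B : Type u} [CommRing A] [CommRing B] [IsNoetherianRing A] [IsNoetherianRing B] [Algebra A B]

theorem le_fibLocMod_of_projective (q : Ideal B) [q.IsPrime] (k : ℕ)
    (h : (k : ℕ∞) ≤ _root_.LocCoh.idealDepth (q.map (algebraMap B (EGA4.FibLocRing A B q))) (EGA4.FibLocRing A B q))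
    (E : Type u) [AddCommGroup E] [Module B E] [Module.Finite B E] [Module.Projective B E] :
    (k : ℕ∞) ≤ _root_.LocCoh.idealDepth (q.map (algebraMap B (EGA4.FibLocRing A B q))) (EGA4.FibLocMod A B q E) := by
  let Bq := Localization.AtPrime q
  let K := (q.comap (algebraMap A B)).map (algebraMap A Bq)
  let Eq' := LocalizedModule q.primeCompl E
  haveI : Module.Finite Bq Eq' := Module.Finite.of_isLocalizedModule q.primeCompl (LocalizedModule.mkLinearMap q.primeCompl E)
  haveI : Module.Flat Bq Eq' := inferInstance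
  rw [idealDepth_fibLocRing, _root_.LocCoh.depth] at h ⊢
  obtain ⟨fs, hl, hm, hw⟩ := FlatOff.exists_list_of_le_idealDepth (maximalIdeal Bq) k h
  have hw' := (TensorProduct.quotTensorEquivQuotSMul Eq' K).isWeaklyRegular_congr fs |>.1 (hw.isWeaklyRegular_rTensor (M₂ := Eq'))
  haveI : Module.Finite Bq (EGA4.FibLocMod A B q E) := inferInstance
  rw [← hl]
  exact FlatOff.le_idealDepth_of_list (maximalIdeal Bq) hm hw'

variable (A' B' : Type u) [CommRing A'] [CommRing B'] [IsNoetherianRing B']
    [Algebra A A'] [Algebra B B'] [Algebra A' B'] [Algebra A B'] [IsScalarTower A B B'] [IsScalarTower A A' B']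
    [Algebra.IsPushout A B A' B'] [Module.Flat A B]

include A' in
set_option maxHeartbeats 1600000 in
theorem two_le_fibLocRing_baseChange [IsNoetherianRing A'] (q' : Ideal B') [q'.IsPrime]
    (h : 2 ≤ _root_.LocCoh.idealDepth ((q'.comap (algebraMap B B')).map (algebraMap B (EGA4.FibLocRing A B (q'.comap (algebraMap B B')))))
      (EGA4.FibLocRing A B (q'.comap (algebraMap B B')))) :
    2 ≤ _root_.LocCoh.idealDepth (q'.map (algebraMap B' (EGA4.FibLocRing A' B' q'))) (EGA4.FibLocRing A' B' q') := by
  let p' := q'.comap (algebraMap A' B')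
  let K : Ideal B' := p'.map (algebraMap A' B')
  letI : Algebra (A' ⧸ p') (B' ⧸ K) := Ideal.Quotient.algebraQuotientOfLEComap Ideal.le_comap_map
  haveI : IsScalarTower A' (A' ⧸ p') (B' ⧸ K) := IsScalarTower.of_algebraMap_eq fun _ => rfl
  haveI : IsScalarTower A (A' ⧸ p') (B' ⧸ K) := IsScalarTower.of_algebraMap_eq fun r => by
    rw [IsScalarTower.algebraMap_apply A A' (A' ⧸ p'), ← IsScalarTower.algebraMap_apply A' (A' ⧸ p') (B' ⧸ K),
      ← IsScalarTower.algebraMap_apply A A' (B' ⧸ K)]
  haveI : Algebra.IsPushout A B (A' ⧸ p') (B' ⧸ K) := by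
    haveI : Algebra.IsPushout A A' B B' := Algebra.IsPushout.symm inferInstance
    haveI : Algebra.IsPushout A' (A' ⧸ p') B' (B' ⧸ K) := by
      refine Algebra.IsPushout.symm ?_
      refine Algebra.IsPushout.of_equiv (S' := B' ⊗[A'] (A' ⧸ p'))
        (Algebra.TensorProduct.quotIdealMapEquivTensorQuot B' p').symm (RingHom.ext fun x => ?_)
      obtain ⟨x, rfl⟩ := Ideal.Quotient.mk_surjective x
      show (Algebra.TensorProduct.quotIdealMapEquivTensorQuot B' p').symm ((1 : B') ⊗ₜ[A'] Ideal.Quotient.mk p' x) =
        Ideal.Quotient.mk K (algebraMap A' B' x)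
      rw [AlgEquiv.symm_apply_eq, Algebra.TensorProduct.quotIdealMapEquivTensorQuot_mk,
        Algebra.algebraMap_eq_smul_one, TensorProduct.smul_tmul]
      congr 1
      rw [Algebra.smul_def, mul_one]
      rfl
    exact ((Algebra.IsPushout.comp_iff A A' B B').2 ‹Algebra.IsPushout A' (A' ⧸ p') B' (B' ⧸ K)›).symm
  have hproj : 2 ≤ _root_.LocCoh.idealDepth
      ((q'.comap (algebraMap B B')).map (algebraMap B (EGA4.FibLocRing A B (q'.comap (algebraMap B B')))))
      (EGA4.FibLocMod A B (q'.comap (algebraMap B B')) B) :=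
    le_fibLocMod_of_projective _ 2 h B
  have key : ∀ (r : Ideal B) [r.IsPrime], r = q'.comap (algebraMap B B') →
      2 ≤ _root_.LocCoh.idealDepth (r.map (algebraMap B (EGA4.FibLocRing A B r))) (EGA4.FibLocMod A B r B) := by
    rintro r _ rfl
    exact hproj
  have hd : 2 ≤ _root_.LocCoh.depth (Localization.AtPrime q') (LocalizedModule q'.primeCompl (B' ⧸ K)) := by
    rw [(InvLib.supportDim_depth_eq (A := B') (B := B' ⧸ K) (B' ⧸ K) q').2]
    refine le_iInf₂ fun Q hQ => ?_
    have hQq : Q.asIdeal.comap (algebraMap B (B' ⧸ K)) = q'.comap (algebraMap B B') := by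
      rw [← hQ.1, Ideal.comap_comap, ← IsScalarTower.algebraMap_eq]
    have := two_le_depth_baseChange_at (A := A) (E := B) (B := B) (A' ⧸ p') (B' ⧸ K) Q.asIdeal (key _ hQq)
    refine le_of_le_of_eq this (CAlgH3.depth_congr ?_)
    exact IsLocalizedModule.mapEquiv Q.asIdeal.primeCompl (LocalizedModule.mkLinearMap _ _) (LocalizedModule.mkLinearMap _ _)
      (Localization.AtPrime Q.asIdeal) (AlgebraTensorModule.rid B (B' ⧸ K) (B' ⧸ K))
  rw [idealDepth_fibLocRing]
  let L := Localization.AtPrime q'
  let e := (Submodule.quotEquivOfEq (K.localized' L q'.primeCompl (Algebra.linearMap B' L))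
    ((q'.comap (algebraMap A' B')).map (algebraMap A' L)) (by
      rw [Ideal.localized'_eq_map, Ideal.map_map, ← IsScalarTower.algebraMap_eq])).restrictScalars B'
  let g : (B' ⧸ K) →ₗ[B'] EGA4.FibLocRing A' B' q' :=
    e.toLinearMap ∘ₗ Submodule.toLocalizedQuotient' L q'.primeCompl (Algebra.linearMap B' L) K
  haveI : IsLocalizedModule q'.primeCompl g := IsLocalizedModule.of_linearEquiv q'.primeCompl _ e
  exact le_of_le_of_eq hd (CAlgH3.depth_congr ((IsLocalizedModule.iso q'.primeCompl g).extendScalarsOfIsLocalization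
      q'.primeCompl L))

/-- The kernel in an exact sequence of projectives ending in a surjection is projective. -/
theorem projective_of_exact {R : Type u} [CommRing R] {K E0 E1 G : Type u} [AddCommGroup K] [Module R K]
    [AddCommGroup E0] [Module R E0] [AddCommGroup E1] [Module R E1] [AddCommGroup G] [Module R G]
    [Module.Projective R E0] [Module.Projective R E1] [Module.Projective R G]
    (f : K →ₗ[R] E0) (u : E0 →ₗ[R] E1) (v : E1 →ₗ[R] G)
    (hf : Injective f) (hfu : Exact f u) (huv : Exact u v) (hv : Surjective v) : Module.Projective R K := by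
  obtain ⟨s, hs⟩ := Module.projective_lifting_property v LinearMap.id hv
  have hs' : ∀ g, v (s g) = g := fun g => LinearMap.congr_fun hs g
  let π : E1 →ₗ[R] LinearMap.range u := (LinearMap.id - s ∘ₗ v).codRestrict _ fun x => (huv _).1 (by simp [hs'])
  haveI : Module.Projective R (LinearMap.range u) := Module.Projective.of_split (LinearMap.range u).subtype π
    (LinearMap.ext fun x => Subtype.ext (by
      show x.1 - s (v x.1) = x.1
      rw [(huv _).2 x.2, map_zero, sub_zero]))
  obtain ⟨t, ht⟩ := Module.projective_lifting_property u.rangeRestrict LinearMap.id u.surjective_rangeRestrict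
  have ht' : ∀ y, u (t y) = y := fun y => congrArg Subtype.val (LinearMap.congr_fun ht y)
  let e : K ≃ₗ[R] LinearMap.range f := LinearEquiv.ofInjective f hf
  let ρ : E0 →ₗ[R] LinearMap.range f := (LinearMap.id - t ∘ₗ u.rangeRestrict).codRestrict _ fun x => (hfu _).1 (by simp [ht'])
  haveI : Module.Projective R (LinearMap.range f) := Module.Projective.of_split (LinearMap.range f).subtype ρ
    (LinearMap.ext fun x => Subtype.ext (by
      have : u.rangeRestrict x.1 = 0 := Subtype.ext ((hfu _).2 x.2)
      show x.1 - t (u.rangeRestrict x.1) = x.1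
      rw [this, map_zero, sub_zero]))
  exact Module.Projective.of_equiv e.symm

end Groth.Agent.CAlg15
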