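import Groth.Agent.CAlgH.FlatLocusH.Main
import Groth.Agent.CAlg15.DvrFlatAt

/-! The flat locus ideal of a henselian base read at a prime of a finite type algebra. -/

set_option autoImplicit false
set_option linter.style.haveILetI false

universe u

open TensorProduct IsLocalRing Function

namespace Groth.Agent.CAlg15.LocFlatTransfer

set_option maxHeartbeats 3200000 in
set_option synthInstance.maxHeartbeats 200000 in
/-- An ideal cutting out flatness of `C' ⊗ G` over the points above `n` and the closed point. -/
theorem exists_flatIdeal (R C : Type u) [CommRing R] [CommRing C] [HenselianLocalRing R] [Algebra R C]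
    [Algebra.FiniteType R C] (n : Ideal C) [n.IsPrime] (hn : n.comap (algebraMap R C) = maximalIdeal R)
    (G : Type u) [AddCommGroup G] [Module C G] [Module R G] [IsScalarTower R C G] [Module.Finite C G] :
    ∃ 𝔞 : Ideal R, ∀ (R' : Type u) [CommRing R'] [IsLocalRing R'] [Algebra R R'],
      IsLocalHom (algebraMap R R') →
      ∀ (C' : Type u) [CommRing C'] [Algebra C C'] [Algebra R' C'] [Algebra R C']
        [IsScalarTower R C C'] [IsScalarTower R R' C'], Algebra.IsPushout R C R' C' →
        ((∀ q' : PrimeSpectrum C', q'.asIdeal.comap (algebraMap C C') = n →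
            (maximalIdeal R').map (algebraMap R' C') ≤ q'.asIdeal →
            FlatCA.FlatAt R' q'.asIdeal (C' ⊗[C] G)) ↔ 𝔞.map (algebraMap R R') = ⊥) := by
  let S := n.primeCompl
  let B := Localization.AtPrime n
  haveI : IsLocalHom (algebraMap R B) := ((IsLocalRing.local_hom_TFAE (algebraMap R B)).out 0 2 rfl rfl).2 (by
    rw [IsScalarTower.algebraMap_eq R C B, ← Ideal.map_map, ← Localization.AtPrime.map_eq_maximalIdeal]
    exact Ideal.map_mono (Ideal.map_le_iff_le_comap.2 hn.ge))
  haveI : Algebra.EssFiniteType C B := Algebra.EssFiniteType.of_isLocalization B S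
  haveI : Algebra.EssFiniteType R B := Algebra.EssFiniteType.comp R C B
  let GB := LocalizedModule S G
  haveI : Module.Finite B GB := Module.Finite.of_isLocalizedModule S (LocalizedModule.mkLinearMap S G)
  refine ⟨CAlgH.FlatLocusH.flatIdeal R GB, fun R' _ _ _ hloc C' _ _ _ _ _ _ hpush => ?_⟩
  haveI := hloc
  haveI := hpush
  let T := Algebra.algebraMapSubmonoid C' S
  let B' := Localization T
  letI : Algebra B B' := (IsLocalization.map B' (algebraMap C C') (M := S) (T := T)
    (fun c hc => ⟨c, hc, rfl⟩)).toAlgebra
  haveI : IsScalarTower C C' B' := inferInstance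
  haveI : IsScalarTower C B B' := .of_algebraMap_eq fun c =>
    (IsLocalization.map_eq (T := T) (g := algebraMap C C') _ c).symm
  haveI : IsScalarTower R C B' := .of_algebraMap_eq fun r => by
    rw [IsScalarTower.algebraMap_apply C C' B', ← IsScalarTower.algebraMap_apply R C C', ← IsScalarTower.algebraMap_apply R C' B']
  haveI : IsScalarTower R B B' := .of_algebraMap_eq fun r => by
    rw [IsScalarTower.algebraMap_apply R C B, ← IsScalarTower.algebraMap_apply C B B', ← IsScalarTower.algebraMap_apply R C B']
  haveI : IsScalarTower R' C' B' := inferInstance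
  haveI : IsScalarTower R R' B' := .of_algebraMap_eq fun r => by
    rw [IsScalarTower.algebraMap_apply R' C' B', ← IsScalarTower.algebraMap_apply R R' C', ← IsScalarTower.algebraMap_apply R C' B']
  haveI : Algebra.IsPushout C B C' B' := (Algebra.isPushout_of_isLocalization S B C' B').symm
  haveI : Algebra.IsPushout R B R' B' := by
    refine Algebra.IsPushout.symm ?_
    haveI : Algebra.IsPushout R R' C C' := Algebra.IsPushout.symm hpush
    exact Algebra.IsPushout.symm ((Algebra.IsPushout.comp_iff R C R' C' (T := B) (T' := B')).2 inferInstance)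
  let M' := B' ⊗[B] GB
  let f : GB →ₗ[B] M' := TensorProduct.mk B B' GB 1
  have hf : IsBaseChange B' f := TensorProduct.isBaseChange B GB B'
  refine Iff.trans ?_ (CAlgH.FlatLocusH.flatAt_iff_map_flatIdeal_eq_bot (A := R) (B := B) (M := GB) f hf)
  -- the map from the global base change
  let g0 : G →ₗ[C] M' := (f.restrictScalars C).comp (LocalizedModule.mkLinearMap S G)
  have hg0 : IsBaseChange B' g0 :=
    (IsLocalizedModule.isBaseChange S B (LocalizedModule.mkLinearMap S G)).comp hf
  let h0 : C' ⊗[C] G →ₗ[C'] M' := LinearMap.liftBaseChange C' g0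
  have hh0 : IsBaseChange B' h0 := by
    refine IsBaseChange.of_comp (TensorProduct.isBaseChange C G C') ?_
    convert hg0 using 1
    exact LinearMap.ext fun x => by simp [h0]
  have key : ∀ (q : Ideal B') [q.IsPrime],
      FlatCA.FlatAt R' q M' ↔ FlatCA.FlatAt R' (q.under C') (C' ⊗[C] G) := by
    intro q _
    let W := Localization.AtPrime q
    haveI : IsLocalization.AtPrime W (q.under C') :=
      IsLocalization.isLocalization_isLocalization_atPrime_isLocalization T W q
    let g : C' ⊗[C] G →ₗ[C'] LocalizedModule q.primeCompl M' :=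
      ((LocalizedModule.mkLinearMap q.primeCompl M').restrictScalars C').comp h0
    haveI : IsLocalizedModule (q.under C').primeCompl g := by
      rw [isLocalizedModule_iff_isBaseChange (q.under C').primeCompl W]
      exact hh0.comp (IsLocalizedModule.isBaseChange q.primeCompl W (LocalizedModule.mkLinearMap q.primeCompl M'))
    let e := (IsLocalizedModule.iso (q.under C').primeCompl g).restrictScalars R'
    exact ⟨fun h => @Module.Flat.of_linearEquiv _ _ _ _ _ _ _ _ h e, fun h => @Module.Flat.of_linearEquiv _ _ _ _ _ _ _ _ h e.symm⟩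
  have hunit : ∀ (q : Ideal B') [q.IsPrime] (s : S), algebraMap C B' s ∉ q := fun q _ s h =>
    (inferInstance : q.IsPrime).ne_top (Ideal.eq_top_of_isUnit_mem _ h
      (IsLocalization.map_units B' (⟨algebraMap C C' s, s, s.2, rfl⟩ : T)))
  constructor
  · intro h q _ hq
    rw [key q]
    refine h ⟨q.under C', inferInstance⟩ ?_ ?_
    · refine le_antisymm (fun c hc => ?_) fun c hc => ?_
      · by_contra hcn
        exact hunit q ⟨c, hcn⟩ hc
      · show algebraMap C' B' (algebraMap C C' c) ∈ q
        rw [← IsScalarTower.algebraMap_apply C C' B', IsScalarTower.algebraMap_apply C B B']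
        refine hq (Ideal.mem_sup_right (Ideal.mem_map_of_mem _ ?_))
        rw [← Localization.AtPrime.map_eq_maximalIdeal]
        exact Ideal.mem_map_of_mem _ hc
    · rw [Ideal.map_le_iff_le_comap]
      intro r hr
      show algebraMap C' B' (algebraMap R' C' r) ∈ q
      exact hq (Ideal.mem_sup_left (Ideal.mem_map_of_mem _ hr))
  · intro h q' hq' hmax
    have hdisj : Disjoint (T : Set C') (q'.asIdeal : Set C') := Set.disjoint_left.2 fun x hx hxq => by
      obtain ⟨c, hc, rfl⟩ := hx
      exact hc (hq' ▸ hxq)
    let q : Ideal B' := q'.asIdeal.map (algebraMap C' B')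
    haveI : q.IsPrime := IsLocalization.isPrime_of_isPrime_disjoint T B' _ q'.2 hdisj
    have hqu : q.under C' = q'.asIdeal := IsLocalization.under_map_of_isPrime_disjoint T B' q'.2 hdisj
    have := (key q).1 (h q (sup_le ?_ ?_))
    · have aux : ∀ (P P' : Ideal C') [P.IsPrime] [P'.IsPrime], P = P' →
          FlatCA.FlatAt R' P (C' ⊗[C] G) → FlatCA.FlatAt R' P' (C' ⊗[C] G) := by
        rintro P P' _ _ rfl hP
        exact hP
      exact aux _ _ hqu this
    · rw [IsScalarTower.algebraMap_eq R' C' B', ← Ideal.map_map]
      exact Ideal.map_mono hmax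
    · rw [← Localization.AtPrime.map_eq_maximalIdeal, Ideal.map_map, ← IsScalarTower.algebraMap_eq,
        IsScalarTower.algebraMap_eq C C' B', ← Ideal.map_map]
      exact Ideal.map_mono (Ideal.map_le_iff_le_comap.2 hq'.ge)

end Groth.Agent.CAlg15.LocFlatTransfer
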