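import Groth.Agent.CAlg15.FlatOffDepth
import Groth.Agent.CAlg15.FibreDepth
import Groth.Agent.FlatCrit.Inj
import Groth.Agent.EGA41Lib.FlatRegularSeq

/-! Depth along a closed set of a base change, from the depths of the fibres of a flat module. -/

set_option autoImplicit false
set_option linter.style.haveILetI false

universe u

open TensorProduct IsLocalRing RingTheory.Sequence Function
open scoped Pointwise

namespace Groth.Agent.CAlg15

section Local

variable {A B : Type u} [CommRing A] [CommRing B] [IsNoetherianRing A] [IsNoetherianRing B] [IsLocalRing A] [IsLocalRing B]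
  [Algebra A B] [IsLocalHom (algebraMap A B)] {M : Type u} [AddCommGroup M] [Module B M] [Module A M]
  [IsScalarTower A B M] [Module.Finite B M] [Module.Flat A M]

theorem lsmul_lTensor_tmul (P : Type u) [AddCommGroup P] [Module A P] (a : B) (x : M ⊗[A] P) :
    ((LinearMap.lsmul B M a).restrictScalars A).rTensor P x = a • x := by
  induction x with
  | zero => simp
  | add x y hx hy => simp [smul_add, hx, hy]
  | tmul m p => simp [TensorProduct.smul_tmul']

/-- An element regular on the closed fibre of a flat module is regular with flat cokernel. -/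
theorem regular_and_flat_of_fibre {a : B} (h : IsSMulRegular (EGA4.FibMod A B M) a) :
    IsSMulRegular M a ∧ Module.Flat A (QuotSMulTop a M) := by
  let u : M →ₗ[A] M := (LinearMap.lsmul B M a).restrictScalars A
  have hjac : (maximalIdeal A).map (algebraMap A B) ≤ Ideal.jacobson ⊥ := EGA41Lib.map_le_jacobson_of_le _ le_rfl
  have hu : Injective (u.lTensor (ResidueField A)) := by
    rw [LinearMap.lTensor_inj_iff_rTensor_inj]
    have h' : IsSMulRegular (M ⊗[A] (A ⧸ maximalIdeal A)) a :=
      (((Submodule.quotEquivOfEq _ _ rfl).trans (FlatOff.quotEquiv M (maximalIdeal A))).isSMulRegular_congr a).1 h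
    intro x y hxy
    rw [lsmul_lTensor_tmul, lsmul_lTensor_tmul] at hxy
    exact h' hxy
  refine ⟨fun x y hxy => FlatCrit.injective_of_injective_mod_max u hu hjac hxy, ?_⟩
  haveI := FlatCrit.flat_coker_of_injective_mod_max u hu hjac
  refine Module.Flat.of_linearEquiv (M := M ⧸ LinearMap.range u) ?_
  refine ((Submodule.Quotient.restrictScalarsEquiv A (a • (⊤ : Submodule B M))).symm.trans
    (Submodule.quotEquivOfEq _ _ ?_))
  ext x
  simp only [Submodule.restrictScalars_mem, Submodule.mem_smul_pointwise_iff_exists, LinearMap.mem_range]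
  exact ⟨fun ⟨b, _, hb⟩ => ⟨b, hb⟩, fun ⟨b, hb⟩ => ⟨b, trivial, hb⟩⟩

end Local

section BaseChange

variable {A B : Type u} [CommRing A] [CommRing B] [Algebra A B] (A' B' : Type u) [CommRing A'] [CommRing B']
  [Algebra A A'] [Algebra B B'] [Algebra A' B'] [Algebra A B'] [IsScalarTower A B B'] [IsScalarTower A A' B']
  [Algebra.IsPushout A B A' B'] {P Q T : Type u} [AddCommGroup P] [Module B P] [Module A P] [IsScalarTower A B P]
  [AddCommGroup Q] [Module B Q] [Module A Q] [IsScalarTower A B Q]
  [AddCommGroup T] [Module B T] [Module A T] [IsScalarTower A B T]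

include A' in
/-- A short exact sequence with flat cokernel stays exact after base change. -/
theorem lTensor_injective_baseChange (f : P →ₗ[B] Q) (g : Q →ₗ[B] T) (hf : Injective f) (hg : Surjective g)
    (hfg : Exact f g) [Module.Flat A T] : Injective (f.lTensor B') := by
  have hinj := LinearMap.lTensor_injective_of_exact_of_flat (g.restrictScalars A) hg (f.restrictScalars A) hf hfg A'
  haveI : Algebra.IsPushout A A' B B' := Algebra.IsPushout.symm inferInstance
  let eP : B' ⊗[B] P ≃ₗ[A'] A' ⊗[A] P := Algebra.IsPushout.cancelBaseChange A A' B B' P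
  let eQ : B' ⊗[B] Q ≃ₗ[A'] A' ⊗[A] Q := Algebra.IsPushout.cancelBaseChange A A' B B' Q
  have key : ∀ x : A' ⊗[A] P, eQ.symm ((f.restrictScalars A).lTensor A' x) = f.lTensor B' (eP.symm x) := by
    intro x
    induction x with
    | zero => simp
    | add x y hx hy => simp only [map_add, hx, hy]
    | tmul s p =>
      simp only [LinearMap.lTensor_tmul, LinearMap.restrictScalars_apply, eP, eQ,
        Algebra.IsPushout.cancelBaseChange_symm_tmul]
  intro x y hxy
  apply eP.injective
  apply hinj
  apply eQ.symm.injective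
  rw [key, key, eP.symm_apply_apply, eP.symm_apply_apply]
  exact hxy

include A' in
/-- The same for a flat algebra over the base change. -/
theorem lTensor_injective_flat (W : Type u) [CommRing W] [Algebra B W] [Algebra B' W] [IsScalarTower B B' W]
    [Module.Flat B' W] (f : P →ₗ[B] Q) (g : Q →ₗ[B] T) (hf : Injective f) (hg : Surjective g)
    (hfg : Exact f g) [Module.Flat A T] : Injective (f.lTensor W) := by
  have h := Module.Flat.lTensor_preserves_injective_linearMap (M := W) (f.baseChange B')
    (fun x y hxy => lTensor_injective_baseChange (A := A) A' B' f g hf hg hfg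
      (by rw [← LinearMap.baseChange_eq_ltensor]; exact hxy))
  let eP : W ⊗[B'] (B' ⊗[B] P) ≃ₗ[W] W ⊗[B] P := AlgebraTensorModule.cancelBaseChange B B' W W P
  let eQ : W ⊗[B'] (B' ⊗[B] Q) ≃ₗ[W] W ⊗[B] Q := AlgebraTensorModule.cancelBaseChange B B' W W Q
  have key : ∀ x : W ⊗[B] P, eQ.symm (f.lTensor W x) = (f.baseChange B').lTensor W (eP.symm x) := by
    intro x
    induction x with
    | zero => simp
    | add x y hx hy => simp only [map_add, hx, hy]
    | tmul s p => simp [eP, eQ]
  intro x y hxy
  apply eP.symm.injective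
  apply h
  rw [← key, ← key, hxy]

end BaseChange

section Step

variable {A B : Type u} [CommRing A] [CommRing B] [Algebra A B] (A' B' : Type u) [CommRing A'] [CommRing B']
  [Algebra A A'] [Algebra B B'] [Algebra A' B'] [Algebra A B'] [IsScalarTower A B B'] [IsScalarTower A A' B']
  [Algebra.IsPushout A B A' B']
  (S : Submonoid B) (W : Type u) [CommRing W] [Algebra B W] [Algebra (Localization S) W]
  [IsScalarTower B (Localization S) W] [Algebra B' W] [IsScalarTower B B' W] [Module.Flat B' W]
  {P : Type u} [AddCommGroup P] [Module B P] [Module (Localization S) P] [IsScalarTower B (Localization S) P]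
  [Module A P] [IsScalarTower A B P] [IsScalarTower A (Localization S) P]

include A' B' in
set_option maxHeartbeats 1600000 in
/-- One step of a regular sequence after base change. -/
theorem regular_step {a : Localization S} (h : IsSMulRegular P a) [Module.Flat A (QuotSMulTop a P)] :
    IsSMulRegular (W ⊗[B] P) (algebraMap (Localization S) W a) ∧
      Nonempty (QuotSMulTop (algebraMap (Localization S) W a) (W ⊗[B] P) ≃ₗ[W] W ⊗[B] QuotSMulTop a P) := by
  let μ : P →ₗ[B] P := (LinearMap.lsmul (Localization S) P a).restrictScalars B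
  let π : P →ₗ[B] QuotSMulTop a P := (Submodule.mkQ (a • (⊤ : Submodule (Localization S) P))).restrictScalars B
  have hex : Exact μ π := by
    intro y
    rw [show π y = 0 ↔ y ∈ a • (⊤ : Submodule (Localization S) P) from Submodule.Quotient.mk_eq_zero _,
      Submodule.mem_smul_pointwise_iff_exists]
    exact ⟨fun ⟨b, _, hb⟩ => ⟨b, hb⟩, fun ⟨b, hb⟩ => ⟨b, trivial, hb⟩⟩
  have hπ : Surjective π := Submodule.mkQ_surjective _
  have hcomp : ∀ z : W ⊗[B] P, μ.lTensor W z = algebraMap (Localization S) W a • z := by
    intro z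
    induction z with
    | zero => simp
    | add x y hx hy => simp only [map_add, smul_add, hx, hy]
    | tmul w p =>
      show w ⊗ₜ[B] (a • p) = _
      rw [← TensorProduct.smul_tmul, TensorProduct.smul_tmul', smul_eq_mul, Algebra.smul_def]
  refine ⟨fun x y hxy => lTensor_injective_flat (A := A) A' B' W μ π h hπ hex ((hcomp x).trans (hxy.trans (hcomp y).symm)),
    ⟨?_⟩⟩
  refine (Submodule.quotEquivOfEq _ _ ?_).trans
    ((π.baseChange W).quotKerEquivOfSurjective fun z => by
      obtain ⟨v, hv⟩ := LinearMap.lTensor_surjective W hπ z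
      exact ⟨v, by rw [LinearMap.baseChange_eq_ltensor]; exact hv⟩)
  ext z
  rw [Submodule.mem_smul_pointwise_iff_exists, LinearMap.mem_ker, LinearMap.baseChange_eq_ltensor,
    (lTensor_exact W hex hπ) z]
  exact ⟨fun ⟨w, _, hw⟩ => ⟨w, (hcomp w).trans hw⟩, fun ⟨w, hw⟩ => ⟨w, trivial, (hcomp w).symm.trans hw⟩⟩

end Step

section Global

variable {A B : Type u} [CommRing A] [CommRing B] [IsNoetherianRing A] [IsNoetherianRing B] [Algebra A B]
  (A' B' : Type u) [CommRing A'] [CommRing B'] [IsNoetherianRing B'] [Algebra A A'] [Algebra B B'] [Algebra A' B']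
  [Algebra A B'] [IsScalarTower A B B'] [IsScalarTower A A' B'] [Algebra.IsPushout A B A' B']
  {E : Type u} [AddCommGroup E] [Module B E] [Module A E] [IsScalarTower A B E] [Module.Finite B E] [Module.Flat A E]

include A' in
set_option maxHeartbeats 1600000 in
/-- Elements of `q` forming a regular sequence on the fibre stay regular on the base change at points over `q`. -/
theorem two_le_depth_baseChange_at (q' : Ideal B') [q'.IsPrime]
    (h : 2 ≤ LocCoh.idealDepth ((q'.comap (algebraMap B B')).map (algebraMap B (EGA4.FibLocRing A B (q'.comap (algebraMap B B')))))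
      (EGA4.FibLocMod A B (q'.comap (algebraMap B B')) E)) :
    2 ≤ LocCoh.depth (Localization.AtPrime q') (LocalizedModule q'.primeCompl (B' ⊗[B] E)) := by
  let q := q'.comap (algebraMap B B')
  haveI : q.IsPrime := Ideal.IsPrime.comap _
  let p := q.comap (algebraMap A B)
  haveI : p.IsPrime := Ideal.IsPrime.comap _
  haveI : q.LiesOver p := ⟨rfl⟩
  letI := Localization.AtPrime.algebraOfLiesOver p q
  let Ap := Localization.AtPrime p
  let Bq := Localization.AtPrime q
  haveI : IsLocalHom (algebraMap Ap Bq) :=
    Localization.isLocalHom_localRingHom p q (algebraMap A B) Ideal.LiesOver.over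
  let Eq' := LocalizedModule q.primeCompl E
  letI : Module Ap Eq' := Module.compHom _ (algebraMap Ap Bq)
  haveI : IsScalarTower Ap Bq Eq' := .of_algebraMap_smul fun _ _ => rfl
  haveI : IsScalarTower A Ap Eq' := .of_algebraMap_smul fun a x => by
    show algebraMap Ap Bq (algebraMap A Ap a) • x = a • x
    rw [← IsScalarTower.algebraMap_apply, algebraMap_smul]
  haveI : Module.Flat A Eq' := flat_localizedModule q.primeCompl
  haveI : Module.Flat Ap Eq' := (Module.flat_iff_of_isLocalization Ap p.primeCompl Eq').2 inferInstance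
  haveI : Module.Finite Bq Eq' :=
    Module.Finite.of_isLocalizedModule q.primeCompl (LocalizedModule.mkLinearMap q.primeCompl E)
  have hmap : (maximalIdeal Ap).map (algebraMap Ap Bq) = p.map (algebraMap A Bq) := by
    rw [← Localization.AtPrime.map_eq_maximalIdeal, Ideal.map_map, ← IsScalarTower.algebraMap_eq]
  let eF : EGA4.FibMod Ap Bq Eq' ≃ₗ[Bq] EGA4.FibLocMod A B q E :=
    Submodule.quotEquivOfEq _ _ (congrArg (fun I : Ideal Bq => I • (⊤ : Submodule Bq Eq')) hmap)
  rw [idealDepth_fibLocRing, ← CAlgH3.depth_congr eF] at h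
  obtain ⟨fs, hl, hm, hw⟩ := FlatOff.exists_list_of_le_idealDepth (maximalIdeal Bq) (N := EGA4.FibMod Ap Bq Eq') 2
    (by simpa [LocCoh.depth] using h)
  obtain ⟨a, b, rfl⟩ := List.length_eq_two.1 hl
  rw [isWeaklyRegular_cons_iff, isWeaklyRegular_cons_iff] at hw
  obtain ⟨ha, hb, -⟩ := hw
  obtain ⟨ha', hflat⟩ := regular_and_flat_of_fibre (A := Ap) ha
  haveI := hflat
  obtain ⟨hb', hflat'⟩ := regular_and_flat_of_fibre (A := Ap) (M := QuotSMulTop a Eq') (a := b) (by
    refine (LinearEquiv.isSMulRegular_congr ?_ b).2 hb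
    exact Submodule.quotEquivOfEq _ _ (by rw [Submodule.map_smul'', Submodule.map_top, Submodule.range_mkQ]) ≪≫ₗ
      Submodule.quotientQuotientEquivQuotientSup (a • ⊤) (EGA4.mB Ap Bq • ⊤) ≪≫ₗ
      Submodule.quotEquivOfEq _ _ (sup_comm _ _) ≪≫ₗ
      (Submodule.quotientQuotientEquivQuotientSup (EGA4.mB Ap Bq • ⊤) (a • ⊤)).symm ≪≫ₗ
      Submodule.quotEquivOfEq _ _ (by rw [Submodule.map_pointwise_smul, Submodule.map_top, Submodule.range_mkQ]))
  -- base change
  haveI : Module.Flat A (QuotSMulTop a Eq') := (Module.flat_iff_of_isLocalization Ap p.primeCompl _).1 hflat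
  haveI : Module.Flat A (QuotSMulTop b (QuotSMulTop a Eq')) :=
    (Module.flat_iff_of_isLocalization Ap p.primeCompl _).1 hflat'
  let W := Localization.AtPrime q'
  letI : Algebra Bq W := (Localization.localRingHom q q' (algebraMap B B') rfl).toAlgebra
  haveI : IsScalarTower B Bq W := .of_algebraMap_eq fun x => by
    rw [IsScalarTower.algebraMap_apply B B' W]
    exact (Localization.localRingHom_to_map q q' _ rfl x).symm
  haveI : IsLocalHom (algebraMap Bq W) := Localization.isLocalHom_localRingHom q q' (algebraMap B B') rfl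
  haveI : Module.Flat B' W := inferInstance
  obtain ⟨hr1, ⟨ε⟩⟩ := regular_step A' B' q.primeCompl W (P := Eq') (A := A) (a := a) ha'
  obtain ⟨hr2, -⟩ := regular_step A' B' q.primeCompl W (P := QuotSMulTop a Eq') (A := A) (a := b) hb'
  have hreg : IsWeaklyRegular (W ⊗[B] Eq') [algebraMap Bq W a, algebraMap Bq W b] := by
    rw [isWeaklyRegular_cons_iff, isWeaklyRegular_cons_iff]
    exact ⟨hr1, (ε.isSMulRegular_congr _).2 hr2, .nil W _⟩
  let e : W ⊗[B] Eq' ≃ₗ[W] LocalizedModule q'.primeCompl (B' ⊗[B] E) :=
    (TensorProduct.equivOfCompatibleSMul B Bq W W Eq').symm ≪≫ₗ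
      LinearEquiv.baseChange Bq W _ _ (LocalizedModule.equivTensorProduct q.primeCompl E) ≪≫ₗ
      AlgebraTensorModule.cancelBaseChange B Bq W W E ≪≫ₗ
      (AlgebraTensorModule.cancelBaseChange B B' W W E).symm ≪≫ₗ
      (LocalizedModule.equivTensorProduct q'.primeCompl (B' ⊗[B] E)).symm
  haveI : Module.Finite W (LocalizedModule q'.primeCompl (B' ⊗[B] E)) :=
    Module.Finite.of_isLocalizedModule q'.primeCompl (LocalizedModule.mkLinearMap q'.primeCompl _)
  have := FlatOff.le_idealDepth_of_list (maximalIdeal W) (fs := [algebraMap Bq W a, algebraMap Bq W b])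
    (by
      simp only [List.mem_cons, List.not_mem_nil, or_false, forall_eq_or_imp, forall_eq]
      exact ⟨map_nonunit (algebraMap Bq W) a (hm a (by simp)), map_nonunit (algebraMap Bq W) b (hm b (by simp))⟩)
    ((LinearEquiv.isWeaklyRegular_congr (R := W) (M := W ⊗[B] Eq') (M₂ := LocalizedModule q'.primeCompl (B' ⊗[B] E)) e _).1 hreg)
  simpa [LocCoh.depth] using this

include A' in
/-- Depth two along `J B'` of the base change, from the fibres along `J`. -/
theorem two_le_idealDepth_baseChange (J : Ideal B)
    (h : ∀ q : PrimeSpectrum B, J ≤ q.asIdeal → 2 ≤ LocCoh.idealDepth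
      (q.asIdeal.map (algebraMap B (EGA4.FibLocRing A B q.asIdeal))) (EGA4.FibLocMod A B q.asIdeal E)) :
    2 ≤ LocCoh.idealDepth (J.map (algebraMap B B')) (B' ⊗[B] E) :=
  (le_idealDepth_iff _ _ 2).2 fun q' hq' => two_le_depth_baseChange_at A' B' q'.asIdeal
    (h ⟨_, Ideal.IsPrime.comap _⟩ (Ideal.map_le_iff_le_comap.1 hq'))

end Global

end Groth.Agent.CAlg15
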