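import Groth.Agent.CAlg15.ValDepth
import Groth.Agent.CommAlg6.SerreOne

/-! Injectivity of a map out of a module satisfying `(S₂)`. -/

set_option autoImplicit false
set_option linter.style.haveILetI false

universe u

open IsLocalRing Function

namespace Groth.Agent.CAlg15.SkInjective

variable {B : Type u} [CommRing B] [IsNoetherianRing B]

/-- Over a prime contained in `p` not containing `J` a module of positive `J`-depth is detected. -/
theorem exists_prime_off {J : Ideal B} {N : Type u} [AddCommGroup N] [Module B N] [Module.Finite B N]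
    (hN : 1 ≤ _root_.LocCoh.idealDepth J N) (p : Ideal B) [p.IsPrime] (z : N) (hz : ∀ s ∉ p, s • z ≠ 0) :
    ∃ r : PrimeSpectrum B, r.asIdeal ≤ p ∧ ¬ J ≤ r.asIdeal ∧ ∀ s ∉ r.asIdeal, s • z ≠ 0 := by
  have hle : (⊥ : Submodule B N).colon {z} ≤ p := fun s hs => by
    by_contra h
    exact hz s h (by simpa [Submodule.mem_colon_singleton] using hs)
  obtain ⟨r, hr, hrp⟩ := Ideal.exists_minimalPrimes_le (J := p) hle
  haveI := hr.1.1
  refine ⟨⟨r, hr.1.1⟩, hrp, fun hJ => ?_, fun s hs h => hs (hr.1.2 (by simpa [Submodule.mem_colon_singleton] using h))⟩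
  obtain ⟨w, hw⟩ := Submodule.exists_eq_colon_of_mem_minimalPrimes hr
  haveI : Subsingleton (_root_.LocCoh.H J 0 N) :=
    (LocCoh.natCast_le_idealDepth_iff_H J N 1).1 (by simpa using hN) 0 (by norm_num)
  have hw0 : w = 0 := congrArg Subtype.val (((LocCoh.H0Equiv J N).symm.toEquiv.subsingleton).elim
    (⟨w, 1, fun j hj => by
      have : j ∈ r := hJ (by simpa using hj)
      rw [hw] at this
      simpa [Submodule.mem_colon_singleton] using this⟩ : LocCoh.powTorsion J N) 0)
  refine hr.1.1.ne_top ((Ideal.eq_top_iff_one _).2 ?_)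
  rw [hw, Submodule.mem_colon_singleton, hw0]
  simp

variable (J : Ideal B) {M N : Type u}
  [AddCommGroup M] [Module B M] [Module.Finite B M] [AddCommGroup N] [Module B N] [Module.Finite B N]

/-- A map from a module with `(S₂)` to a module of depth two, bijective off `V(J)`, is injective as soon
as vanishing of the target at a prime forces vanishing of the source. -/
theorem injective_of_hasSk (ι : M →ₗ[B] N) (hS : _root_.LocCoh.HasSk 2 B M)
    (hN : 1 ≤ _root_.LocCoh.idealDepth J N)
    (hker : ∀ q : PrimeSpectrum B, ¬ J ≤ q.asIdeal → ∀ x, ι x = 0 → ∃ s ∉ q.asIdeal, s • x = 0)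
    (hcok : ∀ q : PrimeSpectrum B, ¬ J ≤ q.asIdeal → ∀ y : N, ∃ s ∉ q.asIdeal, s • y ∈ LinearMap.range ι)
    (hzero : ∀ p : PrimeSpectrum B, J ≤ p.asIdeal → (∀ z : N, ∃ s ∉ p.asIdeal, s • z = 0) →
      ∀ x : M, ∃ s ∉ p.asIdeal, s • x = 0) :
    Injective ι := by
  rw [injective_iff_map_eq_zero]
  intro x hx
  by_contra hne
  have hle : (⊥ : Submodule B M).colon {x} ≠ ⊤ := fun h => hne (by
    have : (1 : B) ∈ (⊥ : Submodule B M).colon {x} := h ▸ trivial
    simpa [Submodule.mem_colon_singleton] using this)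
  obtain ⟨P, hP, hxP⟩ := Ideal.exists_le_maximal _ hle
  obtain ⟨p, hp, -⟩ := Ideal.exists_minimalPrimes_le (J := P) hxP
  haveI := hp.1.1
  obtain ⟨w, hw⟩ := Submodule.exists_eq_colon_of_mem_minimalPrimes hp
  have hw' : ∀ s, s ∈ p ↔ s • w = 0 := fun s => by rw [hw, Submodule.mem_colon_singleton, Submodule.mem_bot]
  have hxp : ∀ s ∉ p, s • x ≠ 0 := fun s hs h => hs (hp.1.2 (by simpa [Submodule.mem_colon_singleton] using h))
  have hJp : J ≤ p := by
    by_contra h
    obtain ⟨s, hs, hsx⟩ := hker ⟨p, hp.1.1⟩ h x hx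
    exact hxp s hs hsx
  let L := Localization.AtPrime p
  let Mp := LocalizedModule p.primeCompl M
  haveI : Module.Finite L Mp := Module.Finite.of_isLocalizedModule p.primeCompl (LocalizedModule.mkLinearMap p.primeCompl M)
  have hdepth : _root_.LocCoh.depth L Mp = 0 := by
    by_contra h
    haveI : Subsingleton (_root_.LocCoh.H (maximalIdeal L) 0 Mp) :=
      (LocCoh.natCast_le_idealDepth_iff_H (maximalIdeal L) Mp 1).1 (by
        rw [Nat.cast_one]; exact Order.one_le_iff_pos.2 (pos_iff_ne_zero.2 h)) 0 (by norm_num)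
    have hw0 : LocalizedModule.mkLinearMap p.primeCompl M w = 0 :=
      congrArg Subtype.val (((LocCoh.H0Equiv (maximalIdeal L) Mp).symm.toEquiv.subsingleton).elim
      (⟨LocalizedModule.mkLinearMap p.primeCompl M w, 1, fun j hj => by
        rw [pow_one, ← Localization.AtPrime.map_eq_maximalIdeal] at hj
        induction hj using Submodule.span_induction with
        | mem y hy =>
          obtain ⟨a, ha, rfl⟩ := hy
          rw [algebraMap_smul, ← map_smul, (hw' a).1 ha, map_zero]
        | zero => rw [zero_smul]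
        | add y y' _ _ h h' => rw [add_smul, h, h', add_zero]
        | smul c y _ h => rw [smul_assoc, h, smul_zero]⟩ : LocCoh.powTorsion (maximalIdeal L) Mp) 0)
    obtain ⟨s, hs⟩ := (IsLocalizedModule.eq_zero_iff p.primeCompl (LocalizedModule.mkLinearMap p.primeCompl M)).1 hw0
    exact s.2 ((hw' s).2 hs)
  have hdim : Module.supportDim L Mp ≤ 0 := by
    have h := hS p
    rw [hdepth] at h
    rcases min_le_iff.1 h with h | h
    · exact absurd h (by norm_num)
    · exact h
  have hmin := (CommAlg6.supportDim_localized_le_zero_iff (M := M) p).1 hdim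
  have hN0 : ∀ z : N, ∃ s ∉ p, s • z = 0 := by
    intro z
    by_contra hz
    push Not at hz
    obtain ⟨r, hrp, hJr, hrz⟩ := exists_prime_off hN p z hz
    obtain ⟨s, hs, y, hy⟩ := hcok r hJr z
    obtain ⟨s', hs', hsy⟩ : ∃ s' ∉ r.asIdeal, s' • y = 0 := by
      by_contra h
      push Not at h
      have hsupp : r ∈ Module.support B M := Module.mem_support_iff'.2 ⟨y, h⟩
      exact hJr ((hmin r hsupp hrp).symm ▸ hJp)
    refine hrz (s' * s) (fun h => (r.isPrime.mem_or_mem h).elim hs' hs) ?_
    rw [mul_smul, ← hy, ← map_smul, hsy, map_zero]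
  obtain ⟨s, hs, hsw⟩ := hzero ⟨p, hp.1.1⟩ hJp hN0 w
  exact hs ((hw' s).2 hsw)

end Groth.Agent.CAlg15.SkInjective
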