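import Groth.Agent.CAlg15.ValCrit
import Groth.Agent.CAlg15.SkInjective
import Groth.Agent.CAlg15.ClosedFibreSk

/-! Flatness of the cokernel and `(S₂)` of the closed fibre of the double dual after any local base change. -/

set_option autoImplicit false
set_option linter.style.haveILetI false

universe u

open TensorProduct IsLocalRing Function

namespace Groth.Agent.CAlg15.UnivCrit

open FourTermH2

/-- If the kernel of the closed fibre vanishes at `P` then so does the kernel. -/
theorem smul_eq_zero_of_fibre_injective {A B : Type u} [CommRing A] [CommRing B] [IsNoetherianRing A] [IsNoetherianRing B]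
    [IsLocalRing A] [IsLocalRing B] [Algebra A B] [IsLocalHom (algebraMap A B)]
    {E0 E1 : Type u} [AddCommGroup E0] [Module B E0] [Module A E0] [IsScalarTower A B E0] [Module.Finite B E0]
    [AddCommGroup E1] [Module B E1] [Module A E1] [IsScalarTower A B E1] [Module.Finite B E1] [Module.Flat A E1]
    (u : E0 →ₗ[B] E1) (P : Ideal B) [P.IsPrime]
    (h : ∀ y, uT A u (A ⧸ maximalIdeal A) y = 0 → ∃ s ∉ P, s • y = 0)
    (hP : (maximalIdeal A).map (algebraMap A B) ≤ P)
    (x : (LinearMap.ker u) ⊗[A] (A ⧸ maximalIdeal A)) : ∃ s ∉ P, s • x = 0 := by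
  let k := A ⧸ maximalIdeal A
  let L := Localization.AtPrime P
  let S := P.primeCompl
  haveI : IsLocalHom (algebraMap A L) := ((IsLocalRing.local_hom_TFAE (algebraMap A L)).out 0 2 rfl rfl).2 (by
    rw [IsScalarTower.algebraMap_eq A B L, ← Ideal.map_map, ← Localization.AtPrime.map_eq_maximalIdeal]
    exact Ideal.map_mono hP)
  haveI : Module.Finite L (LocalizedModule S E0) := Module.Finite.of_isLocalizedModule S (LocalizedModule.mkLinearMap S E0)
  haveI : Module.Finite L (LocalizedModule S E1) := Module.Finite.of_isLocalizedModule S (LocalizedModule.mkLinearMap S E1)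
  haveI : Module.Flat A (LocalizedModule S E1) := flat_localizedModule S
  let uP := LocalizedModule.map S u
  let g0 := AlgebraTensorModule.rTensor A k (LocalizedModule.mkLinearMap S E0)
  let g1 := AlgebraTensorModule.rTensor A k (LocalizedModule.mkLinearMap S E1)
  have hnat : ∀ z, uT A uP k (g0 z) = g1 (uT A u k z) := fun z => by
    induction z with
    | zero => simp
    | add a b ha hb => simp only [map_add, ha, hb]
    | tmul a b => simp [g0, g1, uP, LocalizedModule.mkLinearMap_apply, LocalizedModule.map_mk]
  have hinj : Injective (uT A uP k) := by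
    rw [injective_iff_map_eq_zero]
    intro z hz
    obtain ⟨⟨e, s⟩, he⟩ := IsLocalizedModule.surj S g0 z
    have h1 : g1 (uT A u k e) = 0 := by
      rw [← hnat, ← he, Submonoid.smul_def, LinearMap.map_smul_of_tower, hz, smul_zero]
    obtain ⟨t, ht⟩ := (IsLocalizedModule.eq_zero_iff S g1).1 h1
    obtain ⟨c, hc, hce⟩ := h ((t : B) • e) (by rw [map_smul]; exact ht)
    apply IsLocalizedModule.smul_injective g0 ((⟨c, hc⟩ : S) * t * s)
    show ((c * (t : B)) * (s : B)) • z = ((c * (t : B)) * (s : B)) • (0 : LocalizedModule S E0 ⊗[A] k)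
    rw [smul_zero, mul_smul, show (s : B) • z = g0 e from he, ← map_smul, mul_smul, hce, map_zero]
  have hjac : (maximalIdeal A).map (algebraMap A L) ≤ Ideal.jacobson ⊥ := by
    rw [IsLocalRing.jacobson_eq_maximalIdeal ⊥ bot_ne_top]
    exact IsLocalRing.map_maximalIdeal_le (algebraMap A L)
  have huP : Injective uP := FlatCrit.injective_of_injective_mod_max (S := L) (uP.restrictScalars A) (by
    rw [LinearMap.lTensor_inj_iff_rTensor_inj]
    exact hinj) hjac
  induction x with
  | zero => exact ⟨1, fun h => P.ne_top_iff_one.1 (Ideal.IsPrime.ne_top inferInstance) h, smul_zero _⟩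
  | add a b ha hb =>
    obtain ⟨s, hs, hsa⟩ := ha
    obtain ⟨t, ht, htb⟩ := hb
    refine ⟨s * t, fun h => (Ideal.IsPrime.mem_or_mem inferInstance h).elim hs ht, ?_⟩
    rw [smul_add, mul_smul s t b, htb, mul_comm, mul_smul t s a, hsa, smul_zero, smul_zero, add_zero]
  | tmul a b =>
    obtain ⟨a, ha⟩ := a
    have h0 : LocalizedModule.mkLinearMap S E0 a = 0 := huP (by
      simp [uP, LocalizedModule.mkLinearMap_apply, LocalizedModule.map_mk, LinearMap.mem_ker.1 ha])
    obtain ⟨s, hs⟩ := (IsLocalizedModule.eq_zero_iff S (LocalizedModule.mkLinearMap S E0)).1 h0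
    exact ⟨s, s.2, by rw [TensorProduct.smul_tmul', show (s : B) • (⟨a, ha⟩ : LinearMap.ker u) = 0 from Subtype.ext hs, TensorProduct.zero_tmul]⟩

variable {D C' : Type u} [CommRing D] [CommRing C'] [Algebra D C'] [IsNoetherianRing C']
  [IsLocalRing D] [IsNoetherianRing D] [Module.Flat D C']

set_option maxHeartbeats 6400000 in
/-- The two halves of the criterion after a local base change. -/
theorem coker_and_fibre (J : Ideal C') (q' : Ideal C') [q'.IsPrime] (hm : q'.comap (algebraMap D C') = maximalIdeal D)
    (h0 : 2 ≤ _root_.LocCoh.idealDepth (J.map (algebraMap C' (Localization.AtPrime q')))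
      (EGA4.FibLocMod D C' q' C'))
    (D1 : Type u) [AddCommGroup D1] [Module C' D1] [Module.Finite C' D1]
    (hD1 : ∃ (a b : ℕ) (g : D1 →ₗ[C'] (Fin a → C')) (h : (Fin a → C') →ₗ[C'] (Fin b → C')), Injective g ∧ Exact g h)
    (E0 E1 G : Type u) [AddCommGroup E0] [Module C' E0] [Module.Finite C' E0] [Module.Free C' E0]
    [AddCommGroup E1] [Module C' E1] [Module.Finite C' E1] [Module.Free C' E1]
    [AddCommGroup G] [Module C' G] [Module D G] [IsScalarTower D C' G]
    [Module D D1] [IsScalarTower D C' D1]
    (u : E0 →ₗ[C'] E1) (v : E1 →ₗ[C'] G) (huv : Exact u v) (hv : Surjective v)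
    (ρ : D1 →ₗ[C'] E0) (huρ : ∀ d, u (ρ d) = 0)
    (hρ : ∀ r : PrimeSpectrum C', ¬ J ≤ r.asIdeal →
        (∀ d, ρ d = 0 → ∃ c ∉ r.asIdeal, c • d = 0) ∧ ∀ y, u y = 0 → ∃ c ∉ r.asIdeal, ∃ d, ρ d = c • y)
    (hG : ∀ r : PrimeSpectrum C', ¬ J ≤ r.asIdeal → FlatCA.FlatAt D r.asIdeal G) :
    (_root_.LocCoh.HasSk 2 (EGA4.FibLocRing D C' q') (EGA4.FibLocMod D C' q' D1) → FlatCA.FlatAt D q' G) ∧
    (_root_.LocCoh.HasSk 2 (EGA4.FibLocRing D C' q') (EGA4.FibLocRing D C' q') → FlatCA.FlatAt D q' G →
      FlatCA.FlatAt D q' D1 ∧ _root_.LocCoh.HasSk 2 (EGA4.FibLocRing D C' q') (EGA4.FibLocMod D C' q' D1)) := by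
  let S := q'.primeCompl
  let B := Localization.AtPrime q'
  haveI : IsLocalHom (algebraMap D B) := ((IsLocalRing.local_hom_TFAE (algebraMap D B)).out 0 2 rfl rfl).2 (by
    rw [IsScalarTower.algebraMap_eq D C' B, ← Ideal.map_map, ← Localization.AtPrime.map_eq_maximalIdeal]
    exact Ideal.map_mono (Ideal.map_le_iff_le_comap.2 hm.ge))
  let K := (q'.comap (algebraMap D C')).map (algebraMap D B)
  have hK : K = EGA4.mB D B := by simp only [K, hm]
  let JB := J.map (algebraMap C' B)
  have h0B : 2 ≤ _root_.LocCoh.idealDepth JB (EGA4.FibMod D B B) := by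
    refine le_of_le_of_eq h0 (CAlgH3.idealDepth_congr JB (Submodule.quotEquivOfEq (K • (⊤ : Submodule B B)) _ ?_))
    rw [hK]
  letI : Module D E0 := Module.compHom E0 (algebraMap D C')
  letI : Module D E1 := Module.compHom E1 (algebraMap D C')
  haveI : IsScalarTower D C' E0 := .of_algebraMap_smul fun _ _ => rfl
  haveI : IsScalarTower D C' E1 := .of_algebraMap_smul fun _ _ => rfl
  haveI : Module.Flat D E0 := Module.Flat.trans D C' E0
  haveI : Module.Flat D E1 := Module.Flat.trans D C' E1
  haveI : Module.Flat D (LocalizedModule S E0) := flat_localizedModule S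
  haveI : Module.Flat D (LocalizedModule S E1) := flat_localizedModule S
  haveI : Module.Finite B (LocalizedModule S E0) := Module.Finite.of_isLocalizedModule S (LocalizedModule.mkLinearMap S E0)
  haveI : Module.Finite B (LocalizedModule S E1) := Module.Finite.of_isLocalizedModule S (LocalizedModule.mkLinearMap S E1)
  haveI : Module.Finite B (LocalizedModule S D1) := Module.Finite.of_isLocalizedModule S (LocalizedModule.mkLinearMap S D1)
  let uB := LocalizedModule.map S u
  let vB := LocalizedModule.map S v
  let K0 := LinearMap.ker uB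
  let φ : LocalizedModule S D1 →ₗ[B] K0 := (LocalizedModule.map S ρ).codRestrict _ fun z => by
    induction z using LocalizedModule.induction_on with
    | _ d s =>
      rw [LinearMap.mem_ker]
      show uB (LocalizedModule.map S ρ (LocalizedModule.mk d s)) = 0
      rw [LocalizedModule.map_mk, LocalizedModule.map_mk, huρ, LocalizedModule.zero_mk]
  have hfree : ∀ (E : Type u) [AddCommGroup E] [Module C' E] [Module D E] [IsScalarTower D C' E]
      [Module.Finite C' E] [Module.Free C' E],
      2 ≤ _root_.LocCoh.idealDepth JB (EGA4.FibMod D B (LocalizedModule S E)) ∧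
      2 ≤ _root_.LocCoh.idealDepth JB (LocalizedModule S E) := by
    intro E _ _ _ _ _ _
    haveI : Module.Finite B (LocalizedModule S E) := Module.Finite.of_isLocalizedModule S (LocalizedModule.mkLinearMap S E)
    haveI : Module.Flat D E := Module.Flat.trans D C' E
    haveI : Module.Flat D (LocalizedModule S E) := flat_localizedModule S
    have h := InfCrit.le_fibMod_of_flat (R := D) JB 2 h0B (LocalizedModule S E)
    exact ⟨h, ValDepth.le_idealDepth_of_fibMod (A := D) JB h⟩
  have hD : 2 ≤ _root_.LocCoh.idealDepth JB (LocalizedModule S D1) := by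
    obtain ⟨a, b, g, h, hg, hgh⟩ := hD1
    haveI : Module.Finite B (LocalizedModule S (Fin a → C')) := Module.Finite.of_isLocalizedModule S (LocalizedModule.mkLinearMap S _)
    haveI : Module.Finite B (LocalizedModule S (Fin b → C')) := Module.Finite.of_isLocalizedModule S (LocalizedModule.mkLinearMap S _)
    exact (idealDepth_of_exact JB (LocalizedModule.map S g) (LocalizedModule.map S h)
      (LocalizedModule.map_injective S g hg) (LocalizedModule.map_exact S g h hgh)).2
      (hfree (Fin a → C')).2 (le_trans (by norm_num) (hfree (Fin b → C')).2)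
  have hexK : Exact K0.subtype uB := LinearMap.exact_subtype_ker_map _
  have hK0 : 1 ≤ _root_.LocCoh.idealDepth JB K0 :=
    (idealDepth_of_exact JB K0.subtype uB Subtype.val_injective hexK).1 (le_trans (by norm_num) (hfree E0).2)
  have hunit : ∀ (P : PrimeSpectrum B) (s : S), algebraMap C' B s ∉ P.asIdeal := fun P s h =>
    P.isPrime.ne_top (Ideal.eq_top_of_isUnit_mem _ h (IsLocalization.map_units B s))
  have hbij : Bijective φ := by
    refine BidualKer.bijective_of_off (J := JB) φ hD hK0 (fun z hz P hP => ?_) fun y P hP => ?_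
    · induction z using LocalizedModule.induction_on with
      | _ d s =>
        have h0 : LocalizedModule.mk (ρ d) s = (0 : LocalizedModule S E0) := by
          have := congrArg Subtype.val hz
          simpa [φ, LocalizedModule.map_mk] using this
        rw [← LocalizedModule.zero_mk (1 : S), LocalizedModule.mk_eq] at h0
        obtain ⟨t, ht⟩ := h0
        obtain ⟨c, hc, hcd⟩ := (hρ ⟨P.asIdeal.comap (algebraMap C' B), inferInstance⟩
          (fun h => hP (Ideal.map_le_iff_le_comap.2 h))).1 ((t : C') • d) (by
            rw [map_smul]; simpa [Submonoid.smul_def] using ht)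
        refine ⟨algebraMap C' B (c * t), fun h => ?_, ?_⟩
        · rw [map_mul] at h
          exact (P.isPrime.mem_or_mem h).elim hc (hunit P t)
        · rw [algebraMap_smul, LocalizedModule.smul'_mk, mul_smul, hcd, LocalizedModule.zero_mk]
    · obtain ⟨y, hy⟩ := y
      induction y using LocalizedModule.induction_on with
      | _ z s =>
        have h0 : LocalizedModule.mk (u z) s = (0 : LocalizedModule S E1) := by
          simpa [K0, uB, LocalizedModule.map_mk] using hy
        rw [← LocalizedModule.zero_mk (1 : S), LocalizedModule.mk_eq] at h0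
        obtain ⟨t, ht⟩ := h0
        obtain ⟨c, hc, d, hd⟩ := (hρ ⟨P.asIdeal.comap (algebraMap C' B), inferInstance⟩
          (fun h => hP (Ideal.map_le_iff_le_comap.2 h))).2 ((t : C') • z) (by
            rw [map_smul]; simpa [Submonoid.smul_def] using ht)
        refine ⟨algebraMap C' B (c * t), fun h => ?_, LocalizedModule.mk d s, Subtype.ext ?_⟩
        · rw [map_mul] at h
          exact (P.isPrime.mem_or_mem h).elim hc (hunit P t)
        · show LocalizedModule.map S ρ (LocalizedModule.mk d s) = algebraMap C' B (c * t) • LocalizedModule.mk z s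
          rw [LocalizedModule.map_mk, hd, algebraMap_smul, LocalizedModule.smul'_mk, mul_smul]
  -- the closed fibre
  let k := D ⧸ maximalIdeal D
  let eD : EGA4.FibLocMod D C' q' D1 ≃ₗ[B] K0 ⊗[D] k :=
    Submodule.Quotient.equiv _ _ (LinearEquiv.ofBijective φ hbij) (by
      rw [Submodule.map_smul'', Submodule.map_top, LinearEquiv.range, hm]) ≪≫ₗ
    FlatOff.quotEquiv (B := B) K0 (maximalIdeal D)
  have hG' : FlatCA.FlatAt D q' G ↔ Module.Flat D (LocalizedModule S G) := Iff.rfl
  refine ⟨fun hS => hG'.2 ?_, fun hS' hflat => ?_⟩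
  · haveI : Module.Finite B (K0 ⊗[D] k) := finite_tensor (A := D) k
    have hSB : _root_.LocCoh.HasSk 2 B (K0 ⊗[D] k) := by
      haveI : Module.Finite B (EGA4.FibLocMod D C' q' D1) := Module.Finite.equiv eD.symm
      exact (EGA43.FibDepth.hasSk_congr eD 2).1
        ((EGA43.FibDepth.hasSk_of_surjective_iff (S := EGA4.FibLocRing D C' q') Ideal.Quotient.mk_surjective 2).2 hS)
    let H := LinearMap.range uB
    let u' : LocalizedModule S E0 →ₗ[B] H := uB.rangeRestrict
    have hu' : Surjective u' := uB.surjective_rangeRestrict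
    have hfu' : Exact K0.subtype u' := fun x =>
      Iff.trans ⟨fun h => congrArg Subtype.val h, fun h => Subtype.ext h⟩ (hexK x)
    have hHv : Exact H.subtype vB := fun x => ((LocalizedModule.map_exact S u v huv) x).trans
        ⟨fun ⟨y, hy⟩ => ⟨⟨x, y, hy⟩, rfl⟩, fun ⟨⟨z, y, hy⟩, hz⟩ => ⟨y, hy.trans hz⟩⟩
    haveI : Module.Finite B (LocalizedModule S E1) := inferInstance
    let fT := AlgebraTensorModule.rTensor D k K0.subtype
    let u'T := AlgebraTensorModule.rTensor D k u'
    let sT := AlgebraTensorModule.rTensor D k H.subtype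
    have hex : Exact fT u'T := rTensor_exact (f := K0.subtype.restrictScalars D) (g := u'.restrictScalars D) k hfu' hu'
    have hsu : ∀ x, sT (u'T x) = uT D uB k x := fun x => by
      rw [← LinearMap.comp_apply, ← AlgebraTensorModule.rTensor_comp]
      rfl
    let N := MW D uB k
    haveI : Module.Finite B (LocalizedModule S E0 ⊗[D] k) := finite_tensor (A := D) k
    haveI : Module.Finite B (LocalizedModule S E1 ⊗[D] k) := finite_tensor (A := D) k
    let ι : K0 ⊗[D] k →ₗ[B] N := fT.codRestrict _ fun x => by
      rw [LinearMap.mem_ker, ← hsu, (hex _).2 ⟨x, rfl⟩, map_zero]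
    have hGB : ∀ P : PrimeSpectrum B, ¬ JB ≤ P.asIdeal → FlatCA.FlatAt D P.asIdeal (LocalizedModule S G) := by
      intro P hP
      let r := P.asIdeal.under C'
      haveI : Module.Flat D (LocalizedModule r.primeCompl G) :=
        hG ⟨r, inferInstance⟩ fun h => hP (Ideal.map_le_iff_le_comap.2 h)
      let g : G →ₗ[C'] LocalizedModule P.asIdeal.primeCompl (LocalizedModule S G) :=
        ((LocalizedModule.mkLinearMap P.asIdeal.primeCompl _).restrictScalars C').comp (LocalizedModule.mkLinearMap S G)
      haveI : IsLocalization.AtPrime (Localization.AtPrime P.asIdeal) r :=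
        IsLocalization.isLocalization_isLocalization_atPrime_isLocalization S (Localization.AtPrime P.asIdeal) P.asIdeal
      haveI : IsLocalizedModule r.primeCompl g := by
        rw [isLocalizedModule_iff_isBaseChange r.primeCompl (Localization.AtPrime P.asIdeal)]
        exact (IsLocalizedModule.isBaseChange S B (LocalizedModule.mkLinearMap S G)).comp
          (IsLocalizedModule.isBaseChange P.asIdeal.primeCompl (Localization.AtPrime P.asIdeal)
            (LocalizedModule.mkLinearMap P.asIdeal.primeCompl _))
      exact Module.Flat.of_linearEquiv ((IsLocalizedModule.iso r.primeCompl g).symm.restrictScalars D)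
    have hN : 2 ≤ _root_.LocCoh.idealDepth JB N :=
      (idealDepth_of_exact JB N.subtype (uT D uB k) Subtype.val_injective (LinearMap.exact_subtype_ker_map _)).2
        ((hfree E0).1.trans (CAlgH3.idealDepth_congr JB (FlatOff.quotEquiv (B := B) (LocalizedModule S E0) (maximalIdeal D))).le)
        (le_trans (by norm_num) ((hfree E1).1.trans
          (CAlgH3.idealDepth_congr JB (FlatOff.quotEquiv (B := B) (LocalizedModule S E1) (maximalIdeal D))).le))
    have hcok : ∀ P : PrimeSpectrum B, ¬ JB ≤ P.asIdeal → ∀ x : N, ∃ s ∉ P.asIdeal, s • x ∈ LinearMap.range ι := by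
      intro P hP x
      obtain ⟨s, hs, h⟩ := FourTerm.exists_smul_eq_zero_rTensor P.asIdeal H.subtype vB Subtype.val_injective
        (LocalizedModule.map_surjective S v hv) hHv (hGB P hP) (u'T x.1) (by
          show sT (u'T x.1) = 0
          rw [hsu]; exact LinearMap.mem_ker.1 x.2)
      obtain ⟨y, hy⟩ := (hex (s • x.1)).1 (by rw [map_smul, h])
      exact ⟨s, hs, y, Subtype.ext hy⟩
    have hι : Bijective ι := by
      refine ValDepth.bijective_of_hasSk JB ι ?_ hSB hN hcok
      refine SkInjective.injective_of_hasSk JB ι hSB (le_trans (by norm_num) hN) (fun P hP x hx => ?_) hcok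
        fun P hP hP0 x => ?_
      · exact FourTerm.exists_smul_eq_zero_rTensor P.asIdeal K0.subtype u' Subtype.val_injective hu' hfu'
          (FourTerm.flatAt_kernel P.asIdeal H.subtype vB Subtype.val_injective (LocalizedModule.map_surjective S v hv) hHv
            (hGB P hP)) x (congrArg Subtype.val hx)
      · by_cases hmP : (maximalIdeal D).map (algebraMap D B) ≤ P.asIdeal
        · refine smul_eq_zero_of_fibre_injective uB P.asIdeal (fun y hy => ?_) hmP x
          obtain ⟨s, hs, h⟩ := hP0 ⟨y, hy⟩
          exact ⟨s, hs, congrArg Subtype.val h⟩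
        · rw [Ideal.map_le_iff_le_comap, SetLike.not_le_iff_exists] at hmP
          obtain ⟨r, hr, hrP⟩ := hmP
          refine ⟨algebraMap D B r, hrP, ?_⟩
          rw [algebraMap_smul]
          induction x with
          | zero => exact smul_zero r
          | add a b ha hb => rw [smul_add, ha, hb, add_zero]
          | tmul a b =>
            obtain ⟨b, rfl⟩ := Submodule.Quotient.mk_surjective _ b
            rw [← TensorProduct.tmul_smul, ← Submodule.Quotient.mk_smul, smul_eq_mul,
              (Submodule.Quotient.mk_eq_zero _).2 (Ideal.mul_mem_right b _ hr), TensorProduct.tmul_zero]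
    refine (FourTerm.main (A := D) JB K0.subtype uB vB Subtype.val_injective hexK (LocalizedModule.map_exact S u v huv)
      (LocalizedModule.map_surjective S v hv) hGB (hfree E0).1 (le_trans (by norm_num) (hfree E1).1)).1.1 ?_
    let eK : EGA4.FibMod D B K0 ≃ₗ[B] (K0 ⊗[D] k) := FlatOff.quotEquiv (B := B) K0 (maximalIdeal D)
    exact (hN.trans (CAlgH3.idealDepth_congr JB (LinearEquiv.ofBijective ι hι)).ge).trans
      (CAlgH3.idealDepth_congr (M := EGA4.FibMod D B K0) (N := K0 ⊗[D] k) JB eK).ge
  · haveI : Module.Flat D (LocalizedModule S G) := hG'.1 hflat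
    let H := LinearMap.range uB
    let u' : LocalizedModule S E0 →ₗ[B] H := uB.rangeRestrict
    have hfu' : Exact K0.subtype u' := fun x =>
      Iff.trans ⟨fun h => congrArg Subtype.val h, fun h => Subtype.ext h⟩ (hexK x)
    have hHv : Exact H.subtype vB := fun x => ((LocalizedModule.map_exact S u v huv) x).trans
        ⟨fun ⟨y, hy⟩ => ⟨⟨x, y, hy⟩, rfl⟩, fun ⟨⟨z, y, hy⟩, hz⟩ => ⟨y, hy.trans hz⟩⟩
    haveI : Module.Flat D H := FourTerm.flat_of_kernel (R := D) (P := H) (H.subtype.restrictScalars D)
      (vB.restrictScalars D) Subtype.val_injective (LocalizedModule.map_surjective S v hv) hHv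
    haveI : Module.Flat D K0 := FourTerm.flat_of_kernel (R := D) (P := K0) (T := H) (K0.subtype.restrictScalars D)
      (u'.restrictScalars D) Subtype.val_injective uB.surjective_rangeRestrict hfu'
    refine ⟨Module.Flat.of_linearEquiv ((LinearEquiv.ofBijective φ hbij).restrictScalars D), ?_⟩
    haveI : Nontrivial (B ⧸ K) := Ideal.Quotient.nontrivial_iff.2 (by
      rw [hK]; exact ne_top_of_le_ne_top (maximalIdeal.isMaximal B).ne_top (IsLocalRing.map_maximalIdeal_le (algebraMap D B)))
    haveI : Module.Free B (LocalizedModule S E0) := Module.free_of_isLocalizedModule S (LocalizedModule.mkLinearMap S _)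
    haveI : Module.Free B (LocalizedModule S E1) := Module.free_of_isLocalizedModule S (LocalizedModule.mkLinearMap S _)
    have h := ClosedFibre.hasSk_two (A := D) K hK hS' K0.subtype uB vB Subtype.val_injective hexK
      (LocalizedModule.map_exact S u v huv) (LocalizedModule.map_surjective S v hv)
    let e : (K0 ⧸ (K • (⊤ : Submodule B K0))) ≃ₗ[B] EGA4.FibLocMod D C' q' D1 :=
      (Submodule.Quotient.equiv _ _ (LinearEquiv.ofBijective φ hbij) (by
        rw [Submodule.map_smul'', Submodule.map_top, LinearEquiv.range])).symm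
    exact (EGA43.FibDepth.hasSk_congr (e.extendScalarsOfSurjective Ideal.Quotient.mk_surjective) 2).1 h

end Groth.Agent.CAlg15.UnivCrit
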