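import Groth.Agent.CAlg15.FourTermH2
import Groth.Agent.CAlg15.BidualKer

/-! Depth from Serre's condition on a submodule with small cokernel; lifting of depth from a closed fibre. -/

set_option autoImplicit false
set_option linter.style.haveILetI false

universe u

open TensorProduct IsLocalRing RingTheory.Sequence Function
open scoped Pointwise

namespace Groth.Agent.CAlg15.ValDepth

section Dim

variable {L : Type u} [CommRing L] [IsNoetherianRing L] [IsLocalRing L] {M N : Type u}
  [AddCommGroup M] [Module L M] [Module.Finite L M] [AddCommGroup N] [Module L N] [Module.Finite L N]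

theorem surjective_of_small_coker (ι : M →ₗ[L] N) (hι : Injective ι)
    (hS : min (2 : WithBot ℕ∞) (Module.supportDim L M) ≤ ((_root_.LocCoh.depth L M : ℕ∞) : WithBot ℕ∞))
    (hN : 2 ≤ _root_.LocCoh.depth L N)
    (hcok : ∀ q : PrimeSpectrum L, ¬ maximalIdeal L ≤ q.asIdeal → ∀ y : N, ∃ s ∉ q.asIdeal, s • y ∈ LinearMap.range ι) :
    Surjective ι := by
  by_contra hne
  haveI : Nontrivial N := by
    by_contra h
    rw [not_nontrivial_iff_subsingleton] at h
    exact hne fun y => ⟨0, Subsingleton.elim _ _⟩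
  have hdimN : (2 : WithBot ℕ∞) ≤ Module.supportDim L N :=
    (WithBot.coe_le_coe.2 hN).trans CAlgH3.depth_le_supportDim
  have hM : Nontrivial M := by
    by_contra h
    rw [not_nontrivial_iff_subsingleton] at h
    haveI : Subsingleton (_root_.LocCoh.H (maximalIdeal L) 0 N) :=
      (LocCoh.natCast_le_idealDepth_iff_H (maximalIdeal L) N 2).1 hN 0 (by norm_num)
    refine hne fun y => ⟨0, ?_⟩
    rw [map_zero]
    refine (FourTermH2.eq_zero_of_torsion (J := maximalIdeal L) (FourTermH2.isPowerTorsion_of_off fun z q hq => ?_) y).symm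
    obtain ⟨s, hs, x, hx⟩ := hcok q hq z
    exact ⟨s, hs, by rw [← hx, Subsingleton.elim x 0, map_zero]⟩
  have hsub : Module.support L N ⊆ Module.support L M := by
    intro q hq
    by_cases hm : maximalIdeal L ≤ q.asIdeal
    · have hq' : q = ⟨maximalIdeal L, inferInstance⟩ :=
        PrimeSpectrum.ext ((maximalIdeal.isMaximal L).eq_of_le q.isPrime.ne_top hm).symm
      rw [hq']
      exact IsLocalRing.closedPoint_mem_support L M
    · obtain ⟨y, hy⟩ := Module.mem_support_iff'.1 hq
      obtain ⟨s, hs, x, hx⟩ := hcok q hm y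
      refine Module.mem_support_iff'.2 ⟨x, fun r hr h => hy (r * s) (fun h' => (q.isPrime.mem_or_mem h').elim hr hs) ?_⟩
      rw [mul_smul, ← hx, ← map_smul, h, map_zero]
  have hdimM : (2 : WithBot ℕ∞) ≤ Module.supportDim L M := hdimN.trans
    (Order.krullDim_le_of_strictMono (fun q : Module.support L N => (⟨q.1, hsub q.2⟩ : Module.support L M))
      fun _ _ h => h)
  have hdepth : 2 ≤ _root_.LocCoh.depth L M :=
    WithBot.coe_le_coe.1 ((le_min le_rfl hdimM).trans hS)
  exact hne (BidualKer.bijective_of_off (J := maximalIdeal L) ι hdepth (le_trans (by norm_num) hN)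
    (fun x hx q hq => ⟨1, fun h => q.isPrime.ne_top ((Ideal.eq_top_iff_one _).2 h), by
      rw [one_smul]; exact hι (hx.trans (map_zero ι).symm)⟩)
    fun y q hq => hcok q hq y).2

end Dim

section Glob

variable {B : Type u} [CommRing B] [IsNoetherianRing B] (J : Ideal B) {M N : Type u}
  [AddCommGroup M] [Module B M] [Module.Finite B M] [AddCommGroup N] [Module B N] [Module.Finite B N]

/-- A submodule satisfying `(S₂)` of a module of depth two with cokernel supported in `V(J)` is everything. -/
theorem bijective_of_hasSk (ι : M →ₗ[B] N) (hι : Injective ι) (hS : _root_.LocCoh.HasSk 2 B M)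
    (hN : 2 ≤ _root_.LocCoh.idealDepth J N)
    (hcok : ∀ q : PrimeSpectrum B, ¬ J ≤ q.asIdeal → ∀ y : N, ∃ s ∉ q.asIdeal, s • y ∈ LinearMap.range ι) :
    Bijective ι := by
  refine ⟨hι, fun y => ?_⟩
  by_contra hy
  have hne : (Module.support B (N ⧸ LinearMap.range ι)).Nonempty := by
    rw [Set.nonempty_iff_ne_empty, ne_eq, Module.support_eq_empty_iff, ← not_nontrivial_iff_subsingleton, not_not]
    exact ⟨⟨Submodule.Quotient.mk y, 0, fun h => hy ((Submodule.Quotient.mk_eq_zero _).1 h)⟩⟩
  obtain ⟨p, hp, hmin⟩ := WellFounded.has_min (InvImage.wf (fun q : PrimeSpectrum B => q.asIdeal.height) wellFounded_lt) _ hne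
  have hJp : J ≤ p.asIdeal := by
    by_contra h
    obtain ⟨z, hz⟩ := Module.mem_support_iff'.1 hp
    obtain ⟨z, rfl⟩ := Submodule.Quotient.mk_surjective _ z
    obtain ⟨s, hs, hsz⟩ := hcok p h z
    exact hz s hs (by rw [← Submodule.Quotient.mk_smul, Submodule.Quotient.mk_eq_zero]; exact hsz)
  let L := Localization.AtPrime p.asIdeal
  let S := p.asIdeal.primeCompl
  let ιp := LocalizedModule.map S ι
  haveI : Module.Finite L (LocalizedModule S M) := Module.Finite.of_isLocalizedModule S (LocalizedModule.mkLinearMap S M)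
  haveI : Module.Finite L (LocalizedModule S N) := Module.Finite.of_isLocalizedModule S (LocalizedModule.mkLinearMap S N)
  have hsurj : Surjective ιp := by
    refine surjective_of_small_coker ιp (LocalizedModule.map_injective S ι hι) (hS p.asIdeal)
      ((le_idealDepth_iff J N 2).1 hN p hJp) fun q hq w => ?_
    obtain ⟨⟨z, t⟩, hz⟩ := IsLocalizedModule.surj S (LocalizedModule.mkLinearMap S N) w
    let r : PrimeSpectrum B := ⟨q.asIdeal.comap (algebraMap B L), inferInstance⟩
    have hrp : r < p := by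
      refine lt_of_le_of_ne ?_ fun e => hq ?_
      · exact (IsLocalization.AtPrime.orderIsoOfPrime L p.asIdeal ⟨q.asIdeal, q.2⟩).2.2
      · rw [← Localization.AtPrime.map_eq_maximalIdeal, Ideal.map_le_iff_le_comap]
        exact (congrArg PrimeSpectrum.asIdeal e).ge
    obtain ⟨s, hs, hsz⟩ : ∃ s ∉ r.asIdeal, s • z ∈ LinearMap.range ι := by
      by_contra h
      push Not at h
      exact hmin r (Module.mem_support_iff'.2 ⟨Submodule.Quotient.mk z, fun s hs h0 => h s hs (by
        rwa [← Submodule.Quotient.mk_smul, Submodule.Quotient.mk_eq_zero] at h0)⟩)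
        (Ideal.height_strict_mono_of_isPrime hrp)
    obtain ⟨x, hx⟩ := hsz
    refine ⟨algebraMap B L (s * t), fun h => ?_, LocalizedModule.mkLinearMap S M x, ?_⟩
    · rw [map_mul] at h
      exact (q.isPrime.mem_or_mem h).elim hs fun h => q.isPrime.ne_top
        (Ideal.eq_top_of_isUnit_mem _ h (IsLocalization.map_units L t))
    · rw [algebraMap_smul, mul_smul, show (t : B) • w = LocalizedModule.mkLinearMap S N z from hz, ← map_smul, ← hx]
      simp [ιp, LocalizedModule.mkLinearMap_apply, LocalizedModule.map_mk]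
  obtain ⟨z, hz⟩ := Module.mem_support_iff'.1 hp
  obtain ⟨z, rfl⟩ := Submodule.Quotient.mk_surjective _ z
  obtain ⟨w, hw⟩ := hsurj (LocalizedModule.mkLinearMap S N z)
  obtain ⟨⟨x, t⟩, hx⟩ := IsLocalizedModule.surj S (LocalizedModule.mkLinearMap S M) w
  have h1 : LocalizedModule.mkLinearMap S N (ι x) = LocalizedModule.mkLinearMap S N ((t : B) • z) := by
    rw [map_smul, ← hw, ← LinearMap.map_smul_of_tower ιp (t : B) w, show (t : B) • w = LocalizedModule.mkLinearMap S M x from hx]
    simp [ιp, LocalizedModule.mkLinearMap_apply, LocalizedModule.map_mk]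
  obtain ⟨c, hc⟩ := IsLocalizedModule.exists_of_eq (S := S) h1
  refine hz ((c : B) * t) (S.mul_mem c.2 t.2) ?_
  rw [← Submodule.Quotient.mk_smul, Submodule.Quotient.mk_eq_zero, mul_smul,
    ← show (c : B) • ι x = (c : B) • ((t : B) • z) from hc, ← map_smul]
  exact ⟨_, rfl⟩

end Glob

section Lift

variable {A B : Type u} [CommRing A] [CommRing B] [IsNoetherianRing A] [IsNoetherianRing B] [IsLocalRing A]
  [IsLocalRing B] [Algebra A B] [IsLocalHom (algebraMap A B)] (J : Ideal B) {E : Type u} [AddCommGroup E] [Module B E]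
  [Module A E] [IsScalarTower A B E] [Module.Finite B E] [Module.Flat A E]

/-- Depth two on the closed fibre of a flat module lifts. -/
theorem le_idealDepth_of_fibMod (h : 2 ≤ _root_.LocCoh.idealDepth J (EGA4.FibMod A B E)) :
    2 ≤ _root_.LocCoh.idealDepth J E := by
  obtain ⟨l, hl, hm, hw⟩ := FlatOff.exists_list_of_le_idealDepth J 2 (by simpa using h)
  obtain ⟨a, b, rfl⟩ := List.length_eq_two.1 hl
  have hpow : ∀ n : ℕ, IsWeaklyRegular (E ⧸ ((EGA4.mB A B) ^ n • (⊤ : Submodule B E))) [a, b] := fun n => by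
    have h1 := FlatOff.regular_and_injective J E (fun q _ => flat_localizedModule q.asIdeal.primeCompl) (hm a (by simp)) hw n
      (N := A ⧸ maximalIdeal A ^ n) (fun r hr x => by
        obtain ⟨x, rfl⟩ := Submodule.Quotient.mk_surjective _ x
        rw [← Submodule.Quotient.mk_smul, Submodule.Quotient.mk_eq_zero]
        exact Ideal.mul_mem_right _ _ hr)
    refine (LinearEquiv.isWeaklyRegular_congr ?_ _).2 h1
    exact (Submodule.quotEquivOfEq _ _ (by rw [Ideal.map_pow])).trans (FlatOff.quotEquiv (B := B) E (maximalIdeal A ^ n))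
  have hmB : EGA4.mB A B ≠ ⊤ :=
    ne_top_of_le_ne_top (maximalIdeal.isMaximal B).ne_top (IsLocalRing.map_maximalIdeal_le (algebraMap A B))
  have ha : IsSMulRegular E a := by
    refine IsSMulRegular.of_right_eq_zero_of_smul fun x hx => ?_
    rw [← Submodule.mem_bot B, ← Ideal.iInf_pow_smul_eq_bot_of_isLocalRing (R := B) (M := E) _ hmB, Submodule.mem_iInf]
    intro n
    rw [← Submodule.Quotient.mk_eq_zero]
    exact ((isWeaklyRegular_cons_iff _ a [b]).1 (hpow n)).1.right_eq_zero_of_smul (by
      rw [← Submodule.Quotient.mk_smul, hx, Submodule.Quotient.mk_zero])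
  have hb : IsSMulRegular (QuotSMulTop a E) b := by
    refine IsSMulRegular.of_right_eq_zero_of_smul fun x hx => ?_
    haveI : Module.Finite B (QuotSMulTop a E) := inferInstance
    rw [← Submodule.mem_bot B, ← Ideal.iInf_pow_smul_eq_bot_of_isLocalRing (R := B) (M := QuotSMulTop a E) _ hmB,
      Submodule.mem_iInf]
    intro n
    obtain ⟨x, rfl⟩ := Submodule.Quotient.mk_surjective _ x
    rw [← Submodule.Quotient.mk_smul, Submodule.Quotient.mk_eq_zero, Submodule.mem_smul_pointwise_iff_exists] at hx
    obtain ⟨y, -, hy⟩ := hx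
    let π := (EGA4.mB A B ^ n • (⊤ : Submodule B E)).mkQ
    have h2 := (isWeaklyRegular_cons_iff _ b []).1 ((isWeaklyRegular_cons_iff _ a [b]).1 (hpow n)).2
    have h3 : π x ∈ a • (⊤ : Submodule B (E ⧸ EGA4.mB A B ^ n • (⊤ : Submodule B E))) := by
      rw [← Submodule.Quotient.mk_eq_zero]
      refine h2.1.right_eq_zero_of_smul ?_
      rw [← Submodule.Quotient.mk_smul, Submodule.Quotient.mk_eq_zero, ← map_smul, ← hy, map_smul]
      exact Submodule.smul_mem_pointwise_smul _ _ _ trivial
    obtain ⟨z, -, hz⟩ := (Submodule.mem_smul_pointwise_iff_exists _ _ _).1 h3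
    obtain ⟨z, rfl⟩ := Submodule.mkQ_surjective _ z
    have h4 : x - a • z ∈ EGA4.mB A B ^ n • (⊤ : Submodule B E) :=
      (Submodule.Quotient.eq _).1 (hz.symm.trans (map_smul π a z).symm)
    have h5 := Submodule.mem_map_of_mem (f := (a • (⊤ : Submodule B E)).mkQ) h4
    rw [Submodule.map_smul'', map_sub,
      show (a • (⊤ : Submodule B E)).mkQ (a • z) = 0 from
        (Submodule.Quotient.mk_eq_zero _).2 (Submodule.smul_mem_pointwise_smul _ _ _ trivial), sub_zero] at h5
    exact Submodule.smul_mono le_rfl le_top h5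
  exact FlatOff.le_idealDepth_of_list (fs := [a, b]) J hm
    ((isWeaklyRegular_cons_iff _ a [b]).2 ⟨ha, (isWeaklyRegular_cons_iff _ b []).2 ⟨hb, IsWeaklyRegular.nil _ _⟩⟩)

end Lift

end Groth.Agent.CAlg15.ValDepth
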