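import Groth.Agent.CAlg15.InfCrit
import Groth.Agent.CAlg15.ValDepth
import Groth.Agent.EGA43.FibDepth.LociLocal

/-! The base change to a discrete valuation ring in the valuative criterion. -/

set_option autoImplicit false
set_option linter.style.haveILetI false

universe u

open TensorProduct IsLocalRing Function

namespace Groth.Agent.CAlg15.ValCrit

open FourTermH2

section Bidual

variable {C : Type u} [CommRing C] [IsNoetherianRing C] (C' : Type u) [CommRing C'] [IsNoetherianRing C'] [Algebra C C']

/-- The double dual of a base change maps onto the kernel of the base changed presentation off `J`. -/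
theorem exists_bidual_map (J : Ideal C) (F E0 E1 G : Type u)
    [AddCommGroup F] [Module C F] [Module.Finite C F]
    [AddCommGroup E0] [Module C E0] [Module.Finite C E0] [Module.Free C E0]
    [AddCommGroup E1] [Module C E1] [Module.Finite C E1] [Module.Free C E1]
    [AddCommGroup G] [Module C G]
    (f : F →ₗ[C] E0) (u : E0 →ₗ[C] E1) (v : E1 →ₗ[C] G)
    (hf : Injective f) (hfu : Exact f u) (huv : Exact u v) (hv : Surjective v)
    (hFU : ∀ q : PrimeSpectrum C, ¬ J ≤ q.asIdeal → Module.Free (Localization.AtPrime q.asIdeal) (LocalizedModule q.asIdeal.primeCompl F))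
    (hGU : ∀ q : PrimeSpectrum C, ¬ J ≤ q.asIdeal → Module.Free (Localization.AtPrime q.asIdeal) (LocalizedModule q.asIdeal.primeCompl G)) :
    ∃ ρ : Module.Dual C' (Module.Dual C' (C' ⊗[C] F)) →ₗ[C'] C' ⊗[C] E0,
      (∀ d, u.baseChange C' (ρ d) = 0) ∧
      ∀ r : PrimeSpectrum C', ¬ J.map (algebraMap C C') ≤ r.asIdeal →
        (∀ d, ρ d = 0 → ∃ c ∉ r.asIdeal, c • d = 0) ∧
        ∀ y, u.baseChange C' y = 0 → ∃ c ∉ r.asIdeal, ∃ d, ρ d = c • y := by
  let D1 := Module.Dual C' (Module.Dual C' (C' ⊗[C] F))
  let f' := f.baseChange C'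
  let u' := u.baseChange C'
  let ev := Module.Dual.eval C' (C' ⊗[C] F)
  let ρ : D1 →ₗ[C'] C' ⊗[C] E0 := (Module.evalEquiv C' (C' ⊗[C] E0)).symm.toLinearMap ∘ₗ f'.dualMap.dualMap
  have huf : ∀ z, u' (f' z) = 0 := fun z => by
    induction z with
    | zero => simp
    | add a b ha hb => rw [map_add, map_add, ha, hb, add_zero]
    | tmul a b => simp [u', f', hfu.apply_apply_eq_zero]
  have hρev : ∀ z, ρ (ev z) = f' z := fun z => (Module.evalEquiv C' (C' ⊗[C] E0)).symm_apply_apply (f' z)
  have huρ : ∀ d, u' (ρ d) = 0 := fun d => (Module.evalEquiv C' (C' ⊗[C] E1)).injective (by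
    rw [map_zero]
    refine LinearMap.ext fun φ => ?_
    show φ (u' (ρ d)) = 0
    simp only [ρ, LinearMap.comp_apply, LinearEquiv.coe_coe]
    rw [show φ (u' ((Module.evalEquiv C' (C' ⊗[C] E0)).symm (f'.dualMap.dualMap d))) =
      (φ ∘ₗ u') ((Module.evalEquiv C' (C' ⊗[C] E0)).symm (f'.dualMap.dualMap d)) from rfl,
      Module.apply_evalEquiv_symm_apply]
    show d ((φ ∘ₗ u') ∘ₗ f') = 0
    rw [show (φ ∘ₗ u') ∘ₗ f' = 0 from LinearMap.ext fun z => by simp [huf], map_zero])
  refine ⟨ρ, huρ, fun r' hr' => ?_⟩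
  let r : PrimeSpectrum C := ⟨r'.asIdeal.comap (algebraMap C C'), inferInstance⟩
  have hr : ¬ J ≤ r.asIdeal := fun h => hr' (Ideal.map_le_iff_le_comap.2 h)
  obtain ⟨c, hc, s, h1, h2⟩ := invOff_eval (J := J.map (algebraMap C C')) (M := C' ⊗[C] F) (fun q hq => by
    haveI := hFU ⟨q.asIdeal.comap (algebraMap C C'), inferInstance⟩ fun h => hq (Ideal.map_le_iff_le_comap.2 h)
    exact free_localized_baseChange (B := C) (M := F) C' q.asIdeal) r' hr'
  have hGflat : FlatCA.FlatAt C r.asIdeal G := by
    haveI := hGU r hr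
    exact Module.Flat.trans C (Localization.AtPrime r.asIdeal) _
  obtain ⟨hk, hco⟩ := BidualKer.exists_smul_baseChange f u v hf hfu huv hv r.asIdeal hGflat C'
  refine ⟨fun d hd => ?_, fun y hy => ?_⟩
  · have hz : ev (s d) = c • d := LinearMap.congr_fun h1 d
    obtain ⟨c', hc', hz'⟩ := hk (s d) (by
      show f' (s d) = 0
      rw [← hρev, hz, map_smul, hd, smul_zero])
    refine ⟨algebraMap C C' c' * c, fun h => (r'.isPrime.mem_or_mem h).elim hc' hc, ?_⟩
    rw [mul_smul, ← hz, ← map_smul, algebraMap_smul, hz', map_zero]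
  · obtain ⟨c', hc', z, hz⟩ := hco y hy
    refine ⟨algebraMap C C' c', hc', ev z, ?_⟩
    rw [hρev, algebraMap_smul]
    exact hz

end Bidual

section Base

variable {D C' : Type u} [CommRing D] [CommRing C'] [Algebra D C'] [IsNoetherianRing C']
  [IsDomain D] [IsDiscreteValuationRing D] [Module.Flat D C']

theorem flat_of_le {Q : Type u} [AddCommGroup Q] [Module D Q] [Module.Flat D Q] (H : Type u) [AddCommGroup H]
    [Module D H] (ι : H →ₗ[D] Q) (hι : Injective ι) : Module.Flat D H := by
  haveI : Module.IsTorsionFree D Q := Submodule.isTorsionFree_iff_torsion_eq_bot.2 Module.Flat.torsion_eq_bot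
  haveI : Module.IsTorsionFree D H := hι.moduleIsTorsionFree ι (fun r m => map_smul ι r m)
  infer_instance

set_option maxHeartbeats 3200000 in
/-- Over a discrete valuation ring, `S₂` of the closed fibre of the double dual forces a flat cokernel. -/
theorem flatAt_coker (J : Ideal C') (q' : Ideal C') [q'.IsPrime] (hm : q'.comap (algebraMap D C') = maximalIdeal D)
    (h0 : 2 ≤ _root_.LocCoh.idealDepth (J.map (algebraMap C' (Localization.AtPrime q')))
      (EGA4.FibLocMod D C' q' C'))
    (D1 : Type u) [AddCommGroup D1] [Module C' D1] [Module.Finite C' D1]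
    (hD1 : ∃ (a b : ℕ) (g : D1 →ₗ[C'] (Fin a → C')) (h : (Fin a → C') →ₗ[C'] (Fin b → C')), Injective g ∧ Exact g h)
    (hS : _root_.LocCoh.HasSk 2 (EGA4.FibLocRing D C' q') (EGA4.FibLocMod D C' q' D1))
    (E0 E1 G : Type u) [AddCommGroup E0] [Module C' E0] [Module.Finite C' E0] [Module.Free C' E0]
    [AddCommGroup E1] [Module C' E1] [Module.Finite C' E1] [Module.Free C' E1]
    [AddCommGroup G] [Module C' G] [Module D G] [IsScalarTower D C' G]
    (u : E0 →ₗ[C'] E1) (v : E1 →ₗ[C'] G) (huv : Exact u v) (hv : Surjective v)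
    (ρ : D1 →ₗ[C'] E0) (huρ : ∀ d, u (ρ d) = 0)
    (hρ : ∀ r : PrimeSpectrum C', ¬ J ≤ r.asIdeal →
        (∀ d, ρ d = 0 → ∃ c ∉ r.asIdeal, c • d = 0) ∧ ∀ y, u y = 0 → ∃ c ∉ r.asIdeal, ∃ d, ρ d = c • y)
    (hG : ∀ r : PrimeSpectrum C', ¬ J ≤ r.asIdeal → FlatCA.FlatAt D r.asIdeal G) :
    FlatCA.FlatAt D q' G := by
  let S := q'.primeCompl
  let B := Localization.AtPrime q'
  haveI : IsLocalHom (algebraMap D B) := ((IsLocalRing.local_hom_TFAE (algebraMap D B)).out 0 2 rfl rfl).2 (by
    rw [IsScalarTower.algebraMap_eq D C' B, ← Ideal.map_map, ← Localization.AtPrime.map_eq_maximalIdeal]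
    exact Ideal.map_mono (Ideal.map_le_iff_le_comap.2 hm.ge))
  let K := (q'.comap (algebraMap D C')).map (algebraMap D B)
  have hK : K = EGA4.mB D B := by simp only [K, hm]
  let JB := J.map (algebraMap C' B)
  have h0B : 2 ≤ _root_.LocCoh.idealDepth JB (EGA4.FibMod D B B) := by
    refine le_of_le_of_eq h0 (CAlgH3.idealDepth_congr JB (Submodule.quotEquivOfEq (K • (⊤ : Submodule B B)) _ ?_))
    rw [hK]
  letI : Module D E0 := Module.compHom E0 (algebraMap D C')
  letI : Module D E1 := Module.compHom E1 (algebraMap D C')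
  letI : Module D D1 := Module.compHom D1 (algebraMap D C')
  haveI : IsScalarTower D C' E0 := .of_algebraMap_smul fun _ _ => rfl
  haveI : IsScalarTower D C' E1 := .of_algebraMap_smul fun _ _ => rfl
  haveI : IsScalarTower D C' D1 := .of_algebraMap_smul fun _ _ => rfl
  haveI : Module.Flat D E0 := Module.Flat.trans D C' E0
  haveI : Module.Flat D E1 := Module.Flat.trans D C' E1
  haveI : Module.Flat D (LocalizedModule S E0) := flat_localizedModule S
  haveI : Module.Flat D (LocalizedModule S E1) := flat_localizedModule S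
  haveI : Module.Finite B (LocalizedModule S E0) := Module.Finite.of_isLocalizedModule S (LocalizedModule.mkLinearMap S E0)
  haveI : Module.Finite B (LocalizedModule S E1) := Module.Finite.of_isLocalizedModule S (LocalizedModule.mkLinearMap S E1)
  haveI : Module.Finite B (LocalizedModule S D1) := Module.Finite.of_isLocalizedModule S (LocalizedModule.mkLinearMap S D1)
  let uB := LocalizedModule.map S u
  let vB := LocalizedModule.map S v
  let K0 := LinearMap.ker uB
  let φ : LocalizedModule S D1 →ₗ[B] K0 := (LocalizedModule.map S ρ).codRestrict _ fun z => by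
    induction z using LocalizedModule.induction_on with
    | _ d s =>
      rw [LinearMap.mem_ker]
      show uB (LocalizedModule.map S ρ (LocalizedModule.mk d s)) = 0
      rw [LocalizedModule.map_mk, LocalizedModule.map_mk, huρ, LocalizedModule.zero_mk]
  have hfree : ∀ (E : Type u) [AddCommGroup E] [Module C' E] [Module D E] [IsScalarTower D C' E]
      [Module.Finite C' E] [Module.Free C' E],
      2 ≤ _root_.LocCoh.idealDepth JB (EGA4.FibMod D B (LocalizedModule S E)) ∧
      2 ≤ _root_.LocCoh.idealDepth JB (LocalizedModule S E) := by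
    intro E _ _ _ _ _ _
    haveI : Module.Finite B (LocalizedModule S E) := Module.Finite.of_isLocalizedModule S (LocalizedModule.mkLinearMap S E)
    haveI : Module.Flat D E := Module.Flat.trans D C' E
    haveI : Module.Flat D (LocalizedModule S E) := flat_localizedModule S
    have h := InfCrit.le_fibMod_of_flat (R := D) JB 2 h0B (LocalizedModule S E)
    exact ⟨h, ValDepth.le_idealDepth_of_fibMod (A := D) JB h⟩
  have hD : 2 ≤ _root_.LocCoh.idealDepth JB (LocalizedModule S D1) := by
    obtain ⟨a, b, g, h, hg, hgh⟩ := hD1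
    haveI : Module.Finite B (LocalizedModule S (Fin a → C')) := Module.Finite.of_isLocalizedModule S (LocalizedModule.mkLinearMap S _)
    haveI : Module.Finite B (LocalizedModule S (Fin b → C')) := Module.Finite.of_isLocalizedModule S (LocalizedModule.mkLinearMap S _)
    exact (idealDepth_of_exact JB (LocalizedModule.map S g) (LocalizedModule.map S h)
      (LocalizedModule.map_injective S g hg) (LocalizedModule.map_exact S g h hgh)).2
      (hfree (Fin a → C')).2 (le_trans (by norm_num) (hfree (Fin b → C')).2)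
  have hexK : Exact K0.subtype uB := LinearMap.exact_subtype_ker_map _
  have hK0 : 1 ≤ _root_.LocCoh.idealDepth JB K0 :=
    (idealDepth_of_exact JB K0.subtype uB Subtype.val_injective hexK).1 (le_trans (by norm_num) (hfree E0).2)
  have hunit : ∀ (P : PrimeSpectrum B) (s : S), algebraMap C' B s ∉ P.asIdeal := fun P s h =>
    P.isPrime.ne_top (Ideal.eq_top_of_isUnit_mem _ h (IsLocalization.map_units B s))
  have hbij : Bijective φ := by
    refine BidualKer.bijective_of_off (J := JB) φ hD hK0 (fun z hz P hP => ?_) fun y P hP => ?_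
    · induction z using LocalizedModule.induction_on with
      | _ d s =>
        have h0 : LocalizedModule.mk (ρ d) s = (0 : LocalizedModule S E0) := by
          have := congrArg Subtype.val hz
          simpa [φ, LocalizedModule.map_mk] using this
        rw [← LocalizedModule.zero_mk (1 : S), LocalizedModule.mk_eq] at h0
        obtain ⟨t, ht⟩ := h0
        obtain ⟨c, hc, hcd⟩ := (hρ ⟨P.asIdeal.comap (algebraMap C' B), inferInstance⟩
          (fun h => hP (Ideal.map_le_iff_le_comap.2 h))).1 ((t : C') • d) (by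
            rw [map_smul]; simpa [Submonoid.smul_def] using ht)
        refine ⟨algebraMap C' B (c * t), fun h => ?_, ?_⟩
        · rw [map_mul] at h
          exact (P.isPrime.mem_or_mem h).elim hc (hunit P t)
        · rw [algebraMap_smul, LocalizedModule.smul'_mk, mul_smul, hcd, LocalizedModule.zero_mk]
    · obtain ⟨y, hy⟩ := y
      induction y using LocalizedModule.induction_on with
      | _ z s =>
        have h0 : LocalizedModule.mk (u z) s = (0 : LocalizedModule S E1) := by
          simpa [K0, uB, LocalizedModule.map_mk] using hy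
        rw [← LocalizedModule.zero_mk (1 : S), LocalizedModule.mk_eq] at h0
        obtain ⟨t, ht⟩ := h0
        obtain ⟨c, hc, d, hd⟩ := (hρ ⟨P.asIdeal.comap (algebraMap C' B), inferInstance⟩
          (fun h => hP (Ideal.map_le_iff_le_comap.2 h))).2 ((t : C') • z) (by
            rw [map_smul]; simpa [Submonoid.smul_def] using ht)
        refine ⟨algebraMap C' B (c * t), fun h => ?_, LocalizedModule.mk d s, Subtype.ext ?_⟩
        · rw [map_mul] at h
          exact (P.isPrime.mem_or_mem h).elim hc (hunit P t)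
        · show LocalizedModule.map S ρ (LocalizedModule.mk d s) = algebraMap C' B (c * t) • LocalizedModule.mk z s
          rw [LocalizedModule.map_mk, hd, algebraMap_smul, LocalizedModule.smul'_mk, mul_smul]
  -- the closed fibre
  let k := D ⧸ maximalIdeal D
  let eD : EGA4.FibLocMod D C' q' D1 ≃ₗ[B] K0 ⊗[D] k :=
    Submodule.Quotient.equiv _ _ (LinearEquiv.ofBijective φ hbij) (by
      rw [Submodule.map_smul'', Submodule.map_top, LinearEquiv.range, hm]) ≪≫ₗ
    FlatOff.quotEquiv (B := B) K0 (maximalIdeal D)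
  haveI : Module.Finite B (K0 ⊗[D] k) := finite_tensor (A := D) k
  have hSB : _root_.LocCoh.HasSk 2 B (K0 ⊗[D] k) := by
    haveI : Module.Finite B (EGA4.FibLocMod D C' q' D1) := Module.Finite.equiv eD.symm
    exact (EGA43.FibDepth.hasSk_congr eD 2).1
      ((EGA43.FibDepth.hasSk_of_surjective_iff (S := EGA4.FibLocRing D C' q') Ideal.Quotient.mk_surjective 2).2 hS)
  let H := LinearMap.range uB
  let u' : LocalizedModule S E0 →ₗ[B] H := uB.rangeRestrict
  have hu' : Surjective u' := uB.surjective_rangeRestrict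
  have hfu' : Exact K0.subtype u' := fun x =>
    Iff.trans ⟨fun h => congrArg Subtype.val h, fun h => Subtype.ext h⟩ (hexK x)
  have hHv : Exact H.subtype vB := fun x => ((LocalizedModule.map_exact S u v huv) x).trans
      ⟨fun ⟨y, hy⟩ => ⟨⟨x, y, hy⟩, rfl⟩, fun ⟨⟨z, y, hy⟩, hz⟩ => ⟨y, hy.trans hz⟩⟩
  haveI : Module.Flat D H := flat_of_le H (H.subtype.restrictScalars D) Subtype.val_injective
  let fT := AlgebraTensorModule.rTensor D k K0.subtype
  let u'T := AlgebraTensorModule.rTensor D k u'
  let sT := AlgebraTensorModule.rTensor D k H.subtype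
  have i1 : Injective fT := (LinearMap.lTensor_inj_iff_rTensor_inj k (K0.subtype.restrictScalars D)).1
    (LinearMap.lTensor_injective_of_exact_of_flat (u'.restrictScalars D) hu' (K0.subtype.restrictScalars D)
      Subtype.val_injective hfu' k)
  have hex : Exact fT u'T := rTensor_exact (f := K0.subtype.restrictScalars D) (g := u'.restrictScalars D) k hfu' hu'
  have hsu : ∀ x, sT (u'T x) = uT D uB k x := fun x => by
    rw [← LinearMap.comp_apply, ← AlgebraTensorModule.rTensor_comp]
    rfl
  let N := MW D uB k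
  haveI : Module.Finite B (LocalizedModule S E0 ⊗[D] k) := finite_tensor (A := D) k
  haveI : Module.Finite B (LocalizedModule S E1 ⊗[D] k) := finite_tensor (A := D) k
  let ι : K0 ⊗[D] k →ₗ[B] N := fT.codRestrict _ fun x => by
    rw [LinearMap.mem_ker, ← hsu, (hex _).2 ⟨x, rfl⟩, map_zero]
  have hGB : ∀ P : PrimeSpectrum B, ¬ JB ≤ P.asIdeal → FlatCA.FlatAt D P.asIdeal (LocalizedModule S G) := by
    intro P hP
    let r := P.asIdeal.under C'
    haveI : Module.Flat D (LocalizedModule r.primeCompl G) :=
      hG ⟨r, inferInstance⟩ fun h => hP (Ideal.map_le_iff_le_comap.2 h)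
    let g : G →ₗ[C'] LocalizedModule P.asIdeal.primeCompl (LocalizedModule S G) :=
      ((LocalizedModule.mkLinearMap P.asIdeal.primeCompl _).restrictScalars C').comp (LocalizedModule.mkLinearMap S G)
    haveI : IsLocalization.AtPrime (Localization.AtPrime P.asIdeal) r :=
      IsLocalization.isLocalization_isLocalization_atPrime_isLocalization S (Localization.AtPrime P.asIdeal) P.asIdeal
    haveI : IsLocalizedModule r.primeCompl g := by
      rw [isLocalizedModule_iff_isBaseChange r.primeCompl (Localization.AtPrime P.asIdeal)]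
      exact (IsLocalizedModule.isBaseChange S B (LocalizedModule.mkLinearMap S G)).comp
        (IsLocalizedModule.isBaseChange P.asIdeal.primeCompl (Localization.AtPrime P.asIdeal)
          (LocalizedModule.mkLinearMap P.asIdeal.primeCompl _))
    exact Module.Flat.of_linearEquiv ((IsLocalizedModule.iso r.primeCompl g).symm.restrictScalars D)
  have hN : 2 ≤ _root_.LocCoh.idealDepth JB N :=
    (idealDepth_of_exact JB N.subtype (uT D uB k) Subtype.val_injective (LinearMap.exact_subtype_ker_map _)).2
      ((hfree E0).1.trans (CAlgH3.idealDepth_congr JB (FlatOff.quotEquiv (B := B) (LocalizedModule S E0) (maximalIdeal D))).le)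
      (le_trans (by norm_num) ((hfree E1).1.trans
        (CAlgH3.idealDepth_congr JB (FlatOff.quotEquiv (B := B) (LocalizedModule S E1) (maximalIdeal D))).le))
  have hι : Bijective ι := by
    refine ValDepth.bijective_of_hasSk JB ι (fun x y h => i1 (congrArg Subtype.val h)) hSB hN fun P hP x => ?_
    obtain ⟨s, hs, h⟩ := FourTerm.exists_smul_eq_zero_rTensor P.asIdeal H.subtype vB Subtype.val_injective
      (LocalizedModule.map_surjective S v hv) hHv (hGB P hP) (u'T x.1) (by
        show sT (u'T x.1) = 0
        rw [hsu]; exact LinearMap.mem_ker.1 x.2)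
    obtain ⟨y, hy⟩ := (hex (s • x.1)).1 (by rw [map_smul, h])
    exact ⟨s, hs, y, Subtype.ext hy⟩
  refine (FourTerm.main (A := D) JB K0.subtype uB vB Subtype.val_injective hexK (LocalizedModule.map_exact S u v huv)
    (LocalizedModule.map_surjective S v hv) hGB (hfree E0).1 (le_trans (by norm_num) (hfree E1).1)).1.1 ?_
  let eK : EGA4.FibMod D B K0 ≃ₗ[B] (K0 ⊗[D] k) := FlatOff.quotEquiv (B := B) K0 (maximalIdeal D)
  exact (hN.trans (CAlgH3.idealDepth_congr JB (LinearEquiv.ofBijective ι hι)).ge).trans
    (CAlgH3.idealDepth_congr (M := EGA4.FibMod D B K0) (N := K0 ⊗[D] k) JB eK).ge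

end Base

end Groth.Agent.CAlg15.ValCrit
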